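import Cfsg.Agent.Lib.Forms.DicksonModular
import Cfsg.Agent.Lib.Forms.DicksonMax

/-!
# Two opposite transvections generate a group of even order
-/

set_option autoImplicit false
set_option linter.unusedSectionVars false

namespace Cfsg.Agent.Forms.Max.SympTensor.Even

open Matrix MulAction
open scoped MatrixGroups

variable {F : Type*} [Field F] [Fintype F]

/-- a group of odd characteristic containing opposite transvections has even order -/
theorem even_card (p : ℕ) [Fact p.Prime] [CharP F p] (hp2 : p ≠ 2) (G : Subgroup SL(2, F)) {a b : F}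
    (ha : a ≠ 0) (hb : b ≠ 0) (hu : Classical.GL2.uniSL a ∈ G) (hl : Classical.GL2.lowSL b ∈ G) :
    2 ∣ Nat.card G := by
  classical
  set H := G.map (KleinPSL.pi F) with hH
  refine dvd_trans ?_ (Subgroup.card_map_dvd (H := G) (f := KleinPSL.pi F))
  have h2 : (2 : F) ≠ 0 := Ring.two_ne_zero (by rwa [ringChar.eq F p])
  have hT := DicksonAction.twoPt (F := F) p
  set u := KleinPSL.pi F (Classical.GL2.uniSL a) with hu'
  set v := KleinPSL.pi F (Classical.GL2.lowSL b) with hv'
  have hu1 : u ≠ 1 := fun e => by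
    rcases KleinPSL.pi_eq_one.1 e with h | h <;>
      exact ha (by simpa [Classical.GL2.coe_uniSL] using congrFun (congrFun (congrArg Subtype.val h) 0) 1)
  have hv1 : v ≠ 1 := fun e => by
    rcases KleinPSL.pi_eq_one.1 e with h | h <;>
      exact hb (by simpa [Classical.GL2.coe_lowSL] using congrFun (congrFun (congrArg Subtype.val h) 1) 0)
  have huv : u * v ≠ v * u := fun e => by
    rw [hu', hv', ← map_mul, ← map_mul, KleinPSL.pi_eq_iff] at e
    rcases e with e | e
    · have := congrFun (congrFun (congrArg Subtype.val e) 0) 0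
      simp [Classical.GL2.coe_uniSL, Classical.GL2.coe_lowSL, Matrix.mul_apply, Fin.sum_univ_two] at this
      tauto
    · have h01 := congrFun (congrFun (congrArg Subtype.val e) 0) 1
      simp [Classical.GL2.coe_uniSL, Classical.GL2.coe_lowSL, Matrix.mul_apply, Fin.sum_univ_two] at h01
      exact mul_ne_zero h2 ha (by linear_combination h01)
  have hord : ∀ X : SL(2, F), (X : Matrix (Fin 2) (Fin 2) F).trace = 2 → KleinPSL.pi F X ≠ 1 →
      orderOf (KleinPSL.pi F X) = p := fun X ht hX =>
    (DicksonAction.orderOf_iff p X hX).2 (by rw [ht]; norm_num)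
  have hou : orderOf u = p := hord _ (by simp [Classical.GL2.coe_uniSL, trace_fin_two]; norm_num) hu1
  have hov : orderOf v = p := hord _ (by simp [Classical.GL2.coe_lowSL, trace_fin_two]; norm_num) hv1
  have hup : u ^ p = 1 := by rw [← hou, pow_orderOf_eq_one]
  have hvp : v ^ p = 1 := by rw [← hov, pow_orderOf_eq_one]
  have huH : u ∈ H := ⟨_, hu, rfl⟩
  have hvH : v ∈ H := ⟨_, hl, rfl⟩
  rcases DicksonModular.classify_modular (hT.subgroup H) (u := (⟨u, huH⟩ : H))
      (by rw [← Subgroup.orderOf_coe]; exact hou) with ⟨x, -, hfix⟩ | ⟨c, -, -, ⟨e⟩⟩ | ⟨-, ⟨e⟩⟩ | ⟨x, hx⟩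
  · exact absurd (DicksonMax.comm_of_fix p (hfix ⟨u, huH⟩) (hfix ⟨v, hvH⟩) hup hvp) huv
  · rw [Nat.card_congr e.toEquiv, DihedralGroup.nat_card]
    exact dvd_mul_right _ _
  · rw [Nat.card_congr e.toEquiv, nat_card_alternatingGroup, Nat.card_fin]
    norm_num
  · obtain ⟨hne, horb, -⟩ := hx
    have hd : (orbit H x).ncard ∣ Nat.card H := by
      rw [← index_stabilizer]; exact Subgroup.index_dvd_card _
    refine dvd_trans ?_ hd
    rw [horb]
    obtain ⟨s, hs⟩ := IsPGroup.iff_card.1 ((hT.subgroup H).isPGroup_pSub x)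
    rw [hs, ← even_iff_two_dvd, Nat.even_add_one, Nat.not_even_iff_odd]
    exact ((Fact.out : p.Prime).odd_of_ne_two hp2).pow

end Cfsg.Agent.Forms.Max.SympTensor.Even
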