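import Mathlib

/-!
# The group generated by two opposite families of quadratic elements

For square zero `e`, `f` the element `C = ef + fe` is central in the algebra they generate, and every
element `g` of the group generated by the `1 + te`, `1 + tf` has `g + g⁻¹` in the algebra generated by
`C`.  Hence involutions of this group are central, and the group is a `p`-group when `C` is nilpotent.
-/

set_option autoImplicit false
set_option linter.unusedSectionVars false

namespace Cfsg.Agent.Forms.Max.SympTensor.Pair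

variable {F A : Type*} [Field F] [Ring A] [Algebra F A]

/-- the units of the form `1 + te`, `1 + tf` -/
def gens (F : Type*) [Field F] [Algebra F A] (e f : A) : Set Aˣ :=
  {g | ∃ t : F, (g : A) = 1 + t • e ∨ (g : A) = 1 + t • f}

/-- the central element -/
def cen (e f : A) : A := e * f + f * e

/-- its algebra -/
def cenAlg (F : Type*) [Field F] [Algebra F A] (e f : A) : Subalgebra F A := Algebra.adjoin F {cen e f}

/-- the coefficient form of an element and of its inverse -/
def Quad (F : Type*) [Field F] [Algebra F A] (e f : A) (g : Aˣ) : Prop :=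
  ∃ a b c d : A, a ∈ cenAlg F e f ∧ b ∈ cenAlg F e f ∧ c ∈ cenAlg F e f ∧ d ∈ cenAlg F e f ∧
    (g : A) = 1 + cen e f * a + b * e + c * f + d * (e * f) ∧
    ((g⁻¹ : Aˣ) : A) = 1 + cen e f * a + d * cen e f - b * e - c * f - d * (e * f)

variable {e f : A}

theorem cen_mem : cen e f ∈ cenAlg F e f := Algebra.subset_adjoin rfl

variable (he : e * e = 0) (hf : f * f = 0)
include he hf

theorem comm_cen_left : Commute e (cen e f) := by
  show e * cen e f = cen e f * e
  simp only [cen, mul_add, add_mul, mul_assoc, he, mul_zero, add_zero]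
  simp only [← mul_assoc, he, zero_mul, zero_add]

theorem comm_cen_right : Commute f (cen e f) := by
  show f * cen e f = cen e f * f
  simp only [cen, mul_add, add_mul, mul_assoc, hf, mul_zero, zero_add]
  simp only [← mul_assoc, hf, zero_mul, add_zero]

theorem comm_of_mem {z : A} (hz : z ∈ cenAlg F e f) :
    Commute z e ∧ Commute z f ∧ Commute z (cen e f) := by
  induction hz using Algebra.adjoin_induction with
  | mem x hx =>
    cases hx
    exact ⟨(comm_cen_left he hf).symm, (comm_cen_right he hf).symm, Commute.refl _⟩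
  | algebraMap r => exact ⟨Algebra.commutes r e, Algebra.commutes r f, Algebra.commutes r _⟩
  | add x y _ _ hx hy => exact ⟨hx.1.add_left hy.1, hx.2.1.add_left hy.2.1, hx.2.2.add_left hy.2.2⟩
  | mul x y _ _ hx hy => exact ⟨hx.1.mul_left hy.1, hx.2.1.mul_left hy.2.1, hx.2.2.mul_left hy.2.2⟩

theorem quad_one : Quad F e f 1 :=
  ⟨0, 0, 0, 0, zero_mem _, zero_mem _, zero_mem _, zero_mem _, by simp, by simp⟩

theorem quad_mul_left {g u : Aˣ} (hg : Quad F e f g) {t : F} (hu : (u : A) = 1 + t • e) :
    Quad F e f (g * u) := by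
  have hu' : ((u⁻¹ : Aˣ) : A) = 1 - t • e := by
    refine Units.inv_eq_of_mul_eq_one_right ?_
    rw [hu]; simp [add_mul, mul_sub, he]
  obtain ⟨a, b, c, d, ha, hb, hc, hd, h1, h2⟩ := hg
  obtain ⟨cbe, -, -⟩ := comm_of_mem he hf hb
  obtain ⟨cce, -, ccC⟩ := comm_of_mem he hf hc
  obtain ⟨cde, -, cdC⟩ := comm_of_mem he hf hd
  obtain ⟨cae, -, -⟩ := comm_of_mem he hf ha
  have hfe : f * e = cen e f - e * f := by rw [cen]; abel
  have hefe : e * f * e = cen e f * e := by rw [cen, add_mul, mul_assoc f e e, he, mul_zero, add_zero]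
  have hef : ∀ x : A, e * (e * x) = 0 := fun x => by rw [← mul_assoc, he, zero_mul]
  refine ⟨a + t • c, b + t • (1 + cen e f * a) + t • (d * cen e f), c, d - t • c,
    add_mem ha (Subalgebra.smul_mem _ hc t), add_mem (add_mem hb (Subalgebra.smul_mem _
      (add_mem (one_mem _) (mul_mem cen_mem ha)) t)) (Subalgebra.smul_mem _ (mul_mem hd cen_mem) t), hc,
    sub_mem hd (Subalgebra.smul_mem _ hc t), ?_, ?_⟩
  · rw [Units.val_mul, h1, hu]
    simp only [mul_add, add_mul, mul_one, one_mul, mul_smul_comm, smul_mul_assoc, mul_assoc, he, hfe,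
      hef, (comm_cen_left he hf).eq, mul_zero, mul_sub, smul_sub, sub_mul, smul_add, smul_zero, ← ccC.eq, sub_zero]
    abel
  · rw [mul_inv_rev, Units.val_mul, h2, hu']
    have eC : e * cen e f = cen e f * e := (comm_cen_left he hf).eq
    have eCa : e * (cen e f * a) = cen e f * (a * e) := by
      rw [← mul_assoc, eC, mul_assoc, cae.eq]
    have eDC : e * (d * cen e f) = d * (cen e f * e) := by rw [← mul_assoc, ← cde.eq, mul_assoc, eC]
    have ebe : e * (b * e) = 0 := by rw [← mul_assoc, ← cbe.eq, mul_assoc, he, mul_zero]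
    have ecf : e * (c * f) = c * (e * f) := by rw [← mul_assoc, ← cce.eq, mul_assoc]
    have edef : e * (d * (e * f)) = 0 := by rw [← mul_assoc, ← cde.eq, mul_assoc, hef, mul_zero]
    simp only [mul_add, mul_sub, add_mul, sub_mul, mul_one, one_mul, smul_mul_assoc, mul_smul_comm, smul_add,
      smul_sub, eCa, eDC, ebe, ecf, edef, smul_zero, sub_zero, ← ccC.eq, mul_assoc]
    abel

theorem quad_mul_right {g u : Aˣ} (hg : Quad F e f g) {t : F} (hu : (u : A) = 1 + t • f) :
    Quad F e f (g * u) := by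
  have hu' : ((u⁻¹ : Aˣ) : A) = 1 - t • f := by
    refine Units.inv_eq_of_mul_eq_one_right ?_
    rw [hu]; simp [add_mul, mul_sub, hf]
  obtain ⟨a, b, c, d, ha, hb, hc, hd, h1, h2⟩ := hg
  obtain ⟨-, cbf, cbC⟩ := comm_of_mem he hf hb
  obtain ⟨-, ccf, -⟩ := comm_of_mem he hf hc
  obtain ⟨-, cdf, -⟩ := comm_of_mem he hf hd
  obtain ⟨-, caf, -⟩ := comm_of_mem he hf ha
  have hfe : f * e = cen e f - e * f := by rw [cen]; abel
  refine ⟨a, b, c + t • (1 + cen e f * a), d + t • b, ha, hb,
    add_mem hc (Subalgebra.smul_mem _ (add_mem (one_mem _) (mul_mem cen_mem ha)) t),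
    add_mem hd (Subalgebra.smul_mem _ hb t), ?_, ?_⟩
  · rw [Units.val_mul, h1, hu]
    simp only [mul_add, add_mul, mul_one, one_mul, mul_smul_comm, smul_mul_assoc, mul_assoc, hf,
      mul_zero, smul_add, smul_zero]
    abel
  · rw [mul_inv_rev, Units.val_mul, h2, hu']
    have fC : f * cen e f = cen e f * f := (comm_cen_right he hf).eq
    have fCa : f * (cen e f * a) = cen e f * (a * f) := by
      rw [← mul_assoc, fC, mul_assoc, caf.eq]
    have fDC : f * (d * cen e f) = d * (cen e f * f) := by rw [← mul_assoc, ← cdf.eq, mul_assoc, fC]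
    have fbe : f * (b * e) = b * cen e f - b * (e * f) := by
      rw [← mul_assoc, ← cbf.eq, mul_assoc, hfe, mul_sub]
    have fcf : f * (c * f) = 0 := by rw [← mul_assoc, ← ccf.eq, mul_assoc, hf, mul_zero]
    have fdef : f * (d * (e * f)) = d * (cen e f * f) := by
      rw [← mul_assoc, ← cdf.eq, mul_assoc]
      congr 1
      rw [cen, add_mul, mul_assoc e f f, hf, mul_zero, zero_add, mul_assoc]
    simp only [mul_add, mul_sub, add_mul, sub_mul, mul_one, one_mul, smul_mul_assoc, mul_smul_comm, smul_add,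
      smul_sub, fCa, fDC, fbe, fcf, fdef, smul_zero, sub_zero, mul_assoc]
    abel

theorem gens_inv {u : Aˣ} (hu : u ∈ gens F e f) : u⁻¹ ∈ gens F e f := by
  obtain ⟨t, hu | hu⟩ := hu
  · exact ⟨-t, Or.inl (Units.inv_eq_of_mul_eq_one_right (by rw [hu]; simp [add_mul, mul_add, he]))⟩
  · exact ⟨-t, Or.inr (Units.inv_eq_of_mul_eq_one_right (by rw [hu]; simp [add_mul, mul_add, hf]))⟩

theorem quad_of_mem {g : Aˣ} (hg : g ∈ Subgroup.closure (gens F e f)) : Quad F e f g := by
  induction hg using Subgroup.closure_induction_right with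
  | one => exact quad_one he hf
  | mul_right x y _ hy ih =>
    obtain ⟨t, hy | hy⟩ := hy
    exacts [quad_mul_left he hf ih hy, quad_mul_right he hf ih hy]
  | mul_inv_cancel x y _ hy ih =>
    obtain ⟨t, hy | hy⟩ := gens_inv he hf hy
    exacts [quad_mul_left he hf ih hy, quad_mul_right he hf ih hy]

/-- involutions are central -/
theorem central_of_involution (h2 : (2 : F) ≠ 0) {g : Aˣ} (hg : g ∈ Subgroup.closure (gens F e f))
    (hg2 : g * g = 1) : (g : A) ∈ cenAlg F e f := by
  obtain ⟨a, b, c, d, ha, -, -, hd, h1, h3⟩ := quad_of_mem he hf hg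
  rw [inv_eq_of_mul_eq_one_left hg2] at h3
  have h4 : (2 : F) • (g : A) = (2 : F) • (1 + cen e f * a) + d * cen e f := by
    rw [two_smul, two_smul]
    nth_rewrite 1 [h1]
    rw [h3]; abel
  have h5 : (2 : F)⁻¹ • ((2 : F) • (g : A)) ∈ cenAlg F e f := by
    rw [h4]
    exact Subalgebra.smul_mem _ (add_mem (Subalgebra.smul_mem _
      (add_mem (one_mem _) (mul_mem cen_mem ha)) _) (mul_mem hd cen_mem)) _
  rwa [inv_smul_smul₀ h2] at h5

/-- a nilpotent central element gives unipotent elements -/
theorem isPGroup_of_nilpotent (p : ℕ) [Fact p.Prime] [CharP A p] (hn : IsNilpotent (cen e f)) :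
    IsPGroup p (Subgroup.closure (gens F e f)) := by
  rintro ⟨g, hg⟩
  obtain ⟨a, b, c, d, ha, hb, hc, hd, h1, h2⟩ := quad_of_mem he hf hg
  set N := cen e f * (a + a + d) with hN
  have hNn : IsNilpotent N :=
    Commute.isNilpotent_mul_right ((comm_of_mem he hf (add_mem (add_mem ha ha) hd)).2.2.symm) hn
  have hsum : (g : A) + ((g⁻¹ : Aˣ) : A) = 2 + N := by
    rw [h1, h2, hN, mul_add, mul_add, ← ((comm_of_mem he hf hd).2.2).eq, ← one_add_one_eq_two]
    abel
  have hsq : ((g : A) - 1) ^ 2 = N * g := by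
    have : N = (g : A) + ((g⁻¹ : Aˣ) : A) - 2 := by rw [hsum]; abel
    rw [this, sq, sub_mul, sub_mul, add_mul, Units.inv_mul, mul_sub, one_mul, mul_one, two_mul]
    abel
  have hcomm : Commute N (g : A) := by
    have hC : ∀ {z : A}, z ∈ cenAlg F e f → ∀ {w : A}, w ∈ cenAlg F e f → Commute z w := by
      intro z hz w hw
      induction hw using Algebra.adjoin_induction with
      | mem x hx => cases hx; exact (comm_of_mem he hf hz).2.2
      | algebraMap r => exact (Algebra.commutes r z).symm
      | add x y _ _ hx hy => exact hx.add_right hy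
      | mul x y _ _ hx hy => exact hx.mul_right hy
    have hNm : N ∈ cenAlg F e f := mul_mem cen_mem (add_mem (add_mem ha ha) hd)
    obtain ⟨k1, k2, k3⟩ := comm_of_mem he hf hNm
    rw [h1]
    exact ((((Commute.one_right N).add_right (hC hNm (mul_mem cen_mem ha))).add_right
      ((hC hNm hb).mul_right k1)).add_right ((hC hNm hc).mul_right k2)).add_right
      ((hC hNm hd).mul_right (k1.mul_right k2))
  obtain ⟨s, hs⟩ := Commute.isNilpotent_mul_right hcomm hNn
  obtain ⟨r, hr⟩ : ∃ r, 2 * s ≤ p ^ r := ⟨2 * s, (Nat.lt_pow_self (Fact.out : p.Prime).one_lt).le⟩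
  refine ⟨r, Subtype.ext (Units.ext ?_)⟩
  show ((g ^ p ^ r : Aˣ) : A) = 1
  have hz : ((g : A) - 1) ^ p ^ r = 0 := by
    refine pow_eq_zero_of_le hr ?_
    rw [pow_mul, hsq, hs]
  rw [sub_pow_char_pow_of_commute (h := Commute.one_right (g : A)) (p := p), one_pow, sub_eq_zero] at hz
  rw [Units.val_pow_eq_pow_val, hz]

end Cfsg.Agent.Forms.Max.SympTensor.Pair
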