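import Mathlib
import Cfsg.Agent.Lib.Forms.Max.SympTensor.Pair
import Cfsg.Agent.Lib.Forms.Max.SympTensor.Even

/-!
# A component of the group generated by two quadratic elements: a subgroup of `SL₂` of a field
-/

set_option autoImplicit false
set_option linter.unusedSectionVars false

namespace Cfsg.Agent.Forms.Max.SympTensor

open Matrix Polynomial
open scoped MatrixGroups

namespace Pair

variable {F A : Type*} [Field F] [Ring A] [Algebra F A] {e f : A}

theorem cenAlg_form {z : A} (hz : z ∈ cenAlg F e f) :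
    ∃ c : F, ∃ y ∈ cenAlg F e f, z = algebraMap F A c + cen e f * y := by
  induction hz using Algebra.adjoin_induction with
  | mem x hx =>
    cases hx
    exact ⟨0, 1, one_mem _, by simp⟩
  | algebraMap r => exact ⟨r, 0, zero_mem _, by simp⟩
  | add x y _ _ hx hy =>
    obtain ⟨c, a, ha, rfl⟩ := hx
    obtain ⟨d, b, hb, rfl⟩ := hy
    exact ⟨c + d, a + b, add_mem ha hb, by rw [map_add, mul_add]; abel⟩
  | mul x y _ hy' hx hy =>
    obtain ⟨c, a, ha, rfl⟩ := hx
    obtain ⟨d, b, hb, rfl⟩ := hy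
    refine ⟨c * d, c • b + a * (algebraMap F A d + cen e f * b),
      add_mem (Subalgebra.smul_mem _ hb c) (mul_mem ha hy'), ?_⟩
    rw [map_mul, mul_add (cen e f), mul_smul_comm, Algebra.smul_def]
    simp only [add_mul, mul_add, mul_assoc]
    abel

variable (he : e * e = 0) (hf : f * f = 0)
include he hf

theorem comm_cenAlg {g : Aˣ} (hg : g ∈ Subgroup.closure (gens F e f)) {z : A} (hz : z ∈ cenAlg F e f) :
    Commute z (g : A) := by
  obtain ⟨ze, zf, zC⟩ := comm_of_mem he hf hz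
  induction hg using Subgroup.closure_induction with
  | mem x hx =>
    obtain ⟨t, hx | hx⟩ := hx <;> rw [hx]
    exacts [(Commute.one_right z).add_right (ze.smul_right t), (Commute.one_right z).add_right (zf.smul_right t)]
  | one => exact Commute.one_right z
  | mul a b _ _ ha hb => exact ha.mul_right hb
  | inv a _ ha => exact ha.units_inv_right

theorem sq_sub_one {g : Aˣ} (hg : g ∈ Subgroup.closure (gens F e f)) :
    ∃ y ∈ cenAlg F e f, ((g : A) - 1) ^ 2 = cen e f * y * g := by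
  obtain ⟨a, b, c, d, ha, hb, hc, hd, h1, h2⟩ := quad_of_mem he hf hg
  refine ⟨a + a + d, add_mem (add_mem ha ha) hd, ?_⟩
  have hsum : cen e f * (a + a + d) = (g : A) + ((g⁻¹ : Aˣ) : A) - 2 := by
    rw [h1, h2, mul_add, mul_add, ← ((comm_of_mem he hf hd).2.2).eq, ← one_add_one_eq_two]
    abel
  rw [hsum, sq, sub_mul, sub_mul, add_mul, Units.inv_mul, mul_sub, one_mul, mul_one, two_mul]
  abel

end Pair

namespace Comp

variable {F : Type*} [Field F] {ι : Type} [Fintype ι] [DecidableEq ι]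

local notation "Vec" => (ι → F)

open Pair

/-- evaluation of a class modulo `π` at a matrix and a vector -/
noncomputable def ψ (C : Matrix ι ι F) {π : F[X]} (hm : π.Monic) (x : ι → F) :
    AdjoinRoot π →ₗ[F] (ι → F) where
  toFun s := aeval C (AdjoinRoot.modByMonicHom hm s) *ᵥ x
  map_add' s t := by rw [map_add, map_add, Matrix.add_mulVec]
  map_smul' c s := by rw [map_smul, map_smul, Matrix.smul_mulVec, RingHom.id_apply]

variable {C : Matrix ι ι F} {π : F[X]} (hm : π.Monic)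

theorem ψ_mk {x : Vec} (hx : aeval C π *ᵥ x = 0) (P : F[X]) :
    ψ C hm x (AdjoinRoot.mk π P) = aeval C P *ᵥ x := by
  show aeval C (AdjoinRoot.modByMonicHom hm (AdjoinRoot.mk π P)) *ᵥ x = _
  conv_rhs => rw [← modByMonic_add_div P π]
  rw [AdjoinRoot.modByMonicHom_mk, map_add, Matrix.add_mulVec, mul_comm π, map_mul, ← Matrix.mulVec_mulVec,
    hx, Matrix.mulVec_zero, add_zero]

theorem ψ_one {x : Vec} (hx : aeval C π *ᵥ x = 0) : ψ C hm x 1 = x := by
  rw [← map_one (AdjoinRoot.mk π), ψ_mk hm hx, map_one, Matrix.one_mulVec]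

theorem ψ_mul {x : Vec} (hx : aeval C π *ᵥ x = 0) (P : F[X]) (s : AdjoinRoot π) :
    ψ C hm x (AdjoinRoot.mk π P * s) = aeval C P *ᵥ ψ C hm x s := by
  obtain ⟨Q, rfl⟩ := AdjoinRoot.mk_surjective s
  rw [← map_mul, ψ_mk hm hx, ψ_mk hm hx, map_mul, Matrix.mulVec_mulVec]

theorem aeval_commute {N : Matrix ι ι F} (h : Commute N C) (P : F[X]) : Commute N (aeval C P) := by
  induction P using Polynomial.induction_on' with
  | add p q hp hq => rw [map_add]; exact hp.add_right hq
  | monomial n a =>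
    rw [Polynomial.aeval_monomial]
    exact Commute.mul_right (show Commute N _ from (Algebra.commutes a N).symm) (h.pow_right n)

theorem mulVec_ψ {N : Matrix ι ι F} (h : Commute N C) (x : Vec) (s : AdjoinRoot π) :
    N *ᵥ ψ C hm x s = ψ C hm (N *ᵥ x) s := by
  show N *ᵥ (aeval C _ *ᵥ x) = aeval C _ *ᵥ (N *ᵥ x)
  rw [Matrix.mulVec_mulVec, Matrix.mulVec_mulVec, (aeval_commute h _).eq]

end Comp

variable {F : Type*} [Field F] {ι : Type} [Fintype ι] [DecidableEq ι]

/-- a non-nilpotent matrix has an irreducible factor other than `X` with a non-zero kernel -/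
theorem exists_factor {C : Matrix ι ι F} (h : ¬ IsNilpotent C) :
    ∃ π : F[X], Irreducible π ∧ π.Monic ∧ π.coeff 0 ≠ 0 ∧ ∃ x : ι → F, x ≠ 0 ∧ aeval C π *ᵥ x = 0 := by
  classical
  set P := minpoly F C with hPdef
  have hint : IsIntegral F C := Algebra.IsIntegral.isIntegral C
  have hP0 : P ≠ 0 := minpoly.ne_zero hint
  have hPm : P.Monic := minpoly.monic hint
  obtain ⟨π, hπ, hc⟩ : ∃ π ∈ UniqueFactorizationMonoid.normalizedFactors P, π.coeff 0 ≠ 0 := by
    by_contra hc
    push Not at hc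
    have hX : ∀ π ∈ UniqueFactorizationMonoid.normalizedFactors P, π = X := fun π hπ => by
      have hir := UniqueFactorizationMonoid.irreducible_of_normalized_factor π hπ
      have hmon : π.Monic := by
        have := UniqueFactorizationMonoid.normalize_normalized_factor π hπ
        rw [← this]
        exact Polynomial.monic_normalize hir.ne_zero
      exact (eq_of_monic_of_associated monic_X hmon
        (irreducible_X.associated_of_dvd hir (X_dvd_iff.2 (hc π hπ)))).symm
    have e : P = X ^ Multiset.card (UniqueFactorizationMonoid.normalizedFactors P) := by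
      conv_lhs => rw [← normalize_eq_self_iff_monic hP0 |>.2 hPm]
      rw [← UniqueFactorizationMonoid.prod_normalizedFactors_eq hP0]
      exact (congrArg Multiset.prod (Multiset.eq_replicate.2 ⟨rfl, hX⟩)).trans (Multiset.prod_replicate _ _)
    refine h ⟨Multiset.card (UniqueFactorizationMonoid.normalizedFactors P), ?_⟩
    have := minpoly.aeval F C
    rwa [← hPdef, e, map_pow, aeval_X] at this
  have hir := UniqueFactorizationMonoid.irreducible_of_normalized_factor π hπ
  have hmon : π.Monic := by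
    have := UniqueFactorizationMonoid.normalize_normalized_factor π hπ
    rw [← this]
    exact Polynomial.monic_normalize hir.ne_zero
  refine ⟨π, hir, hmon, hc, Matrix.exists_mulVec_eq_zero_iff.2 ?_⟩
  by_contra hdet
  obtain ⟨q, hq⟩ := UniqueFactorizationMonoid.dvd_of_mem_normalizedFactors hπ
  have hu : IsUnit (aeval C π) := (Matrix.isUnit_iff_isUnit_det _).2 (Ne.isUnit hdet)
  have hqC : aeval C q = 0 := hu.mul_right_eq_zero.1 (by rw [← map_mul, ← hq]; exact minpoly.aeval F C)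
  have hq0 : q ≠ 0 := fun e => hP0 (by rw [hq, e, mul_zero])
  have := Polynomial.natDegree_le_natDegree (minpoly.degree_le_of_ne_zero F C hq0 hqC)
  rw [← hPdef, hq, natDegree_mul hir.ne_zero hq0] at this
  have := hir.natDegree_pos
  omega

/-- the data of a component -/
structure CompData (F : Type*) [Field F] (ι : Type) [Fintype ι] [DecidableEq ι] (e f : Matrix ι ι F) where
  /-- the polynomial -/
  π : F[X]
  irr : Irreducible π
  monic : π.Monic
  coeff : π.coeff 0 ≠ 0
  /-- the first basis vector -/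
  v : ι → F
  v_ne : v ≠ 0
  hπ : aeval (Pair.cen e f) π *ᵥ v = 0
  hev : e *ᵥ v = 0
  he : e * e = 0
  hf : f * f = 0

namespace CompData

variable {e f : Matrix ι ι F}

theorem exists_of_not_nilpotent (he : e * e = 0) (hf : f * f = 0) (h : ¬ IsNilpotent (Pair.cen e f)) :
    ∃ K : CompData F ι e f, ∃ x, e *ᵥ x = K.v := by
  obtain ⟨π, hir, hm, hc, x, hx0, hx⟩ := exists_factor h
  have hC := Pair.comm_cen_left he hf
  have hCf := Pair.comm_cen_right he hf
  have hstab : ∀ N : Matrix ι ι F, Commute N (Pair.cen e f) → ∀ y, aeval (Pair.cen e f) π *ᵥ y = 0 →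
      aeval (Pair.cen e f) π *ᵥ (N *ᵥ y) = 0 := fun N hN y hy => by
    rw [Matrix.mulVec_mulVec, ← (Comp.aeval_commute hN π).eq, ← Matrix.mulVec_mulVec, hy, Matrix.mulVec_zero]
  obtain ⟨y, hy, hey⟩ : ∃ y, aeval (Pair.cen e f) π *ᵥ y = 0 ∧ e *ᵥ y ≠ 0 := by
    by_contra hcon
    push Not at hcon
    have hCx : Pair.cen e f *ᵥ x = 0 := by
      rw [Pair.cen, Matrix.add_mulVec, ← Matrix.mulVec_mulVec, ← Matrix.mulVec_mulVec, hcon x hx,
        Matrix.mulVec_zero, add_zero, hcon _ (hstab f hCf x hx)]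
    have h0 := hx
    rw [← Polynomial.X_mul_divX_add π, map_add, Matrix.add_mulVec, mul_comm, map_mul, aeval_X,
      ← Matrix.mulVec_mulVec, hCx, Matrix.mulVec_zero, zero_add, aeval_C, Algebra.algebraMap_eq_smul_one,
      Matrix.smul_mulVec, Matrix.one_mulVec] at h0
    exact hx0 ((smul_eq_zero.1 h0).resolve_left hc)
  exact ⟨⟨π, hir, hm, hc, e *ᵥ y, hey, hstab e hC y hy, by rw [Matrix.mulVec_mulVec, he, Matrix.zero_mulVec],
    he, hf⟩, y, rfl⟩

variable (K : CompData F ι e f)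

instance fact : Fact (Irreducible K.π) := ⟨K.irr⟩

/-- the second basis vector -/
def w : ι → F := f *ᵥ K.v

/-- the eigenvalue -/
noncomputable def lam : AdjoinRoot K.π := AdjoinRoot.root K.π

theorem lam_ne_zero : K.lam ≠ 0 := by
  intro h
  have h' : AdjoinRoot.mk K.π X = 0 := by rw [AdjoinRoot.mk_X]; exact h
  rw [AdjoinRoot.mk_eq_zero] at h'
  have := eq_of_monic_of_associated K.monic monic_X (K.irr.associated_of_dvd irreducible_X h')
  exact K.coeff (by rw [this]; simp)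

theorem hπw : aeval (Pair.cen e f) K.π *ᵥ K.w = 0 := by
  rw [w, Matrix.mulVec_mulVec, ← (Comp.aeval_commute (Pair.comm_cen_right K.he K.hf) K.π).eq,
    ← Matrix.mulVec_mulVec, K.hπ, Matrix.mulVec_zero]

theorem e_w : e *ᵥ K.w = Pair.cen e f *ᵥ K.v := by
  rw [w, Pair.cen, Matrix.add_mulVec, ← Matrix.mulVec_mulVec, ← Matrix.mulVec_mulVec, K.hev,
    Matrix.mulVec_zero, add_zero]

theorem f_w : f *ᵥ K.w = 0 := by rw [w, Matrix.mulVec_mulVec, K.hf, Matrix.zero_mulVec]

/-- the embedding of the two-dimensional space -/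
noncomputable def emb : (AdjoinRoot K.π × AdjoinRoot K.π) →ₗ[F] (ι → F) :=
  (Comp.ψ (Pair.cen e f) K.monic K.v).coprod (Comp.ψ (Pair.cen e f) K.monic K.w)

theorem emb_apply (s t : AdjoinRoot K.π) :
    K.emb (s, t) = Comp.ψ (Pair.cen e f) K.monic K.v s + Comp.ψ (Pair.cen e f) K.monic K.w t := rfl

theorem ψ_lam {x : ι → F} (hx : aeval (Pair.cen e f) K.π *ᵥ x = 0) (s : AdjoinRoot K.π) :
    Comp.ψ (Pair.cen e f) K.monic x (K.lam * s) = Pair.cen e f *ᵥ Comp.ψ (Pair.cen e f) K.monic x s := by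
  rw [lam, ← AdjoinRoot.mk_X, Comp.ψ_mul K.monic hx, aeval_X]

theorem e_emb (s t : AdjoinRoot K.π) : e *ᵥ K.emb (s, t) = K.emb (K.lam * t, 0) := by
  have hC := Pair.comm_cen_left K.he K.hf
  rw [emb_apply, emb_apply, Matrix.mulVec_add, Comp.mulVec_ψ K.monic hC, Comp.mulVec_ψ K.monic hC, K.hev,
    K.e_w, K.ψ_lam K.hπ, ← Comp.mulVec_ψ K.monic (Commute.refl _), map_zero, add_zero]
  simp [Comp.ψ]

theorem f_emb (s t : AdjoinRoot K.π) : f *ᵥ K.emb (s, t) = K.emb (0, s) := by
  have hC := Pair.comm_cen_right K.he K.hf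
  rw [emb_apply, emb_apply, Matrix.mulVec_add, Comp.mulVec_ψ K.monic hC, Comp.mulVec_ψ K.monic hC, K.f_w,
    map_zero, zero_add]
  simp [Comp.ψ, w]

theorem C_emb (s t : AdjoinRoot K.π) :
    Pair.cen e f *ᵥ K.emb (s, t) = K.emb (K.lam * s, K.lam * t) := by
  rw [emb_apply, emb_apply, Matrix.mulVec_add, K.ψ_lam K.hπ, K.ψ_lam K.hπw]

theorem ψ_inj {x : ι → F} (hx : aeval (Pair.cen e f) K.π *ᵥ x = 0) (hx0 : x ≠ 0) {s : AdjoinRoot K.π}
    (h : Comp.ψ (Pair.cen e f) K.monic x s = 0) : s = 0 := by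
  by_contra hs
  obtain ⟨P, hP⟩ := AdjoinRoot.mk_surjective (g := K.π) s⁻¹
  have := Comp.ψ_mul K.monic hx P s
  rw [hP, inv_mul_cancel₀ hs, Comp.ψ_one K.monic hx, h, Matrix.mulVec_zero] at this
  exact hx0 this

theorem emb_inj {s t : AdjoinRoot K.π} (h : K.emb (s, t) = 0) : s = 0 ∧ t = 0 := by
  have h1 : e *ᵥ K.emb (s, t) = 0 := by rw [h, Matrix.mulVec_zero]
  rw [K.e_emb, emb_apply, map_zero, add_zero] at h1
  obtain rfl := (mul_eq_zero.1 (K.ψ_inj K.hπ K.v_ne h1)).resolve_left K.lam_ne_zero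
  rw [emb_apply, map_zero, add_zero] at h
  exact ⟨K.ψ_inj K.hπ K.v_ne h, rfl⟩

theorem emb_injective : Function.Injective K.emb :=
  (injective_iff_map_eq_zero _).2 fun x hx => Prod.ext (K.emb_inj hx).1 (K.emb_inj hx).2

/-- `g` acts on the component as `X` -/
def Acts (g : (Matrix ι ι F)ˣ) (X : SL(2, AdjoinRoot K.π)) : Prop :=
  ∀ s t, (g : Matrix ι ι F) *ᵥ K.emb (s, t) = K.emb (X.1 0 0 * s + X.1 0 1 * t, X.1 1 0 * s + X.1 1 1 * t)

theorem acts_one : K.Acts 1 1 := fun s t => by simp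

theorem Acts.mul {g h : (Matrix ι ι F)ˣ} {X Y : SL(2, AdjoinRoot K.π)} (hg : K.Acts g X) (hh : K.Acts h Y) :
    K.Acts (g * h) (X * Y) := fun s t => by
  rw [Units.val_mul, ← Matrix.mulVec_mulVec, hh, hg, Matrix.SpecialLinearGroup.coe_mul]
  simp only [Matrix.mul_apply, Fin.sum_univ_two]
  congr 2 <;> ring

theorem Acts.unique {g : (Matrix ι ι F)ˣ} {X Y : SL(2, AdjoinRoot K.π)} (hX : K.Acts g X) (hY : K.Acts g Y) :
    X = Y := by
  refine Subtype.ext (Matrix.ext fun i j => ?_)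
  have h10 := K.emb_injective ((hX 1 0).symm.trans (hY 1 0))
  have h01 := K.emb_injective ((hX 0 1).symm.trans (hY 0 1))
  simp only [mul_one, mul_zero, add_zero, zero_add, Prod.mk.injEq] at h10 h01
  fin_cases i <;> fin_cases j
  exacts [h10.1, h01.1, h10.2, h01.2]

theorem Acts.inv {g : (Matrix ι ι F)ˣ} {X : SL(2, AdjoinRoot K.π)} (hg : K.Acts g X) : K.Acts g⁻¹ X⁻¹ := by
  intro s t
  set r := (X⁻¹).1 0 0 * s + (X⁻¹).1 0 1 * t
  set q := (X⁻¹).1 1 0 * s + (X⁻¹).1 1 1 * t
  have hdet : X.1 0 0 * X.1 1 1 - X.1 0 1 * X.1 1 0 = 1 := by rw [← det_fin_two]; exact X.2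
  have h1 := hg r q
  have h2 : X.1 0 0 * r + X.1 0 1 * q = s ∧ X.1 1 0 * r + X.1 1 1 * q = t := by
    simp only [r, q, Matrix.SpecialLinearGroup.coe_inv, Matrix.adjugate_fin_two]
    simp
    constructor
    · linear_combination s * hdet
    · linear_combination t * hdet
  rw [h2.1, h2.2] at h1
  rw [← h1, Matrix.mulVec_mulVec, ← Units.val_mul, inv_mul_cancel, Units.val_one, Matrix.one_mulVec]

/-- the image group -/
def image : Subgroup SL(2, AdjoinRoot K.π) where
  carrier := {X | ∃ g ∈ Subgroup.closure (Pair.gens F e f), K.Acts g X}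
  one_mem' := ⟨1, one_mem _, K.acts_one⟩
  mul_mem' := fun ⟨g, hg, h1⟩ ⟨g', hg', h2⟩ => ⟨g * g', mul_mem hg hg', h1.mul K h2⟩
  inv_mem' := fun ⟨g, hg, h1⟩ => ⟨g⁻¹, inv_mem hg, h1.inv K⟩

theorem mem_image {X : SL(2, AdjoinRoot K.π)} :
    X ∈ K.image ↔ ∃ g ∈ Subgroup.closure (Pair.gens F e f), K.Acts g X := Iff.rfl

theorem acts_of_e {g : (Matrix ι ι F)ˣ} {t : F} (hg : (g : Matrix ι ι F) = 1 + t • e) :
    K.Acts g (Classical.GL2.uniSL (t • K.lam)) := fun s r => by
  rw [hg, Matrix.add_mulVec, Matrix.one_mulVec, Matrix.smul_mulVec, K.e_emb, ← map_smul, ← map_add]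
  simp [Classical.GL2.coe_uniSL, smul_mul_assoc]

theorem acts_of_f {g : (Matrix ι ι F)ˣ} {t : F} (hg : (g : Matrix ι ι F) = 1 + t • f) :
    K.Acts g (Classical.GL2.lowSL (algebraMap F _ t)) := fun s r => by
  rw [hg, Matrix.add_mulVec, Matrix.one_mulVec, Matrix.smul_mulVec, K.f_emb, ← map_smul, ← map_add]
  simp [Classical.GL2.coe_lowSL, Algebra.smul_def, add_comm]

theorem exists_acts {g : (Matrix ι ι F)ˣ} (hg : g ∈ Subgroup.closure (Pair.gens F e f)) :
    ∃ X, K.Acts g X := by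
  induction hg using Subgroup.closure_induction with
  | mem x hx =>
    obtain ⟨t, hx | hx⟩ := hx
    exacts [⟨_, K.acts_of_e hx⟩, ⟨_, K.acts_of_f hx⟩]
  | one => exact ⟨1, K.acts_one⟩
  | mul a b _ _ ha hb =>
    obtain ⟨X, hX⟩ := ha
    obtain ⟨Y, hY⟩ := hb
    exact ⟨X * Y, hX.mul K hY⟩
  | inv a _ ha =>
    obtain ⟨X, hX⟩ := ha
    exact ⟨X⁻¹, hX.inv K⟩

theorem Acts.pow {g : (Matrix ι ι F)ˣ} {X : SL(2, AdjoinRoot K.π)} (hg : K.Acts g X) (j : ℕ) :
    K.Acts (g ^ j) (X ^ j) := by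
  induction j with
  | zero => simpa using K.acts_one
  | succ j ih => rw [pow_succ, pow_succ]; exact ih.mul K hg

/-- the units `1 + te`, `1 + tf` -/
theorem exists_unit (he : e * e = 0) (t : F) : ∃ g : (Matrix ι ι F)ˣ, (g : Matrix ι ι F) = 1 + t • e :=
  ⟨⟨1 + t • e, 1 - t • e, by simp [add_mul, mul_sub, he], by simp [sub_mul, mul_add, he]⟩, rfl⟩

theorem uni_mem (t : F) : Classical.GL2.uniSL (t • K.lam) ∈ K.image := by
  obtain ⟨g, hg⟩ := exists_unit K.he t
  exact ⟨g, Subgroup.subset_closure ⟨t, Or.inl hg⟩, K.acts_of_e hg⟩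

theorem low_mem (t : F) : Classical.GL2.lowSL (algebraMap F _ t) ∈ K.image := by
  obtain ⟨g, hg⟩ := exists_unit K.hf t
  exact ⟨g, Subgroup.subset_closure ⟨t, Or.inr hg⟩, K.acts_of_f hg⟩

variable [Fintype F]

include K in
theorem finite_root : Finite (AdjoinRoot K.π) := by
  haveI : Module.Finite F (AdjoinRoot K.π) := (AdjoinRoot.powerBasis K.irr.ne_zero).finite
  exact Module.finite_of_finite F

noncomputable instance fintypeRoot : Fintype (AdjoinRoot K.π) := @Fintype.ofFinite _ K.finite_root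

theorem charP_root (p : ℕ) [CharP F p] : CharP (AdjoinRoot K.π) p :=
  charP_of_injective_algebraMap (algebraMap F _).injective p

include K in
/-- the group contains an involution -/
theorem exists_involution (p : ℕ) [Fact p.Prime] [CharP F p] (hp2 : p ≠ 2) :
    ∃ z ∈ Subgroup.closure (Pair.gens F e f), z * z = 1 ∧ z ≠ 1 := by
  classical
  haveI := K.charP_root p
  have h2 : 2 ∣ Nat.card K.image := Even.even_card p hp2 K.image (a := K.lam) (b := 1) K.lam_ne_zero one_ne_zero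
    (by have := K.uni_mem 1; rwa [one_smul] at this) (by have := K.low_mem 1; rwa [map_one] at this)
  haveI : Fact (Nat.Prime 2) := ⟨Nat.prime_two⟩
  obtain ⟨X, hX⟩ := exists_prime_orderOf_dvd_card' (G := K.image) 2 h2
  obtain ⟨g, hg, hgX⟩ := K.mem_image.1 X.2
  have hd : 2 ∣ orderOf g := by
    rw [← hX, ← Subgroup.orderOf_coe]
    refine orderOf_dvd_of_pow_eq_one (CompData.Acts.unique K (hgX.pow K _) ?_)
    rw [pow_orderOf_eq_one]
    exact K.acts_one
  refine ⟨g ^ (orderOf g / 2), pow_mem hg _, ?_, ?_⟩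
  · rw [← pow_add, ← two_mul, Nat.mul_div_cancel' hd, pow_orderOf_eq_one]
  · refine pow_ne_one_of_lt_orderOf ?_ (Nat.div_lt_self (orderOf_pos g) one_lt_two)
    have := Nat.le_of_dvd (orderOf_pos g) hd
    omega

end CompData

end Cfsg.Agent.Forms.Max.SympTensor
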