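import Mathlib
import Cfsg.Agent.Lib.Forms.Max.Symp

/-!
# The decomposition `W₁ ⊗ W₂` of a symplectic space, `q` odd: vocabulary
-/

set_option autoImplicit false
set_option linter.unusedSectionVars false

namespace Cfsg.Agent.Forms.Max.SympTensor

open Matrix Cfsg.Agent.Forms.SympStd

variable {F : Type*} [Field F] {m k n : ℕ}

local notation "Vec" => (Fin m ⊕ Fin m → F)
local notation "GLm" => GL (Fin m ⊕ Fin m) F
local notation "B" => sympB m F
local notation "Mat" => Matrix (Fin m ⊕ Fin m) (Fin m ⊕ Fin m) F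
local notation "W₁" => (Fin k → F)
local notation "W₂" => (Fin n → F)

/-- an isometry as an invertible matrix -/
noncomputable def ofIsom (L : Vec →ₗ[F] Vec) (h : ∀ v w, B (L v) (L w) = B v w) : GLm :=
  ((Matrix.mulVec_injective_iff_isUnit (A := LinearMap.toMatrix' L)).1 fun v w hvw => by
    simp only [LinearMap.toMatrix'_mulVec] at hvw
    have h0 : ∀ z, B (v - w) z = 0 := fun z => by
      rw [← h, map_sub, hvw, sub_self]; simp
    exact sub_eq_zero.1 ((Symp.nondeg (F := F) (m := m)).1 _ h0)).unit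

theorem ofIsom_apply (L : Vec →ₗ[F] Vec) (h : ∀ v w, B (L v) (L w) = B v w) (v : Vec) :
    (ofIsom L h : Mat) *ᵥ v = L v := by
  rw [ofIsom, IsUnit.unit_spec, LinearMap.toMatrix'_mulVec]

theorem ofIsom_mem (L : Vec →ₗ[F] Vec) (h : ∀ v w, B (L v) (L w) = B v w) :
    ofIsom L h ∈ Cfsg.spGL m F :=
  Symp.mem_spGL_iff.2 fun u v => by rw [ofIsom_apply, ofIsom_apply, h]

/-- a decomposition of the standard symplectic space -/
structure Data (F : Type*) [Field F] (m k n : ℕ) where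
  /-- pure tensors -/
  τ : (Fin k → F) →ₗ[F] (Fin n → F) →ₗ[F] (Fin m ⊕ Fin m → F)
  /-- the alternating factor -/
  f₁ : LinearMap.BilinForm F (Fin k → F)
  /-- the symmetric factor -/
  f₂ : LinearMap.BilinForm F (Fin n → F)
  alt : ∀ x, f₁ x x = 0
  nd₁ : ∀ x, (∀ y, f₁ x y = 0) → x = 0
  symm : ∀ x y, f₂ x y = f₂ y x
  nd₂ : ∀ x, (∀ y, f₂ x y = 0) → x = 0
  pair : ∀ x y x' y', sympB m F (τ x y) (τ x' y') = f₁ x x' * f₂ y y'
  total : ∀ v, v ∈ Submodule.span F (Set.range fun p : (Fin k → F) × (Fin n → F) => τ p.1 p.2)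
  two_le : 2 ≤ k
  three_le : 3 ≤ n

namespace Data

variable (D : Data F m k n)

theorem swap₁ (x y : W₁) : D.f₁ y x = - D.f₁ x y := by
  have h := D.alt (x + y)
  simp only [map_add, LinearMap.add_apply, D.alt] at h
  linear_combination h

theorem exists_one₁ {u : W₁} (hu : u ≠ 0) : ∃ v, D.f₁ v u = 1 := by
  obtain ⟨y, hy⟩ : ∃ y, D.f₁ u y ≠ 0 := by
    by_contra hc
    push Not at hc
    exact hu (D.nd₁ u hc)
  exact ⟨(D.f₁ y u)⁻¹ • y, by
    rw [map_smul, LinearMap.smul_apply, smul_eq_mul, inv_mul_cancel₀ (by rw [D.swap₁, neg_ne_zero]; exact hy)]⟩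

theorem exists_one₂ {y : W₂} (hy : y ≠ 0) : ∃ z, D.f₂ y z = 1 := by
  obtain ⟨z, hz⟩ : ∃ z, D.f₂ y z ≠ 0 := by
    by_contra hc
    push Not at hc
    exact hy (D.nd₂ y hc)
  exact ⟨(D.f₂ y z)⁻¹ • z, by rw [map_smul, smul_eq_mul, inv_mul_cancel₀ hz]⟩

include D in
theorem exists_ne₁ : ∃ u : W₁, u ≠ 0 :=
  ⟨Pi.single ⟨0, by have := D.two_le; omega⟩ 1, fun h => one_ne_zero (α := F) (by simpa using congrFun h ⟨0, by have := D.two_le; omega⟩)⟩

include D in
theorem exists_ne₂ : ∃ y : W₂, y ≠ 0 :=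
  ⟨Pi.single ⟨0, by have := D.three_le; omega⟩ 1, fun h => one_ne_zero (α := F) (by simpa using congrFun h ⟨0, by have := D.three_le; omega⟩)⟩

/-- maps are determined by pure tensors -/
theorem ext_pure {M : Type*} [AddCommGroup M] [Module F M] {L L' : Vec →ₗ[F] M}
    (h : ∀ x y, L (D.τ x y) = L' (D.τ x y)) : L = L' :=
  LinearMap.ext fun v => LinearMap.eqOn_span (f := L) (g := L') (fun w hw => by
    obtain ⟨⟨x, y⟩, rfl⟩ := hw
    exact h x y) (D.total v)

theorem gl_ext_pure {g g' : GLm}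
    (h : ∀ x y, (g : Mat) *ᵥ D.τ x y = (g' : Mat) *ᵥ D.τ x y) : g = g' :=
  gl_ext fun v => LinearMap.congr_fun (D.ext_pure (L := Matrix.toLin' (g : Mat))
    (L' := Matrix.toLin' (g' : Mat)) fun x y => by simpa [Matrix.toLin'_apply] using h x y) v

theorem pair_ext {v v' : Vec} (h : ∀ x y, B v (D.τ x y) = B v' (D.τ x y)) : v = v' :=
  sub_eq_zero.1 ((Symp.nondeg (F := F) (m := m)).1 _ fun z => by
    rw [map_sub, LinearMap.sub_apply, sub_eq_zero]
    exact LinearMap.congr_fun (D.ext_pure (L := B v) (L' := B v') h) z)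

/-- the symmetric form as an equivalence with the dual -/
noncomputable def dual : W₂ ≃ₗ[F] Module.Dual F W₂ :=
  LinearEquiv.ofBijective D.f₂ ⟨(injective_iff_map_eq_zero _).2 fun y hy => D.nd₂ y fun z => by
      rw [hy]; rfl,
    (LinearMap.injective_iff_surjective_of_finrank_eq_finrank (f := D.f₂)
      Subspace.dual_finrank_eq.symm).1 ((injective_iff_map_eq_zero _).2 fun y hy => D.nd₂ y fun z => by
      rw [hy]; rfl)⟩

/-- contraction with a vector of the first factor -/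
noncomputable def κ (u : W₁) : Vec →ₗ[F] W₂ :=
  D.dual.symm.toLinearMap.comp ((LinearMap.lcomp F F (D.τ u)).comp B)

theorem κ_spec (u : W₁) (v : Vec) (y : W₂) : D.f₂ (D.κ u v) y = B v (D.τ u y) := by
  have h : D.dual (D.κ u v) = (B v).comp (D.τ u) := by
    simp [κ, LinearMap.lcomp_apply']
  exact LinearMap.congr_fun h y

theorem κ_eq {u : W₁} {v : Vec} {z : W₂} (h : ∀ y, D.f₂ z y = B v (D.τ u y)) : D.κ u v = z :=
  sub_eq_zero.1 (D.nd₂ _ fun y => by rw [map_sub, LinearMap.sub_apply, D.κ_spec, h, sub_self])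

theorem κ_pure (u x : W₁) (y : W₂) : D.κ u (D.τ x y) = D.f₁ x u • y :=
  D.κ_eq fun z => by rw [D.pair, map_smul, LinearMap.smul_apply, smul_eq_mul]

theorem κ_add (u u' : W₁) (v : Vec) : D.κ (u + u') v = D.κ u v + D.κ u' v :=
  D.κ_eq fun y => by
    rw [map_add, LinearMap.add_apply, D.κ_spec, D.κ_spec, map_add, LinearMap.add_apply, map_add]

theorem κ_smul (c : F) (u : W₁) (v : Vec) : D.κ (c • u) v = c • D.κ u v :=
  D.κ_eq fun y => by
    rw [map_smul, LinearMap.smul_apply, D.κ_spec, map_smul, LinearMap.smul_apply, map_smul]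

theorem tau_right {u : W₁} (hu : u ≠ 0) {y : W₂} (h : D.τ u y = 0) : y = 0 := by
  obtain ⟨v, hv⟩ := D.exists_one₁ hu
  have := D.κ_pure v u y
  rw [h, map_zero, D.swap₁ v u, hv] at this
  simpa using this.symm

theorem tau_left {x : W₁} {y : W₂} (hy : y ≠ 0) (h : D.τ x y = 0) : x = 0 := by
  by_contra hx
  exact hy (D.tau_right hx h)

theorem tau_ne_zero {x : W₁} {y : W₂} (hx : x ≠ 0) (hy : y ≠ 0) : D.τ x y ≠ 0 :=
  fun h => hy (D.tau_right hx h)

/-- vectors killed by the same functionals are proportional -/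
theorem prop_of_perp {u d : W₁} (hu : u ≠ 0) (h : ∀ w, D.f₁ u w = 0 → D.f₁ d w = 0) :
    ∃ c : F, d = c • u := by
  obtain ⟨v, hv⟩ := D.exists_one₁ hu
  refine ⟨D.f₁ v d, sub_eq_zero.1 (D.nd₁ _ fun x => ?_)⟩
  have hw : D.f₁ u (x + D.f₁ u x • v) = 0 := by
    rw [map_add, map_smul, smul_eq_mul, D.swap₁ v u, hv]; ring
  have := h _ hw
  rw [map_add, map_smul, smul_eq_mul] at this
  rw [map_sub, LinearMap.sub_apply, map_smul, LinearMap.smul_apply, smul_eq_mul]
  linear_combination this - D.f₁ u x * D.swap₁ v d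

/-- the subspace `u ⊗ W₂` -/
noncomputable def L (u : W₁) : Submodule F Vec := LinearMap.range (D.τ u)

theorem tau_mem_L (u : W₁) (y : W₂) : D.τ u y ∈ D.L u := ⟨y, rfl⟩

theorem finrank_L {u : W₁} (hu : u ≠ 0) : Module.finrank F (D.L u) = n := by
  rw [L, LinearMap.finrank_range_of_inj ((injective_iff_map_eq_zero _).2 fun y h => D.tau_right hu h),
    Module.finrank_fintype_fun_eq_card, Fintype.card_fin]

theorem κ_L {u : W₁} {v : Vec} (hv : v ∈ D.L u) : D.κ u v = 0 := by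
  obtain ⟨y, rfl⟩ := hv
  rw [D.κ_pure, D.alt, zero_smul]

theorem L_smul {c : F} (hc : c ≠ 0) (u : W₁) : D.L (c • u) = D.L u := by
  rw [L, L, map_smul, LinearMap.range_smul _ _ hc]

theorem eq_smul_of_L {u u' : W₁} (hu : u ≠ 0) (h : ∀ y, D.τ u' y ∈ D.L u) : ∃ c : F, u' = c • u :=
  D.prop_of_perp hu fun w hw => by
    obtain ⟨y, hy⟩ := D.exists_ne₂
    obtain ⟨z, hz⟩ := h y
    have e := congrArg (D.κ w) hz
    rw [D.κ_pure, D.κ_pure, hw, zero_smul] at e
    exact (smul_eq_zero.1 e.symm).resolve_right hy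

/-- the map with given values on pure tensors -/
noncomputable def basis : Module.Basis (Fin k × Fin n) F Vec :=
  Module.Basis.mk (v := fun ij : Fin k × Fin n => D.τ (Pi.single ij.1 1) (Pi.single ij.2 1))
    (by
      rw [Fintype.linearIndependent_iff]
      intro c hc
      have hrow : ∀ i, (fun j => c (i, j)) = (0 : W₂) := by
        have h0 : ∑ i, D.τ (Pi.single i 1) (fun j => c (i, j)) = 0 := by
          rw [← hc, Fintype.sum_prod_type]
          refine Finset.sum_congr rfl fun i _ => ?_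
          conv_lhs => rw [pi_eq_sum_univ' (fun j => c (i, j))]
          rw [map_sum]
          exact Finset.sum_congr rfl fun j _ => by rw [map_smul]
        intro i
        refine D.nd₂ _ fun y => ?_
        by_contra hne
        obtain ⟨z, hz⟩ : ∃ z : W₁, (∀ l, D.f₁ (Pi.single l 1) z = if l = i then 1 else 0) := by
          let φ : W₁ →ₗ[F] Module.Dual F W₁ := D.f₁.flip
          have hinj : Function.Injective φ := (injective_iff_map_eq_zero _).2 fun z hz => D.nd₁ z fun x => by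
            rw [D.swap₁, neg_eq_zero]; exact LinearMap.congr_fun hz x
          obtain ⟨z, hz⟩ := (LinearMap.injective_iff_surjective_of_finrank_eq_finrank (f := φ)
            Subspace.dual_finrank_eq.symm).1 hinj (LinearMap.proj i)
          exact ⟨z, fun l => by
            rw [show D.f₁ (Pi.single l 1) z = φ z (Pi.single l 1) from rfl, hz]
            simp [Pi.single_apply, eq_comm]⟩
        have := congrArg (fun v => B v (D.τ z y)) h0
        simp only [map_sum, LinearMap.sum_apply, D.pair, map_zero, LinearMap.zero_apply, hz, ite_mul,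
          one_mul, zero_mul, Finset.sum_ite_eq', Finset.mem_univ, if_true] at this
        exact hne this
      intro ij
      exact congrFun (hrow ij.1) ij.2)
    (by
      intro v _
      refine Submodule.span_le.2 ?_ (D.total v)
      rintro _ ⟨⟨x, y⟩, rfl⟩
      show D.τ x y ∈ Submodule.span F _
      rw [pi_eq_sum_univ' x, map_sum, LinearMap.sum_apply]
      refine Submodule.sum_mem _ fun i _ => ?_
      rw [map_smul, LinearMap.smul_apply, pi_eq_sum_univ' y, map_sum]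
      refine Submodule.smul_mem _ _ (Submodule.sum_mem _ fun j _ => ?_)
      rw [map_smul]
      exact Submodule.smul_mem _ _ (Submodule.subset_span ⟨(i, j), rfl⟩))

theorem basis_apply (i : Fin k) (j : Fin n) : D.basis (i, j) = D.τ (Pi.single i 1) (Pi.single j 1) := by
  rw [basis, Module.Basis.mk_apply]

include D in
theorem card_eq : k * n = 2 * m := by
  have := Module.finrank_eq_card_basis D.basis
  rw [finrank_vec, Fintype.card_prod, Fintype.card_fin, Fintype.card_fin] at this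
  exact this.symm

/-- the map with given values on pure tensors -/
noncomputable def lift (φ : W₁ →ₗ[F] W₂ →ₗ[F] Vec) : Vec →ₗ[F] Vec :=
  D.basis.constr F fun ij => φ (Pi.single ij.1 1) (Pi.single ij.2 1)

theorem lift_pure (φ : W₁ →ₗ[F] W₂ →ₗ[F] Vec) (x : W₁) (y : W₂) : D.lift φ (D.τ x y) = φ x y := by
  have h : D.τ.compr₂ (D.lift φ) = φ := by
    refine LinearMap.ext_basis (Pi.basisFun F (Fin k)) (Pi.basisFun F (Fin n)) fun i j => ?_
    rw [LinearMap.compr₂_apply, Pi.basisFun_apply, Pi.basisFun_apply, ← D.basis_apply, lift,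
      Module.Basis.constr_basis]
  exact LinearMap.congr_fun (LinearMap.congr_fun h x) y

theorem isom_of_pure {L : Vec →ₗ[F] Vec}
    (h : ∀ x y x' y', B (L (D.τ x y)) (L (D.τ x' y')) = D.f₁ x x' * D.f₂ y y') (v w : Vec) :
    B (L v) (L w) = B v w := by
  have h1 : ∀ x y, LinearMap.comp (B (L (D.τ x y))) L = B (D.τ x y) := fun x y =>
    D.ext_pure fun x' y' => by rw [LinearMap.comp_apply, h, D.pair]
  have h2 : (LinearMap.lcomp F F L).comp (LinearMap.comp (B) L) = B := D.ext_pure fun x y => h1 x y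
  exact LinearMap.congr_fun (LinearMap.congr_fun h2 v) w

/-- the element `a ⊗ b` -/
noncomputable def kr (a : W₁ →ₗ[F] W₁) (b : W₂ →ₗ[F] W₂)
    (h : ∀ x y x' y', D.f₁ (a x) (a x') * D.f₂ (b y) (b y') = D.f₁ x x' * D.f₂ y y') : GLm :=
  ofIsom (D.lift (D.τ.compl₁₂ a b)) (D.isom_of_pure fun x y x' y' => by
    rw [D.lift_pure, D.lift_pure, LinearMap.compl₁₂_apply, LinearMap.compl₁₂_apply, D.pair, h])

theorem kr_pure (a : W₁ →ₗ[F] W₁) (b : W₂ →ₗ[F] W₂)
    (h : ∀ x y x' y', D.f₁ (a x) (a x') * D.f₂ (b y) (b y') = D.f₁ x x' * D.f₂ y y') (x : W₁) (y : W₂) :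
    (D.kr a b h : Mat) *ᵥ D.τ x y = D.τ (a x) (b y) := by
  rw [kr, ofIsom_apply, D.lift_pure, LinearMap.compl₁₂_apply]

variable [Fintype F]

/-- the stabiliser of the decomposition -/
def H : Subgroup GLm where
  carrier := {g | g ∈ Cfsg.spGL m F ∧ ∃ (a : W₁ →ₗ[F] W₁) (b : W₂ →ₗ[F] W₂),
    ∀ x y, (g : Mat) *ᵥ D.τ x y = D.τ (a x) (b y)}
  one_mem' := ⟨one_mem _, LinearMap.id, LinearMap.id, fun x y => by simp⟩
  mul_mem' := by
    rintro g g' ⟨hg, a, b, h⟩ ⟨hg', a', b', h'⟩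
    exact ⟨mul_mem hg hg', a ∘ₗ a', b ∘ₗ b', fun x y => by rw [mulVec_mul_GL, h', h]; rfl⟩
  inv_mem' := by
    rintro g ⟨hg, a, b, h⟩
    refine ⟨inv_mem hg, ?_⟩
    obtain ⟨t, ht⟩ : ∃ t : ℕ, g ^ t = g⁻¹ :=
      ⟨orderOf g - 1, eq_inv_of_mul_eq_one_left (by
        rw [← pow_succ, Nat.sub_add_cancel (orderOf_pos g), pow_orderOf_eq_one])⟩
    refine ⟨a ^ t, b ^ t, fun x y => ?_⟩
    rw [← ht]
    clear ht
    induction t generalizing x y with
    | zero => simp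
    | succ t ih => rw [pow_succ', mulVec_mul_GL, ih, h, pow_succ', pow_succ']; rfl

theorem mem_H {g : GLm} : g ∈ D.H ↔ g ∈ Cfsg.spGL m F ∧ ∃ (a : W₁ →ₗ[F] W₁) (b : W₂ →ₗ[F] W₂),
    ∀ x y, (g : Mat) *ᵥ D.τ x y = D.τ (a x) (b y) := Iff.rfl

theorem H_le : D.H ≤ Cfsg.spGL m F := fun _ h => h.1

theorem kr_mem (a : W₁ →ₗ[F] W₁) (b : W₂ →ₗ[F] W₂)
    (h : ∀ x y x' y', D.f₁ (a x) (a x') * D.f₂ (b y) (b y') = D.f₁ x x' * D.f₂ y y') : D.kr a b h ∈ D.H :=
  ⟨ofIsom_mem _ _, a, b, D.kr_pure a b h⟩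

/-- the factors of an element of the stabiliser are similitudes -/
theorem exists_multiplier {g : GLm} (hg : g ∈ Cfsg.spGL m F) {a : W₁ →ₗ[F] W₁} {b : W₂ →ₗ[F] W₂}
    (h : ∀ x y, (g : Mat) *ᵥ D.τ x y = D.τ (a x) (b y)) :
    ∃ μ : F, μ ≠ 0 ∧ (∀ x x', D.f₁ (a x) (a x') = μ * D.f₁ x x') ∧
      ∀ y y', D.f₂ (b y) (b y') = μ⁻¹ * D.f₂ y y' := by
  have key : ∀ x y x' y', D.f₁ (a x) (a x') * D.f₂ (b y) (b y') = D.f₁ x x' * D.f₂ y y' := by
    intro x y x' y'
    rw [← D.pair, ← D.pair, ← h, ← h, Symp.mem_spGL_iff.1 hg]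
  obtain ⟨y₀, hy₀⟩ := D.exists_ne₂
  obtain ⟨y₁, hy₁⟩ := D.exists_one₂ hy₀
  obtain ⟨u, hu⟩ := D.exists_ne₁
  obtain ⟨v, hv⟩ := D.exists_one₁ hu
  have h01 := key v y₀ u y₁
  rw [hv, hy₁, one_mul] at h01
  set r := D.f₁ (a v) (a u) with hr
  refine ⟨r, fun e => one_ne_zero (α := F) (by rw [← h01, e, zero_mul]), fun x x' => ?_, fun y y' => ?_⟩
  · have h2 := key x y₀ x' y₁
    rw [hy₁, mul_one] at h2
    linear_combination r * h2 - D.f₁ (a x) (a x') * h01
  · have h2 := key v y u y'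
    rw [hv, one_mul, ← hr] at h2
    rw [← h2, ← mul_assoc, inv_mul_cancel₀ (fun e => one_ne_zero (α := F) (by rw [← h01, e, zero_mul])),
      one_mul]

theorem a_injective {g : GLm} {a : W₁ →ₗ[F] W₁} {b : W₂ →ₗ[F] W₂}
    (h : ∀ x y, (g : Mat) *ᵥ D.τ x y = D.τ (a x) (b y)) {x : W₁} (hx : x ≠ 0) : a x ≠ 0 := by
  intro e
  obtain ⟨y, hy⟩ := D.exists_ne₂
  refine mulVec_ne_zero g (D.tau_ne_zero hx hy) ?_
  rw [h, e, map_zero, LinearMap.zero_apply]

theorem b_injective {g : GLm} {a : W₁ →ₗ[F] W₁} {b : W₂ →ₗ[F] W₂}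
    (h : ∀ x y, (g : Mat) *ᵥ D.τ x y = D.τ (a x) (b y)) {y : W₂} (hy : y ≠ 0) : b y ≠ 0 := by
  intro e
  obtain ⟨x, hx⟩ := D.exists_ne₁
  refine mulVec_ne_zero g (D.tau_ne_zero hx hy) ?_
  rw [h, e, map_zero]

/-- rescaling the factors -/
theorem rescale {g : GLm} {a : W₁ →ₗ[F] W₁} {b : W₂ →ₗ[F] W₂}
    (h : ∀ x y, (g : Mat) *ᵥ D.τ x y = D.τ (a x) (b y)) {s : F} (hs : s ≠ 0) :
    ∀ x y, (g : Mat) *ᵥ D.τ x y = D.τ ((s • a) x) ((s⁻¹ • b) y) := fun x y => by
  rw [h, LinearMap.smul_apply, LinearMap.smul_apply, map_smul, map_smul, LinearMap.smul_apply, smul_smul,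
    inv_mul_cancel₀ hs, one_smul]

/-- the transvection of the first factor, tensored with the identity -/
noncomputable def T (u : W₁) (c : F) : GLm :=
  ofIsom (LinearMap.id + c • ((D.τ u).comp (D.κ u))) fun v w => by
    have h1 : B (D.τ u (D.κ u v)) w = - D.f₂ (D.κ u w) (D.κ u v) := by rw [Symp.B_swap, D.κ_spec]
    have h2 : B v (D.τ u (D.κ u w)) = D.f₂ (D.κ u v) (D.κ u w) := (D.κ_spec u v _).symm
    simp only [LinearMap.add_apply, LinearMap.id_apply, LinearMap.smul_apply, LinearMap.comp_apply, map_add,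
      map_smul, smul_eq_mul, D.pair, D.alt, h1, h2, D.symm (D.κ u w) (D.κ u v)]
    ring

theorem T_apply (u : W₁) (c : F) (v : Vec) :
    (D.T u c : Mat) *ᵥ v = v + c • D.τ u (D.κ u v) := by rw [T, ofIsom_apply]; rfl

theorem T_pure (u : W₁) (c : F) (x : W₁) (y : W₂) :
    (D.T u c : Mat) *ᵥ D.τ x y = D.τ (x + (c * D.f₁ x u) • u) y := by
  rw [D.T_apply, D.κ_pure, map_smul, map_add, LinearMap.add_apply, map_smul, LinearMap.smul_apply, smul_smul]

theorem T_mem (u : W₁) (c : F) : D.T u c ∈ D.H :=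
  ⟨ofIsom_mem _ _, LinearMap.id + c • ((D.f₁.flip u).smulRight u), LinearMap.id, fun x y => by
    rw [D.T_pure]; simp [smul_smul]⟩

theorem T_mul (u : W₁) (c d : F) : D.T u c * D.T u d = D.T u (c + d) :=
  gl_ext fun v => by
    rw [mulVec_mul_GL, D.T_apply, D.T_apply, D.T_apply, map_add, map_smul, D.κ_pure, D.alt, zero_smul,
      smul_zero, add_zero, add_smul, add_assoc, add_comm (d • _) (c • _)]

theorem T_zero (u : W₁) : D.T u 0 = 1 :=
  gl_ext fun v => by rw [D.T_apply, zero_smul, add_zero, Units.val_one, Matrix.one_mulVec]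

theorem T_pow (u : W₁) (c : F) (t : ℕ) : D.T u c ^ t = D.T u (t * c) := by
  induction t with
  | zero => rw [pow_zero, Nat.cast_zero, zero_mul, D.T_zero]
  | succ t ih => rw [pow_succ, ih, D.T_mul, Nat.cast_succ, add_mul, one_mul]

theorem T_smul (s : F) (u : W₁) (c : F) : D.T (s • u) c = D.T u (c * s * s) :=
  gl_ext fun v => by
    rw [D.T_apply, D.T_apply, D.κ_smul, map_smul, map_smul, LinearMap.smul_apply, smul_smul, smul_smul, mul_assoc]

theorem T_inj {u : W₁} (hu : u ≠ 0) {c d : F} (h : D.T u c = D.T u d) : c = d := by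
  obtain ⟨v, hv⟩ := D.exists_one₁ hu
  obtain ⟨y, hy⟩ := D.exists_ne₂
  have e := congrArg (fun g : GLm => (g : Mat) *ᵥ D.τ v y) h
  simp only [D.T_apply, D.κ_pure, hv, one_smul, add_right_inj] at e
  exact smul_left_injective F (D.tau_ne_zero hu hy) e

theorem conj_T {g : GLm} {a : W₁ →ₗ[F] W₁} {b : W₂ →ₗ[F] W₂}
    (h : ∀ x y, (g : Mat) *ᵥ D.τ x y = D.τ (a x) (b y)) {μ : F} (hμ : μ ≠ 0)
    (ha : ∀ x x', D.f₁ (a x) (a x') = μ * D.f₁ x x') (u : W₁) (c : F) :
    g * D.T u c * g⁻¹ = D.T (a u) (c / μ) := by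
  rw [mul_inv_eq_iff_eq_mul]
  refine D.gl_ext_pure fun x y => ?_
  rw [mulVec_mul_GL, mulVec_mul_GL, h, D.T_pure, D.T_pure, h, ha, map_add, map_smul]
  congr 3
  field_simp

/-- the Siegel transformation of the first factor, tensored with the identity -/
noncomputable def R (u w : W₁) (hw : D.f₁ w u = 0) : GLm :=
  ofIsom (LinearMap.id + ((D.τ w).comp (D.κ u) + (D.τ u).comp (D.κ w))) fun v z => by
    have e1 : ∀ (s t : W₁) (v z : Vec), B (D.τ s (D.κ t v)) z = - D.f₂ (D.κ s z) (D.κ t v) :=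
      fun s t v z => by rw [Symp.B_swap, D.κ_spec]
    have e2 : ∀ (s t : W₁) (v z : Vec), B v (D.τ s (D.κ t z)) = D.f₂ (D.κ s v) (D.κ t z) :=
      fun s t v z => (D.κ_spec s v _).symm
    simp only [LinearMap.add_apply, LinearMap.id_apply, LinearMap.comp_apply, map_add,
      D.pair, D.alt, hw, D.swap₁ w u, e1, e2, D.symm (D.κ u z), D.symm (D.κ w z)]
    ring

theorem R_apply (u w : W₁) (hw : D.f₁ w u = 0) (v : Vec) :
    (D.R u w hw : Mat) *ᵥ v = v + (D.τ w (D.κ u v) + D.τ u (D.κ w v)) := by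
  rw [R, ofIsom_apply]; rfl

theorem R_pure (u w : W₁) (hw : D.f₁ w u = 0) (x : W₁) (y : W₂) :
    (D.R u w hw : Mat) *ᵥ D.τ x y = D.τ (x + (D.f₁ x u • w + D.f₁ x w • u)) y := by
  rw [D.R_apply, D.κ_pure, D.κ_pure]
  simp [map_add, map_smul]

theorem R_mem (u w : W₁) (hw : D.f₁ w u = 0) : D.R u w hw ∈ D.H :=
  ⟨ofIsom_mem _ _, LinearMap.id + ((D.f₁.flip u).smulRight w + (D.f₁.flip w).smulRight u), LinearMap.id,
    fun x y => by rw [D.R_pure]; simp⟩

/-- the radical of the stabiliser of `L u` -/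
def Rad (u : W₁) : Subgroup GLm where
  carrier := {g | g ∈ Cfsg.spGL m F ∧ (∀ y, (g : Mat) *ᵥ D.τ u y = D.τ u y) ∧
    ∀ v, D.κ u v = 0 → (g : Mat) *ᵥ v - v ∈ D.L u}
  one_mem' := ⟨one_mem _, fun y => by simp, fun v _ => by simp⟩
  mul_mem' := by
    rintro g g' ⟨hg, h1, h2⟩ ⟨hg', h1', h2'⟩
    refine ⟨mul_mem hg hg', fun y => by rw [mulVec_mul_GL, h1', h1], fun v hv => ?_⟩
    obtain ⟨y, hy⟩ := h2' v hv
    rw [mulVec_mul_GL, show (g' : Mat) *ᵥ v = v + D.τ u y by rw [hy, add_sub_cancel],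
      mulVec_add, h1, add_sub_right_comm]
    exact add_mem (h2 v hv) (D.tau_mem_L u y)
  inv_mem' := by
    rintro g ⟨hg, h1, h2⟩
    have h1' : ∀ y, ((g⁻¹ : GLm) : Mat) *ᵥ D.τ u y = D.τ u y := fun y => by
      conv_lhs => rw [← h1 y]
      rw [inv_mulVec_cancel]
    refine ⟨inv_mem hg, h1', fun v hv => ?_⟩
    obtain ⟨y, hy⟩ := h2 v hv
    refine ⟨-y, ?_⟩
    have e := congrArg (fun z => ((g⁻¹ : GLm) : Mat) *ᵥ z)
      (show (g : Mat) *ᵥ v = v + D.τ u y by rw [hy, add_sub_cancel])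
    simp only [inv_mulVec_cancel, mulVec_add, h1'] at e
    rw [map_neg]
    linear_combination (norm := module) e

theorem mem_Rad {u : W₁} {g : GLm} : g ∈ D.Rad u ↔ g ∈ Cfsg.spGL m F ∧
    (∀ y, (g : Mat) *ᵥ D.τ u y = D.τ u y) ∧
    ∀ v, D.κ u v = 0 → (g : Mat) *ᵥ v - v ∈ D.L u := Iff.rfl

theorem T_mem_Rad (u : W₁) (c : F) : D.T u c ∈ D.Rad u :=
  ⟨D.H_le (D.T_mem u c), fun y => by simp [D.T_pure, D.alt],
    fun v hv => by rw [D.T_apply, hv, map_zero, smul_zero, add_zero, sub_self]; exact zero_mem _⟩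

theorem R_mem_Rad (u w : W₁) (hw : D.f₁ w u = 0) : D.R u w hw ∈ D.Rad u :=
  ⟨D.H_le (D.R_mem u w hw), fun y => by simp [D.R_pure, D.alt, D.swap₁ w u, hw],
    fun v hv => by
      rw [D.R_apply, hv, map_zero, zero_add, add_sub_cancel_left]
      exact D.tau_mem_L u _⟩

/-- elements of the stabiliser in the radical -/
theorem shape_Rad {u : W₁} (hu : u ≠ 0) {g : GLm} (hg : g ∈ D.H) (hR : g ∈ D.Rad u) :
    ∃ a : W₁ →ₗ[F] W₁, a u = u ∧ (∀ x x', D.f₁ (a x) (a x') = D.f₁ x x') ∧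
      ∀ x y, (g : Mat) *ᵥ D.τ x y = D.τ (a x) y := by
  obtain ⟨hgs, a, b, h⟩ := hg
  obtain ⟨s, hs⟩ := D.eq_smul_of_L hu (u' := a u) fun y => by
    obtain ⟨v, hv⟩ := D.exists_one₁ hu
    -- `b` is onto
    have hb : Function.Surjective b := LinearMap.injective_iff_surjective.1
      ((injective_iff_map_eq_zero b).2 fun z hz => by_contra fun hne => D.b_injective h hne hz)
    obtain ⟨z, rfl⟩ := hb y
    rw [← h, hR.2.1]
    exact D.tau_mem_L u z
  have hs0 : s ≠ 0 := fun e => D.a_injective h hu (by rw [hs, e, zero_smul])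
  have h' := D.rescale h (inv_ne_zero hs0)
  rw [inv_inv] at h'
  have hb : ∀ y, (s • b) y = y := fun y => by
    have e := hR.2.1 y
    rw [h', LinearMap.smul_apply s⁻¹, hs, smul_smul, inv_mul_cancel₀ hs0, one_smul] at e
    exact sub_eq_zero.1 (D.tau_right hu (by rw [map_sub, e, sub_self]))
  refine ⟨s⁻¹ • a, by rw [LinearMap.smul_apply, hs, smul_smul, inv_mul_cancel₀ hs0, one_smul], ?_,
    fun x y => by rw [h', hb]⟩
  obtain ⟨μ, -, hμ1, hμ2⟩ := D.exists_multiplier hgs h'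
  obtain ⟨y₀, hy₀⟩ := D.exists_ne₂
  obtain ⟨y₁, hy₁⟩ := D.exists_one₂ hy₀
  have h01 := hμ2 y₀ y₁
  rw [hb, hb, hy₁, mul_one] at h01
  intro x x'
  rw [hμ1, inv_eq_one.1 h01.symm, one_mul]

end Data

end Cfsg.Agent.Forms.Max.SympTensor
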