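import Cfsg.Agent.Lib.Forms.Max.SympTensor.Fix

/-!
# `W₁ ⊗ W₂`: conjugates of first-factor transvections in the stabiliser
-/

set_option autoImplicit false
set_option linter.unusedSectionVars false

namespace Cfsg.Agent.Forms.Max.SympTensor

open Matrix Cfsg.Agent.Forms.SympStd

variable {F : Type*} [Field F] {m k n : ℕ}

local notation "Vec" => (Fin m ⊕ Fin m → F)
local notation "GLm" => GL (Fin m ⊕ Fin m) F
local notation "Mat" => Matrix (Fin m ⊕ Fin m) (Fin m ⊕ Fin m) F
local notation "B" => sympB m F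
local notation "W₁" => (Fin k → F)
local notation "W₂" => (Fin n → F)

/-- a non-zero nilpotent endomorphism has a vector killed at the second step -/
theorem exists_second_step {W : Type*} [AddCommGroup W] [Module F W] (α : W →ₗ[F] W)
    (hα : α ≠ 0) {t : ℕ} (ht : α ^ t = 0) : ∃ x, α x ≠ 0 ∧ α (α x) = 0 := by
  by_contra hc
  push Not at hc
  obtain ⟨x, hx⟩ : ∃ x, α x ≠ 0 := by
    by_contra h
    push Not at h
    exact hα (LinearMap.ext h)
  have : ∀ j : ℕ, α ((α ^ j) x) ≠ 0 := by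
    intro j
    induction j with
    | zero => simpa using hx
    | succ j ih => rw [pow_succ', Module.End.mul_apply]; exact hc _ ih
  exact this t (by rw [ht]; simp)

theorem finrank_le_of_inj {W X : Type*} [AddCommGroup W] [Module F W] [AddCommGroup X] [Module F X]
    [Fintype F] [FiniteDimensional F W] [FiniteDimensional F X] (f : W → X) (hf : Function.Injective f) :
    Module.finrank F W ≤ Module.finrank F X := by
  haveI : Finite W := Module.finite_of_finite F
  haveI : Finite X := Module.finite_of_finite F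
  have := Nat.card_le_card_of_injective f hf
  rw [Module.natCard_eq_pow_finrank (K := F) (V := W), Module.natCard_eq_pow_finrank (K := F) (V := X),
    Nat.card_eq_fintype_card] at this
  exact (Nat.pow_le_pow_iff_right Fintype.one_lt_card).1 this

namespace Data

/-- the second factor has no totally singular plane -/
def NoPlane (D : Data F m k n) : Prop :=
  ∀ R : Submodule F (Fin n → F), (∀ y ∈ R, ∀ y' ∈ R, D.f₂ y y' = 0) → Module.finrank F R ≤ 1

/-- away from `Sp₂ ⊗ O₄⁺` -/
def Generic (D : Data F m k n) : Prop := ¬ (k = 2 ∧ n = 4) ∨ D.NoPlane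

variable {D : Data F m k n} [Fintype F] {M : Subgroup (GL (Fin m ⊕ Fin m) F)}

/-- conjugates inside the stabiliser come from subspaces `u ⊗ W₂` -/
theorem Tight.pure_of_conj (hM : D.Tight M) (p : ℕ) [Fact p.Prime] [CharP F p] (h2 : (2 : F) ≠ 0)
    (hex : D.Generic) {g : GLm} (hg : g ∈ M) {u : W₁} (hu : u ≠ 0)
    (hT : g * D.T u 1 * g⁻¹ ∈ D.H) :
    ∃ u' : W₁, u' ≠ 0 ∧ ∀ y, (g : Mat) *ᵥ D.τ u y ∈ D.L u' := by
  obtain ⟨v, hv⟩ := D.exists_one₁ hu
  have hgs := Symp.mem_spGL_iff.1 (hM.sp hg)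
  set h := g * D.T u 1 * g⁻¹ with hhdef
  have hhp : h ^ p = 1 := by
    rw [hhdef, ← MulAut.conj_apply, ← map_pow, D.T_pow, CharP.cast_eq_zero, zero_mul, D.T_zero, map_one]
  obtain ⟨hhs, a₀, b₀, h₀⟩ := id hT
  -- the factors may be taken of order dividing `p`
  have hpow : ∀ t x y, ((h ^ t : GLm) : Mat) *ᵥ D.τ x y = D.τ ((a₀ ^ t) x) ((b₀ ^ t) y) := by
    intro t
    induction t with
    | zero => intro x y; simp
    | succ t ih =>
      intro x y
      rw [pow_succ', mulVec_mul_GL, ih, h₀, pow_succ', pow_succ']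
      rfl
  obtain ⟨y₀, hy₀⟩ := D.exists_ne₂
  obtain ⟨s, hs0, hsa⟩ : ∃ s : F, s ≠ 0 ∧ ∀ x, (a₀ ^ p) x = s • x := by
    have e : ∀ x y, D.τ ((a₀ ^ p) x) ((b₀ ^ p) y) = D.τ x y := fun x y => by rw [← hpow, hhp]; simp
    obtain ⟨x₀, hx₀⟩ := D.exists_ne₁
    obtain ⟨z₁, hz₁⟩ := D.exists_one₂ (y := (b₀ ^ p) y₀) fun h0 =>
      D.tau_ne_zero hx₀ hy₀ (by rw [← e, h0, map_zero])
    have hx : ∀ x, (a₀ ^ p) x = D.f₂ y₀ z₁ • x := fun x => by
      have e2 := congrArg (D.κ' z₁) (e x y₀)
      rwa [D.κ'_pure, D.κ'_pure, hz₁, one_smul] at e2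
    refine ⟨_, fun h0 => D.tau_ne_zero hx₀ hy₀ ?_, hx⟩
    rw [← e, hx, h0, zero_smul, map_zero, LinearMap.zero_apply]
  obtain ⟨r, hr⟩ : ∃ r : F, r ^ p = s :=
    ⟨(frobeniusEquiv F p).symm s, frobeniusEquiv_symm_pow_p F p s⟩
  have hr0 : r ≠ 0 := fun e => hs0 (by rw [← hr, e, zero_pow (Fact.out : p.Prime).ne_zero])
  have h1 := D.rescale h₀ (inv_ne_zero hr0)
  rw [inv_inv] at h1
  set α : W₁ →ₗ[F] W₁ := r⁻¹ • a₀ - 1 with hαdef
  set β : W₂ →ₗ[F] W₂ := r • b₀ - 1 with hβdef
  haveI : CharP (Module.End F W₁) p := by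
    haveI : Nontrivial (Module.End F W₁) := ⟨⟨1, 0, fun e => by
      obtain ⟨x, hx⟩ := D.exists_ne₁; exact hx (LinearMap.congr_fun e x)⟩⟩
    exact charP_of_injective_algebraMap (algebraMap F _).injective p
  haveI : CharP (Module.End F W₂) p := by
    haveI : Nontrivial (Module.End F W₂) := ⟨⟨1, 0, fun e => hy₀ (LinearMap.congr_fun e y₀)⟩⟩
    exact charP_of_injective_algebraMap (algebraMap F _).injective p
  have hap : (r⁻¹ • a₀) ^ p = 1 := by
    rw [smul_pow]
    refine LinearMap.ext fun x => ?_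
    rw [LinearMap.smul_apply, hsa, smul_smul, inv_pow, hr, inv_mul_cancel₀ hs0, one_smul]
    rfl
  have hbp : (r • b₀) ^ p = 1 := by
    rw [smul_pow]
    refine LinearMap.ext fun y => sub_eq_zero.1 (D.tau_right hu ?_)
    rw [map_sub, LinearMap.smul_apply, hr, map_smul, ← LinearMap.smul_apply, ← map_smul, ← hsa, ← hpow, hhp]
    simp
  have hαp : α ^ p = 0 := by
    rw [hαdef, sub_pow_char_of_commute (p := p) (Commute.one_right _), hap, one_pow, sub_self]
  have hβp : β ^ p = 0 := by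
    rw [hβdef, sub_pow_char_of_commute (p := p) (Commute.one_right _), hbp, one_pow, sub_self]
  -- the displacement
  let δ : Vec →ₗ[F] Vec := Matrix.toLin' ((h : Mat) - 1)
  have hδ : ∀ w, δ w = (h : Mat) *ᵥ w - w := fun w => by
    simp [δ, Matrix.toLin'_apply, Matrix.sub_mulVec]
  have hδg : ∀ w, δ w = (g : Mat) *ᵥ D.τ u (D.κ u (((g⁻¹ : GLm) : Mat) *ᵥ w)) := fun w => by
    rw [hδ, hhdef, mulVec_mul_GL, mulVec_mul_GL, D.T_apply, one_smul, mulVec_add, mulVec_inv_cancel,
      add_sub_cancel_left]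
  have hδ2 : ∀ w, δ (δ w) = 0 := fun w => by
    rw [hδg, hδg, inv_mulVec_cancel, D.κ_pure, D.alt, zero_smul, map_zero, Matrix.mulVec_zero]
  have hd : ∀ x y, δ (D.τ x y) = D.τ (α x) y + D.τ x (β y) + D.τ (α x) (β y) := fun x y => by
    rw [hδ, h1, hαdef, hβdef]
    simp only [LinearMap.sub_apply, Module.End.one_apply, map_sub]
    abel
  have hor : α = 0 ∨ β = 0 := by
    by_contra hc
    push Not at hc
    obtain ⟨x, hx, hx'⟩ := exists_second_step α hc.1 hαp
    obtain ⟨y, hy, hy'⟩ := exists_second_step β hc.2 hβp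
    have e := hδ2 (D.τ x y)
    rw [hd, map_add, map_add, hd, hd, hd, hx', hy'] at e
    simp only [map_zero, LinearMap.zero_apply, add_zero, zero_add] at e
    refine smul_ne_zero h2 (D.tau_ne_zero hx hy) ?_
    rw [two_smul]
    exact e
  set G : Submodule F Vec := img g (D.L u) with hGdef
  have hGrank : Module.finrank F G = n := by rw [hGdef, finrank_img, D.finrank_L hu]
  have hδG : ∀ w, δ w ∈ G := fun w => by rw [hδg]; exact mulVec_mem_img (D.tau_mem_L u _)
  have hGmem : ∀ y, (g : Mat) *ᵥ D.τ u y = δ ((g : Mat) *ᵥ D.τ v y) := fun y => by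
    rw [hδg, inv_mulVec_cancel, D.κ_pure, hv, one_smul]
  by_cases hα : α = 0
  swap
  · have hβ := hor.resolve_left hα
    obtain ⟨x, hx⟩ : ∃ x, α x ≠ 0 := by
      by_contra hc
      push Not at hc
      exact hα (LinearMap.ext hc)
    refine ⟨α x, hx, fun y => ?_⟩
    have hle : D.L (α x) ≤ G := by
      rintro _ ⟨z, rfl⟩
      have := hδG (D.τ x z)
      rwa [hd, hβ, LinearMap.zero_apply, map_zero, map_zero, add_zero, add_zero] at this
    rw [Submodule.eq_of_le_of_finrank_eq hle (by rw [hGrank, D.finrank_L hx])]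
    exact mulVec_mem_img (D.tau_mem_L u y)
  exfalso
  have hαdef' : r⁻¹ • a₀ = 1 := sub_eq_zero.1 hα
  have hd' : ∀ x y, δ (D.τ x y) = D.τ x (β y) := fun x y => by rw [hd, hα]; simp
  have hββ : ∀ y, β (β y) = 0 := fun y => D.tau_right hu (by
    have := hδ2 (D.τ u y)
    rwa [hd', hd'] at this)
  -- the second factor is an isometry
  obtain ⟨μ, -, hμ1, hμ2⟩ := D.exists_multiplier hhs h1
  have hμ : μ = 1 := by
    have e := hμ1 v u
    rw [hαdef', Module.End.one_apply, Module.End.one_apply, hv, mul_one] at e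
    exact e.symm
  have hb : ∀ y, (r • b₀) y = y + β y := fun y => by rw [hβdef, LinearMap.sub_apply, Module.End.one_apply]; abel
  have horth : ∀ y y', D.f₂ (β y) y' + D.f₂ y (β y') + D.f₂ (β y) (β y') = 0 := fun y y' => by
    have e := hμ2 y y'
    rw [hb, hb, hμ, inv_one, one_mul] at e
    simp only [map_add, LinearMap.add_apply] at e
    linear_combination e
  have hts : ∀ y y', D.f₂ (β y) (β y') = 0 := fun y y' => by
    have e := horth y (β y')
    rw [hββ] at e
    simpa using e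
  set R := LinearMap.range β with hRdef
  set r' := Module.finrank F R with hr'
  let Ψ : (Fin k → R) →ₗ[F] Vec :=
    ∑ i, (D.τ (Pi.single i 1)).comp (R.subtype.comp (LinearMap.proj i))
  have hΨ : ∀ Y, Ψ Y = ∑ i, D.τ (Pi.single i 1) (Y i : W₂) := fun Y => by simp [Ψ]
  have hΨi : Function.Injective Ψ := (injective_iff_map_eq_zero Ψ).2 fun Y hY =>
    funext fun i => Subtype.ext (D.rows_indep ((hΨ Y).symm.trans hY) i)
  have hmemΨ : ∀ (x : W₁) (y : W₂), y ∈ R → D.τ x y ∈ LinearMap.range Ψ := fun x y hy => by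
    refine ⟨fun i => x i • ⟨y, hy⟩, ?_⟩
    rw [hΨ]
    conv_rhs => rw [pi_eq_sum_univ' x, map_sum, LinearMap.sum_apply]
    exact Finset.sum_congr rfl fun i _ => by
      rw [map_smul (D.τ), LinearMap.smul_apply, SetLike.val_smul, map_smul]
  have hrange : LinearMap.range Ψ = G := by
    refine le_antisymm ?_ ?_
    · rintro _ ⟨Y, rfl⟩
      rw [hΨ]
      refine Submodule.sum_mem _ fun i _ => ?_
      obtain ⟨y, hy⟩ := (Y i).2
      rw [← hy, ← hd']
      exact hδG _
    · intro z hz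
      obtain ⟨w, ⟨y, rfl⟩, rfl⟩ := mem_img.1 hz
      rw [hGmem]
      refine Submodule.span_induction ?_ ?_ ?_ ?_ (D.total ((g : Mat) *ᵥ D.τ v y))
      · rintro _ ⟨⟨x, z⟩, rfl⟩
        rw [hd']
        exact hmemΨ x _ ⟨z, rfl⟩
      · simp
      · intro a b _ _ ha hb; rw [map_add]; exact add_mem ha hb
      · intro c a _ ha; rw [map_smul]; exact Submodule.smul_mem _ c ha
  have hkr : k * r' = n := by
    rw [← hGrank, ← hrange, LinearMap.finrank_range_of_inj hΨi, Module.finrank_pi_fintype]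
    simp [hr']
  -- `R` is not a line
  obtain ⟨z, hzR, hz⟩ : ∃ z ∈ R, z ≠ (0 : W₂) := by
    by_contra hc
    push Not at hc
    have : R = ⊥ := by rw [Submodule.eq_bot_iff]; exact hc
    rw [hr', this, finrank_bot, mul_zero] at hkr
    have := D.three_le
    omega
  obtain ⟨z', hz'⟩ := D.exists_one₂ hz
  have hzz : D.f₂ z z = 0 := by obtain ⟨y, rfl⟩ := hzR; exact hts y y
  have hr2 : 2 ≤ r' := by
    by_contra hlt
    have hspan : R ≤ Submodule.span F {z} := by
      refine (Submodule.eq_of_le_of_finrank_le ((Submodule.span_singleton_le_iff_mem _ _).2 hzR) ?_).ge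
      rw [finrank_span_singleton hz]; omega
    have key : ∀ y, D.f₂ (β y) z' = 0 ∨ D.f₂ z y = 0 := by
      intro y
      obtain ⟨c, hc⟩ := Submodule.mem_span_singleton.1 (hspan ⟨y, rfl⟩)
      have hcv : D.f₂ (β y) z' = c := by rw [← hc, map_smul, LinearMap.smul_apply, hz', smul_eq_mul, mul_one]
      have e := horth y y
      rw [hts, add_zero, D.symm y (β y), ← two_mul, ← hc, map_smul, LinearMap.smul_apply, smul_eq_mul] at e
      rcases mul_eq_zero.1 ((mul_eq_zero.1 e).resolve_left h2) with h0 | h0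
      · exact Or.inl (hcv.trans h0)
      · exact Or.inr h0
    rcases le_or_le_of_forall (S := (⊤ : Submodule F W₂))
      (W := LinearMap.ker ((D.f₂.flip z').comp β)) (U := LinearMap.ker (D.f₂ z)) (fun y _ => key y) with h | h
    · obtain ⟨y, hy⟩ := hzR
      have h3 : D.f₂ (β y) z' = 0 := h (Submodule.mem_top (x := y))
      rw [hy, hz'] at h3
      exact one_ne_zero h3
    · have h3 : D.f₂ z z' = 0 := h (Submodule.mem_top (x := z'))
      rw [hz'] at h3
      exact one_ne_zero h3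
  -- the annihilator of `R`
  set φ : W₂ →ₗ[F] Module.Dual F R := (LinearMap.lcomp F F R.subtype).comp D.f₂ with hφdef
  set Rp := LinearMap.ker φ with hRp
  have hRp' : ∀ w : Rp, ∀ y ∈ R, D.f₂ (w : W₂) y = 0 := fun w y hy =>
    LinearMap.congr_fun (LinearMap.mem_ker.1 w.2) ⟨y, hy⟩
  have hRpdim : n ≤ Module.finrank F Rp + r' := by
    have e := φ.finrank_range_add_finrank_ker
    have e2 := Submodule.finrank_le (LinearMap.range φ)
    rw [Subspace.dual_finrank_eq] at e2
    rw [Module.finrank_fintype_fun_eq_card, Fintype.card_fin] at e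
    have e3 : Module.finrank F Rp = Module.finrank F (LinearMap.ker φ) := rfl
    have e4 : r' = Module.finrank F R := rfl
    omega
  let E : W₂ → W₂ →ₗ[F] W₂ := fun w => LinearMap.id + (D.f₂.flip z).smulRight w - (D.f₂.flip w).smulRight z -
    (D.f₂.flip z).smulRight ((D.f₂ w w / 2) • z)
  have hE : ∀ w y, E w y = y + D.f₂ y z • w - D.f₂ y w • z - D.f₂ y z • (D.f₂ w w / 2) • z := fun w y => rfl
  have hwz : ∀ w : Rp, D.f₂ (w : W₂) z = 0 := fun w => hRp' w z hzR
  have hEorth : ∀ (w : Rp) y y', D.f₂ (E w y) (E w y') = D.f₂ y y' := by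
    intro w y y'
    rw [hE, hE]
    simp only [map_add, map_sub, map_smul, LinearMap.add_apply, LinearMap.sub_apply, LinearMap.smul_apply,
      smul_eq_mul, hzz, hwz w, D.symm z w, D.symm z y', D.symm (w : W₂) y']
    field_simp
    ring
  have hEkr : ∀ w : Rp, ∀ x y x' y', D.f₁ ((LinearMap.id : W₁ →ₗ[F] W₁) x) ((LinearMap.id : W₁ →ₗ[F] W₁) x') *
      D.f₂ (E w y) (E w y') = D.f₁ x x' * D.f₂ y y' := fun w x y x' y' => by
    rw [hEorth]; rfl
  let X : Rp → GLm := fun w => g⁻¹ * D.kr LinearMap.id (E w) (hEkr w) * g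
  -- `1 ⊗ E` fixes `G` and is trivial modulo `G` on its annihilator
  have hEfix : ∀ (w : Rp) q, q ∈ G → (D.kr LinearMap.id (E w) (hEkr w) : Mat) *ᵥ q = q := by
    intro w q hq
    rw [← hrange] at hq
    obtain ⟨Y, rfl⟩ := hq
    rw [hΨ, Matrix.mulVec_sum]
    refine Finset.sum_congr rfl fun i _ => ?_
    rw [D.kr_pure, LinearMap.id_apply]
    congr 1
    rw [hE, D.symm _ z, D.symm _ (w : W₂), hRp' w _ (Y i).2]
    obtain ⟨y, hy⟩ := (Y i).2
    obtain ⟨y', rfl⟩ := hzR
    rw [← hy, hts]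
    simp
  have hXmem : ∀ w, X w ∈ M ⊓ D.Rad u := by
    intro w
    have hk := D.kr_mem LinearMap.id (E w) (hEkr w)
    refine Subgroup.mem_inf.2 ⟨mul_mem (mul_mem (inv_mem hg) (hM.le hk)) hg, D.mem_Rad.2
      ⟨(Cfsg.spGL m F).mul_mem ((Cfsg.spGL m F).mul_mem ((Cfsg.spGL m F).inv_mem (hM.sp hg)) (D.H_le hk))
        (hM.sp hg), fun y => ?_, fun q hq => ?_⟩⟩
    · show ((g⁻¹ * _ * g : GLm) : Mat) *ᵥ _ = _
      rw [mulVec_mul_GL, mulVec_mul_GL, hEfix w _ (mulVec_mem_img (D.tau_mem_L u y)), inv_mulVec_cancel]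
    · -- `g q` is orthogonal to `G`
      have hperp : ∀ c ∈ G, B ((g : Mat) *ᵥ q) c = 0 := by
        intro c hc
        obtain ⟨c, ⟨y, rfl⟩, rfl⟩ := mem_img.1 hc
        rw [hgs, ← D.κ_spec, hq]
        simp
      let Δ : Vec →ₗ[F] Vec := Matrix.toLin' ((D.kr LinearMap.id (E w) (hEkr w) : Mat) - 1) -
        (D.τ.flip (w : W₂)).comp (D.κ' z)
      have hΔ : (LinearMap.range Ψ).mkQ.comp Δ = 0 := D.ext_pure fun x y => by
        show Submodule.Quotient.mk _ = 0
        rw [Submodule.Quotient.mk_eq_zero]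
        simp only [Δ, LinearMap.sub_apply, LinearMap.comp_apply, Matrix.toLin'_apply, Matrix.sub_mulVec,
          Matrix.one_mulVec, D.kr_pure, LinearMap.id_apply, LinearMap.flip_apply, D.κ'_pure, hE]
        have hmem := hmemΨ x ((-(D.f₂ y w) - D.f₂ y z * (D.f₂ (w : W₂) w / 2)) • z) (R.smul_mem _ hzR)
        convert hmem using 1
        simp only [map_add, map_sub, map_smul, LinearMap.smul_apply]
        module
      have hk0 : D.κ' z ((g : Mat) *ᵥ q) = 0 := D.κ'_eq fun x => by
        rw [hperp _ (hrange ▸ hmemΨ x z hzR)]; simp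
      have e := LinearMap.congr_fun hΔ ((g : Mat) *ᵥ q)
      simp only [LinearMap.comp_apply, LinearMap.zero_apply, Submodule.mkQ_apply, Submodule.Quotient.mk_eq_zero, Δ,
        LinearMap.sub_apply, hk0, map_zero, sub_zero, Matrix.toLin'_apply, Matrix.sub_mulVec,
        Matrix.one_mulVec] at e
      rw [hrange] at e
      obtain ⟨l, hl, hl'⟩ := mem_img.1 e
      show ((g⁻¹ * _ * g : GLm) : Mat) *ᵥ q - q ∈ _
      rw [mulVec_mul_GL, mulVec_mul_GL]
      convert hl using 1
      apply mulVec_inj g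
      rw [mulVec_sub, mulVec_inv_cancel, hl']
  choose a hau haf hag using fun w => D.shape_Rad hu (hM.tight u hu (hXmem w))
    (Subgroup.mem_inf.1 (hXmem w)).2
  set U := LinearMap.ker (D.f₁.flip u) with hU
  have hUdim : Module.finrank F U + 1 ≤ k := by
    have e := (D.f₁.flip u).finrank_range_add_finrank_ker
    have : 1 ≤ Module.finrank F (LinearMap.range (D.f₁.flip u)) := by
      rw [Submodule.one_le_finrank_iff, ne_eq, LinearMap.range_eq_bot]
      intro h0
      exact one_ne_zero (hv.symm.trans (LinearMap.congr_fun h0 v))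
    rw [Module.finrank_fintype_fun_eq_card, Fintype.card_fin] at e
    have e3 : Module.finrank F U = Module.finrank F (LinearMap.ker (D.f₁.flip u)) := rfl
    omega
  have hmemU : ∀ w, a w v - v ∈ U := fun w => by
    show D.f₁ (a w v - v) u = 0
    have e := haf w v u
    rw [hau, hv] at e
    rw [map_sub, LinearMap.sub_apply, e, hv, sub_self]
  have hinj : Function.Injective fun w : Rp => ((⟨_, hmemU w⟩ : U), D.f₂ (w : W₂) z') := by
    intro w w' hww
    simp only [Prod.mk.injEq, Subtype.mk.injEq, sub_left_inj] at hww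
    obtain ⟨hav, hwz'⟩ := hww
    -- `a` is determined by its value at `v`
    have hdet : ∀ x, D.f₁ x u = 0 → a w x = a w' x := by
      intro x hx
      have hc : ∀ w, ∃ c : F, a w x = x + c • u := fun w => by
        have hR := ((D.mem_Rad).1 (Subgroup.mem_inf.1 (hXmem w)).2).2.2 (D.τ x y₀) (by rw [D.κ_pure, hx, zero_smul])
        rw [hag w] at hR
        obtain ⟨c, hc⟩ := D.eq_smul_of_mem hu hy₀ (u' := a w x - x) (by rwa [map_sub, LinearMap.sub_apply])
        exact ⟨c, by rw [← hc, add_sub_cancel]⟩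
      obtain ⟨c, hc1⟩ := hc w
      obtain ⟨c', hc2⟩ := hc w'
      have e1 := haf w x v
      have e2 := haf w' x v
      have e3 := haf w u v
      rw [hau] at e3
      have e4 : D.f₁ u v = -1 := by rw [D.swap₁, hv]
      rw [hc1, map_add, LinearMap.add_apply, map_smul, LinearMap.smul_apply, e3, e4] at e1
      rw [hc2, map_add, LinearMap.add_apply, map_smul, LinearMap.smul_apply, ← hav, e3, e4] at e2
      rw [hc1, hc2]
      simp only [smul_eq_mul] at e1 e2
      rw [show c = c' by linear_combination e2 - e1]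
    have haeq : ∀ x, a w x = a w' x := fun x => by
      have h0 : D.f₁ (x - D.f₁ x u • v) u = 0 := by simp [hv]
      have := hdet _ h0
      rwa [map_sub, map_sub, map_smul, map_smul, hav, sub_left_inj] at this
    have hXeq : X w = X w' := D.gl_ext_pure fun x y => by rw [hag, hag, haeq]
    have hkeq : ∀ y, E w y = E w' y := fun y => by
      have h' : D.kr LinearMap.id (E w) (hEkr w) = D.kr LinearMap.id (E w') (hEkr w') :=
        mul_left_cancel (mul_right_cancel hXeq)
      have e := congrArg (fun q : GLm => (q : Mat) *ᵥ D.τ u y) h'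
      simp only [D.kr_pure, LinearMap.id_apply] at e
      exact sub_eq_zero.1 (D.tau_right hu (by rw [map_sub, e, sub_self]))
    obtain ⟨y, hy⟩ : ∃ y, D.f₂ y z = 1 := ⟨z', by rw [D.symm, hz']⟩
    have e := hkeq y
    rw [hE, hE, hy, one_smul, one_smul] at e
    refine Subtype.ext ?_
    have hd : ∃ c : F, (w : W₂) - w' = c • z := ⟨D.f₂ y w + D.f₂ (w : W₂) w / 2 - (D.f₂ y w' + D.f₂ (w' : W₂) w' / 2), by
      linear_combination (norm := module) e⟩
    obtain ⟨c, hc⟩ := hd
    have hc0 : c = 0 := by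
      have e5 := congrArg (fun q => D.f₂ q z') hc
      simp only [map_sub, LinearMap.sub_apply, hwz', sub_self, map_smul, LinearMap.smul_apply, hz', smul_eq_mul, mul_one] at e5
      exact e5.symm
    rwa [hc0, zero_smul, sub_eq_zero] at hc
  have hle := finrank_le_of_inj (F := F) _ hinj
  rw [Module.finrank_prod, Module.finrank_self] at hle
  have hkn : k * r' ≤ k + r' := by omega
  have hk := D.two_le
  obtain rfl : k = 2 := by
    by_contra hk'
    have h1 : 3 * r' ≤ k * r' := Nat.mul_le_mul_right _ (by omega)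
    have h2 : k * 2 ≤ k * r' := Nat.mul_le_mul_left _ hr2
    omega
  rcases hex with hex | hex
  · exact hex ⟨rfl, by omega⟩
  · have := hex R (by rintro _ ⟨a, rfl⟩ _ ⟨b, rfl⟩; exact hts a b)
    omega

/-- `g` lies in the stabiliser if it conjugates some transvection into it -/
theorem Tight.mem_of_conj (hM : D.Tight M) (p : ℕ) [Fact p.Prime] [CharP F p] (h2 : (2 : F) ≠ 0)
    (hex : D.Generic) {g : GLm} (hg : g ∈ M) {u : W₁} (hu : u ≠ 0)
    (hT : g * D.T u 1 * g⁻¹ ∈ D.H) : g ∈ D.H := by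
  obtain ⟨u', hu', h⟩ := hM.pure_of_conj p h2 hex hg hu hT
  exact hM.mem_of_image hg hu hu' h

/-- `p`-subgroups containing a transvection lie in the stabiliser -/
theorem Tight.mem_of_pgroup (hM : D.Tight M) (p : ℕ) [Fact p.Prime] [CharP F p] (h2 : (2 : F) ≠ 0)
    (hex : D.Generic) {R : Subgroup GLm} (hR : IsPGroup p R) (hRM : R ≤ M) {u : W₁} (hu : u ≠ 0)
    (hT : D.T u 1 ∈ R) : R ≤ D.H := by
  by_contra hne
  haveI : Group.IsNilpotent R := hR.isNilpotent
  have hlt : D.H.subgroupOf R < ⊤ := by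
    rw [lt_top_iff_ne_top, ne_eq, Subgroup.subgroupOf_eq_top]
    exact hne
  obtain ⟨g, hg, hgH⟩ := SetLike.exists_of_lt (Group.normalizerCondition_of_isNilpotent _ hlt)
  refine hgH ?_
  rw [Subgroup.mem_subgroupOf]
  refine hM.mem_of_conj p h2 hex (hRM g.2) hu ?_
  have := (Subgroup.mem_normalizer_iff.1 hg ⟨D.T u 1, hT⟩).1 (by rw [Subgroup.mem_subgroupOf]; exact D.T_mem u 1)
  rw [Subgroup.mem_subgroupOf] at this
  simpa using this

end Data

end Cfsg.Agent.Forms.Max.SympTensor
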