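import Cfsg.Agent.Lib.Forms.Max.SympTensor.Basic

/-!
# `W₁ ⊗ W₂`: an overgroup without new elements in the radicals of the stabilisers of the `u ⊗ W₂`
-/

set_option autoImplicit false
set_option linter.unusedSectionVars false

namespace Cfsg.Agent.Forms.Max.SympTensor

open Matrix Cfsg.Agent.Forms.SympStd

variable {F : Type*} [Field F] {m k n : ℕ}

local notation "Vec" => (Fin m ⊕ Fin m → F)
local notation "GLm" => GL (Fin m ⊕ Fin m) F
local notation "Mat" => Matrix (Fin m ⊕ Fin m) (Fin m ⊕ Fin m) F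
local notation "B" => sympB m F
local notation "W₁" => (Fin k → F)
local notation "W₂" => (Fin n → F)

namespace Data

variable (D : Data F m k n)

/-- the alternating form as an equivalence with the dual -/
noncomputable def dual₁ : W₁ ≃ₗ[F] Module.Dual F W₁ :=
  LinearEquiv.ofBijective D.f₁ ⟨(injective_iff_map_eq_zero _).2 fun y hy => D.nd₁ y fun z => by
      rw [hy]; rfl,
    (LinearMap.injective_iff_surjective_of_finrank_eq_finrank (f := D.f₁)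
      Subspace.dual_finrank_eq.symm).1 ((injective_iff_map_eq_zero _).2 fun y hy => D.nd₁ y fun z => by
      rw [hy]; rfl)⟩

/-- contraction with a vector of the second factor -/
noncomputable def κ' (y : W₂) : Vec →ₗ[F] W₁ :=
  D.dual₁.symm.toLinearMap.comp ((LinearMap.lcomp F F (D.τ.flip y)).comp B)

theorem κ'_spec (y : W₂) (v : Vec) (x : W₁) : D.f₁ (D.κ' y v) x = B v (D.τ x y) := by
  have h : D.dual₁ (D.κ' y v) = (B v).comp (D.τ.flip y) := by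
    simp [κ', LinearMap.lcomp_apply']
  exact LinearMap.congr_fun h x

theorem κ'_eq {y : W₂} {v : Vec} {z : W₁} (h : ∀ x, D.f₁ z x = B v (D.τ x y)) : D.κ' y v = z :=
  sub_eq_zero.1 (D.nd₁ _ fun x => by rw [map_sub, LinearMap.sub_apply, D.κ'_spec, h, sub_self])

theorem κ'_pure (z : W₂) (x : W₁) (y : W₂) : D.κ' z (D.τ x y) = D.f₂ y z • x :=
  D.κ'_eq fun w => by rw [D.pair, map_smul, LinearMap.smul_apply, smul_eq_mul, mul_comm]

theorem eq_smul_of_mem {u u' : W₁} (hu : u ≠ 0) {y : W₂} (hy : y ≠ 0) (h : D.τ u' y ∈ D.L u) :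
    ∃ c : F, u' = c • u :=
  D.prop_of_perp hu fun w hw => by
    obtain ⟨z, hz⟩ := h
    have e := congrArg (D.κ w) hz
    rw [D.κ_pure, D.κ_pure, hw, zero_smul] at e
    exact (smul_eq_zero.1 e.symm).resolve_right hy

theorem rows_indep {Y : Fin k → W₂} (h : ∑ i, D.τ (Pi.single i 1) (Y i) = 0) : ∀ i, Y i = 0 := by
  have h0 : ∑ ij : Fin k × Fin n, Y ij.1 ij.2 • D.basis ij = 0 := by
    rw [← h, Fintype.sum_prod_type]
    refine Finset.sum_congr rfl fun i _ => ?_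
    conv_rhs => rw [pi_eq_sum_univ' (Y i)]
    rw [map_sum]
    exact Finset.sum_congr rfl fun j _ => by rw [D.basis_apply, map_smul]
  have := Fintype.linearIndependent_iff.1 D.basis.linearIndependent (fun ij => Y ij.1 ij.2) h0
  exact fun i => funext fun j => this (i, j)

variable [Fintype F] (M : Subgroup (GL (Fin m ⊕ Fin m) F))

/-- an overgroup without new elements in the radicals -/
structure Tight : Prop where
  le : D.H ≤ M
  sp : M ≤ Cfsg.spGL m F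
  tight : ∀ u : (Fin k → F), u ≠ 0 → M ⊓ D.Rad u ≤ D.H

variable {D M}

theorem exists_moveto {u u' : W₁} (hu : u ≠ 0) (hu' : u' ≠ 0) :
    ∃ h ∈ D.H, ∀ y, (h : Mat) *ᵥ D.τ u' y = D.τ u y := by
  have step : ∀ a b : W₁, D.f₁ a b ≠ 0 → ∃ h ∈ D.H, ∀ y, (h : Mat) *ᵥ D.τ a y = D.τ b y := fun a b hab =>
    ⟨D.T (b - a) (D.f₁ a b)⁻¹, D.T_mem _ _, fun y => by
      rw [D.T_pure]
      have e : D.f₁ a (b - a) = D.f₁ a b := by rw [map_sub, D.alt, sub_zero]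
      rw [e, inv_mul_cancel₀ hab, one_smul, add_sub_cancel]⟩
  by_cases h : D.f₁ u' u ≠ 0
  · exact step u' u h
  push Not at h
  obtain ⟨z, hz, hz'⟩ : ∃ z, D.f₁ u' z ≠ 0 ∧ D.f₁ z u ≠ 0 := by
    obtain ⟨a, ha⟩ := D.exists_one₁ hu
    obtain ⟨b, hb⟩ := D.exists_one₁ hu'
    have hb' : D.f₁ u' b = -1 := by rw [D.swap₁, hb]
    by_cases h1 : D.f₁ u' a ≠ 0
    · exact ⟨a, h1, by rw [ha]; exact one_ne_zero⟩
    by_cases h2 : D.f₁ b u ≠ 0
    · exact ⟨b, by rw [hb']; exact neg_ne_zero.2 one_ne_zero, h2⟩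
    push Not at h1 h2
    exact ⟨a + b, by rw [map_add, h1, hb', zero_add]; exact neg_ne_zero.2 one_ne_zero,
      by rw [map_add, LinearMap.add_apply, ha, h2, add_zero]; exact one_ne_zero⟩
  obtain ⟨h1, hh1, e1⟩ := step u' z hz
  obtain ⟨h2, hh2, e2⟩ := step z u hz'
  exact ⟨h2 * h1, mul_mem hh2 hh1, fun y => by rw [mulVec_mul_GL, e1, e2]⟩

/-- elements preserving a `u ⊗ W₂` lie in the stabiliser of the decomposition -/
theorem Tight.mem_of_stab (hM : D.Tight M) {g : GLm} (hg : g ∈ M) {u : W₁} (hu : u ≠ 0)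
    (hL : ∀ y, (g : Mat) *ᵥ D.τ u y ∈ D.L u) : g ∈ D.H := by
  obtain ⟨v, hv⟩ := D.exists_one₁ hu
  have huv : D.f₁ u (-v) = 1 := by rw [map_neg, D.swap₁ v u, hv, neg_neg]
  have hgs := Symp.mem_spGL_iff.1 (hM.sp hg)
  set A : W₂ →ₗ[F] W₂ := (D.κ (-v)).comp ((Matrix.toLin' (g : Mat)).comp (D.τ u)) with hAdef
  have hA : ∀ y, (g : Mat) *ᵥ D.τ u y = D.τ u (A y) := by
    intro y
    obtain ⟨z, hz⟩ := hL y
    rw [← hz]
    congr 1
    show z = D.κ (-v) ((g : Mat) *ᵥ D.τ u y)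
    rw [← hz, D.κ_pure, huv, one_smul]
  have hAi : Function.Injective A := (injective_iff_map_eq_zero A).2 fun y hy =>
    D.tau_right hu (mulVec_inj g (by rw [hA, hy, map_zero, Matrix.mulVec_zero]))
  have hAs := LinearMap.injective_iff_surjective.1 hAi
  have hκ : ∀ w y, D.f₂ (D.κ u ((g : Mat) *ᵥ w)) (A y) = D.f₂ (D.κ u w) y := fun w y => by
    rw [D.κ_spec, D.κ_spec, ← hA, hgs]
  have hker : ∀ w, D.κ u w = 0 → D.κ u ((g : Mat) *ᵥ w) = 0 := fun w hw => D.nd₂ _ fun y => by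
    obtain ⟨z, rfl⟩ := hAs y
    rw [hκ, hw]; simp
  have hker' : ∀ w, D.κ u w = 0 → D.κ u (((g⁻¹ : GLm) : Mat) *ᵥ w) = 0 := fun w hw => D.nd₂ _ fun y => by
    rw [← hκ, mulVec_inv_cancel, hw]; simp
  have hconj : ∀ r ∈ D.H, r ∈ D.Rad u → g * r * g⁻¹ ∈ D.H ∧ g * r * g⁻¹ ∈ D.Rad u := by
    intro r hr hrR
    have hR : g * r * g⁻¹ ∈ D.Rad u := by
      refine D.mem_Rad.2 ⟨(Cfsg.spGL m F).mul_mem ((Cfsg.spGL m F).mul_mem (hM.sp hg) hrR.1) ((Cfsg.spGL m F).inv_mem (hM.sp hg)), fun y => ?_, fun w hw => ?_⟩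
      · obtain ⟨z, rfl⟩ := hAs y
        rw [mulVec_mul_GL, mulVec_mul_GL, ← hA, inv_mulVec_cancel, hrR.2.1]
      · obtain ⟨z, hz⟩ := hrR.2.2 _ (hker' w hw)
        refine ⟨A z, ?_⟩
        rw [← hA, hz, mulVec_mul_GL, mulVec_mul_GL, mulVec_sub, mulVec_inv_cancel]
    exact ⟨hM.tight u hu (Subgroup.mem_inf.2 ⟨mul_mem (mul_mem hg (hM.le hr)) (inv_mem hg), hR⟩), hR⟩
  -- the multiplier
  obtain ⟨hT, hTR⟩ := hconj _ (D.T_mem u 1) (D.T_mem_Rad u 1)
  obtain ⟨a', -, -, hT'⟩ := D.shape_Rad hu hT hTR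
  set ρ := D.f₁ (a' v - v) (-v) with hρdef
  set Z : W₂ → W₂ := fun y => D.κ u (((g⁻¹ : GLm) : Mat) *ᵥ D.τ v y) with hZdef
  have hZ : ∀ y, A (Z y) = ρ • y := by
    intro y
    have e := hT' v y
    rw [mulVec_mul_GL, mulVec_mul_GL, D.T_apply, one_smul, mulVec_add, mulVec_inv_cancel, hA] at e
    have e2 : D.τ u (A (Z y)) = D.τ (a' v - v) y := by
      rw [map_sub, LinearMap.sub_apply, ← e, add_sub_cancel_left]
    have e3 := congrArg (D.κ (-v)) e2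
    rwa [D.κ_pure, D.κ_pure, huv, one_smul] at e3
  have hρ : ∀ y y', D.f₂ (A y) (A y') = ρ * D.f₂ y y' := by
    intro y y'
    have h1 : D.f₂ (Z (A y)) y' = D.f₂ (A y) (A y') := by
      show D.f₂ (D.κ u (((g⁻¹ : GLm) : Mat) *ᵥ D.τ v (A y))) y' = _
      rw [← hκ, mulVec_inv_cancel, D.κ_pure, hv, one_smul]
    have h2 : Z (A y) = ρ • y := hAi (by rw [hZ, map_smul])
    rw [← h1, h2, map_smul, LinearMap.smul_apply, smul_eq_mul]
  have hρ0 : ρ ≠ 0 := by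
    intro e
    obtain ⟨y, hy⟩ := D.exists_ne₂
    obtain ⟨z, hz⟩ := D.exists_one₂ (y := A y) fun h => hy (hAi (h.trans (map_zero A).symm))
    obtain ⟨z', rfl⟩ := hAs z
    rw [hρ, e, zero_mul] at hz
    exact zero_ne_one hz
  have hz : ∀ y, D.κ u ((g : Mat) *ᵥ D.τ v y) = ρ⁻¹ • A y := fun y =>
    sub_eq_zero.1 (D.nd₂ _ fun x => by
      obtain ⟨x, rfl⟩ := hAs x
      rw [map_sub, LinearMap.sub_apply, map_smul, LinearMap.smul_apply, hκ, hρ, D.κ_pure, hv, one_smul,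
        smul_eq_mul, ← mul_assoc, inv_mul_cancel₀ hρ0, one_mul, sub_self])
  -- the action modulo `L u`
  have hact : ∀ w, D.f₁ w u = 0 → ∃ x, ∀ y, (g : Mat) *ᵥ D.τ w y - D.τ x (A y) ∈ D.L u := by
    intro w hw
    obtain ⟨hr, hrR⟩ := hconj _ (D.R_mem u w hw) (D.R_mem_Rad u w hw)
    obtain ⟨a, -, -, har⟩ := D.shape_Rad hu hr hrR
    refine ⟨ρ⁻¹ • (a v - v), fun y => ?_⟩
    set N := (g : Mat) *ᵥ D.τ v y - D.τ v (ρ⁻¹ • A y) with hNdef
    have hN : D.κ u N = 0 := by rw [hNdef, map_sub, hz, D.κ_pure, hv, one_smul, sub_self]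
    obtain ⟨l, hl⟩ := hrR.2.2 N hN
    have e : ((g * D.R u w hw * g⁻¹ : GLm) : Mat) *ᵥ ((g : Mat) *ᵥ D.τ v y) =
        (g : Mat) *ᵥ D.τ v y + ((g : Mat) *ᵥ D.τ w y + D.f₁ v w • D.τ u (A y)) := by
      rw [mulVec_mul_GL, mulVec_mul_GL, inv_mulVec_cancel, D.R_pure, hv, one_smul, map_add, map_add, map_smul,
        LinearMap.add_apply, LinearMap.add_apply, LinearMap.smul_apply, mulVec_add, mulVec_add,
        mulVec_smul, hA]
    have e' : ((g * D.R u w hw * g⁻¹ : GLm) : Mat) *ᵥ ((g : Mat) *ᵥ D.τ v y) =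
        D.τ (a v) (ρ⁻¹ • A y) + (N + D.τ u l) := by
      rw [show (g : Mat) *ᵥ D.τ v y = D.τ v (ρ⁻¹ • A y) + N by rw [hNdef, add_sub_cancel], mulVec_add, har,
        show ((g * D.R u w hw * g⁻¹ : GLm) : Mat) *ᵥ N = N + D.τ u l by rw [hl, add_sub_cancel]]
    refine ⟨l - D.f₁ v w • A y, ?_⟩
    rw [e] at e'
    simp only [map_sub, map_smul, LinearMap.sub_apply, LinearMap.smul_apply, hNdef] at e' ⊢
    linear_combination (norm := module) -e'
  obtain ⟨y₀, hy₀⟩ := D.exists_ne₂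
  obtain ⟨y₁, hy₁⟩ := D.exists_one₂ (y := A y₀) fun h => hy₀ (hAi (h.trans (map_zero A).symm))
  set σ : W₁ →ₗ[F] W₁ := (D.κ' y₁).comp ((Matrix.toLin' (g : Mat)).comp (D.τ.flip y₀)) with hσdef
  have hσ : ∀ w, D.f₁ w u = 0 → ∀ y, (g : Mat) *ᵥ D.τ w y - D.τ (σ w) (A y) ∈ D.L u := by
    intro w hw y
    obtain ⟨x, hx⟩ := hact w hw
    obtain ⟨l, hl⟩ := hx y₀
    have hs : σ w = x + D.f₂ l y₁ • u := by
      show D.κ' y₁ ((g : Mat) *ᵥ D.τ w y₀) = _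
      rw [show (g : Mat) *ᵥ D.τ w y₀ = D.τ x (A y₀) + D.τ u l by rw [hl, add_sub_cancel], map_add,
        D.κ'_pure, D.κ'_pure, hy₁, one_smul]
    obtain ⟨l', hl'⟩ := hx y
    refine ⟨l' - D.f₂ l y₁ • A y, ?_⟩
    rw [hs]
    simp only [map_sub, map_add, map_smul, LinearMap.add_apply, LinearMap.smul_apply, hl']
    module
  have hσu : ∀ w, D.f₁ w u = 0 → D.f₁ (σ w) u = 0 := by
    intro w hw
    obtain ⟨l, hl⟩ := hσ w hw y₀
    have e : D.κ u (D.τ u l) = D.κ u ((g : Mat) *ᵥ D.τ w y₀ - D.τ (σ w) (A y₀)) := by rw [hl]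
    rw [D.κ_pure, D.alt, zero_smul, map_sub, hker _ (by rw [D.κ_pure, hw, zero_smul]), D.κ_pure,
      zero_sub, eq_comm, neg_eq_zero] at e
    exact (smul_eq_zero.1 e).resolve_right fun h => hy₀ (hAi (h.trans (map_zero A).symm))
  have hσf : ∀ w w', D.f₁ w u = 0 → D.f₁ w' u = 0 → D.f₁ (σ w) (σ w') = ρ⁻¹ * D.f₁ w w' := by
    intro w w' hw hw'
    obtain ⟨z₀, hz₀⟩ := D.exists_one₂ hy₀
    obtain ⟨l, hl⟩ := hσ w hw y₀
    obtain ⟨l', hl'⟩ := hσ w' hw' z₀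
    have e := hgs (D.τ w y₀) (D.τ w' z₀)
    rw [show (g : Mat) *ᵥ D.τ w y₀ = D.τ (σ w) (A y₀) + D.τ u l by rw [hl, add_sub_cancel],
      show (g : Mat) *ᵥ D.τ w' z₀ = D.τ (σ w') (A z₀) + D.τ u l' by rw [hl', add_sub_cancel]] at e
    simp only [map_add, LinearMap.add_apply, D.pair, D.alt, hσu w hw, D.swap₁ (σ w') u, hσu w' hw', hρ,
      hz₀, neg_zero, zero_mul, add_zero, mul_one] at e
    rw [← e, mul_comm (D.f₁ (σ w) (σ w')) ρ, ← mul_assoc, inv_mul_cancel₀ hρ0, one_mul]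
  -- the element `a ⊗ A`
  let P : W₁ →ₗ[F] W₁ := LinearMap.id - (D.f₁.flip u).smulRight v - (D.f₁ v).smulRight u
  have hP : ∀ x, P x = x - D.f₁ x u • v - D.f₁ v x • u := fun x => rfl
  have hPu : ∀ x, D.f₁ (P x) u = 0 := fun x => by
    rw [hP]; simp [hv, D.alt]
  have hPv : ∀ x, D.f₁ v (P x) = 0 := fun x => by
    rw [hP]; simp [hv, D.alt]
  let π : W₁ →ₗ[F] W₁ := LinearMap.id - (D.f₁ v).smulRight u
  have hπ : ∀ x, π x = x - D.f₁ v x • u := fun x => rfl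
  let a : W₁ →ₗ[F] W₁ := (D.f₁.flip u).smulRight (ρ⁻¹ • v) + (D.f₁ v).smulRight u + π.comp (σ.comp P)
  have ha : ∀ x, a x = D.f₁ x u • ρ⁻¹ • v + D.f₁ v x • u + π (σ (P x)) := fun x => rfl
  have hau : a u = u := by
    rw [ha, show P u = 0 by rw [hP, D.alt, hv]; simp, map_zero, map_zero, D.alt, hv]; simp
  have hπs : ∀ x x', D.f₁ (π (σ (P x))) (π (σ (P x'))) = ρ⁻¹ * D.f₁ (P x) (P x') := fun x x' => by
    rw [← hσf _ _ (hPu x) (hPu x'), hπ, hπ]
    simp [D.alt, D.swap₁ (σ (P x')) u, hσu _ (hPu x'), hσu _ (hPu x)]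
  have hπu : ∀ x, D.f₁ (π (σ (P x))) u = 0 := fun x => by rw [hπ]; simp [D.alt, hσu _ (hPu x)]
  have hπv : ∀ x, D.f₁ v (π (σ (P x))) = 0 := fun x => by rw [hπ]; simp [hv]
  have hμ : ∀ x x', D.f₁ (a x) (a x') = ρ⁻¹ * D.f₁ x x' := by
    intro x x'
    have e : D.f₁ (P x) (P x') = D.f₁ x x' - D.f₁ x u * D.f₁ v x' + D.f₁ x' u * D.f₁ v x := by
      rw [hP x]
      have h1 := hPu x'
      have h2 := hPv x'
      rw [map_sub, map_sub, LinearMap.sub_apply, LinearMap.sub_apply, map_smul, map_smul, LinearMap.smul_apply,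
        LinearMap.smul_apply, h2, D.swap₁ (P x') u, h1, hP, map_sub, map_sub, map_smul, map_smul]
      simp only [smul_eq_mul, D.swap₁ v x]
      ring
    rw [ha, ha]
    simp only [map_add, map_smul, LinearMap.add_apply, LinearMap.smul_apply, smul_eq_mul, D.alt, hv,
      D.swap₁ v u, hπs, hπu, hπv, D.swap₁ (π (σ (P x'))) u, D.swap₁ v (π (σ (P x))), e]
    ring
  have hkr : ∀ x y x' y', D.f₁ (a x) (a x') * D.f₂ (A y) (A y') = D.f₁ x x' * D.f₂ y y' := fun x y x' y' => by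
    rw [hμ, hρ]; field_simp
  set h := D.kr a A hkr with hhdef
  have hh : h ∈ D.H := D.kr_mem a A hkr
  have hhu : ∀ y, (h : Mat) *ᵥ D.τ u y = D.τ u (A y) := fun y => by rw [hhdef, D.kr_pure, hau]
  suffices hR : h⁻¹ * g ∈ D.Rad u by
    have := hM.tight u hu (Subgroup.mem_inf.2 ⟨mul_mem (inv_mem (hM.le hh)) hg, hR⟩)
    simpa using mul_mem hh this
  refine D.mem_Rad.2 ⟨(Cfsg.spGL m F).mul_mem ((Cfsg.spGL m F).inv_mem hh.1) (hM.sp hg), fun y => ?_, fun w hw => ?_⟩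
  · rw [mulVec_mul_GL, hA, ← hhu, inv_mulVec_cancel]
  let Pr : Vec →ₗ[F] Vec := LinearMap.id - (D.τ v).comp (D.κ u)
  have hPr' : Pr w = w := by
    show w - D.τ v (D.κ u w) = w
    rw [hw, map_zero, sub_zero]
  have hall : (D.L u).mkQ.comp ((Matrix.toLin' (g : Mat) - Matrix.toLin' (h : Mat)).comp Pr) = 0 :=
    D.ext_pure fun x y => by
      show Submodule.Quotient.mk _ = 0
      rw [Submodule.Quotient.mk_eq_zero]
      show (g : Mat) *ᵥ (D.τ x y - D.τ v (D.κ u (D.τ x y))) - (h : Mat) *ᵥ (D.τ x y - D.τ v (D.κ u (D.τ x y))) ∈ _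
      have hw0 : D.f₁ (x - D.f₁ x u • v) u = 0 := by simp [hv]
      rw [D.κ_pure, map_smul, show D.τ x y - D.f₁ x u • D.τ v y = D.τ (x - D.f₁ x u • v) y by simp,
        hhdef, D.kr_pure]
      set w₀ := x - D.f₁ x u • v
      obtain ⟨l, hl⟩ := hσ w₀ hw0 y
      have hPw : P w₀ = w₀ - D.f₁ v w₀ • u := by rw [hP, hw0, zero_smul, sub_zero]
      obtain ⟨l', hl'⟩ := hσ u (D.alt u) y
      -- both sides agree modulo `L u`
      have haw : ∃ c : F, a w₀ = σ w₀ + c • u := by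
        obtain ⟨c, hc⟩ : ∃ c : F, σ u = c • u := by
          refine D.eq_smul_of_mem hu (y := A y₀) (fun h => hy₀ (hAi (h.trans (map_zero A).symm))) ?_
          obtain ⟨l, hl⟩ := hσ u (D.alt u) y₀
          rw [hA] at hl
          exact ⟨A y₀ - l, by rw [map_sub, hl, sub_sub_cancel]⟩
        refine ⟨D.f₁ v w₀ - D.f₁ v w₀ * c - D.f₁ v (σ (P w₀)), ?_⟩
        rw [ha, hπ, hw0, zero_smul, zero_add]
        conv_lhs => arg 2; arg 1; rw [hPw, map_sub, map_smul, hc]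
        module
      obtain ⟨c, hc⟩ := haw
      rw [hc]
      refine ⟨l - c • A y, ?_⟩
      simp only [map_sub, map_add, map_smul, LinearMap.add_apply, LinearMap.smul_apply, hl]
      module
  have e := LinearMap.congr_fun hall w
  rw [LinearMap.comp_apply, LinearMap.comp_apply, hPr'] at e
  change Submodule.Quotient.mk _ = 0 at e
  rw [Submodule.Quotient.mk_eq_zero] at e
  change (g : Mat) *ᵥ w - (h : Mat) *ᵥ w ∈ D.L u at e
  obtain ⟨l, hl⟩ := e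
  obtain ⟨l, rfl⟩ := hAs l
  refine ⟨l, ?_⟩
  rw [mulVec_mul_GL]
  apply mulVec_inj h
  rw [hhu, hl, mulVec_sub, mulVec_inv_cancel]

/-- elements mapping some `u ⊗ W₂` onto another lie in the stabiliser of the decomposition -/
theorem Tight.mem_of_image (hM : D.Tight M) {g : GLm} (hg : g ∈ M) {u u' : W₁} (hu : u ≠ 0) (hu' : u' ≠ 0)
    (hL : ∀ y, (g : Mat) *ᵥ D.τ u y ∈ D.L u') : g ∈ D.H := by
  obtain ⟨h, hh, e⟩ := exists_moveto (D := D) hu hu'
  have := hM.mem_of_stab (g := h * g) (mul_mem (hM.le hh) hg) hu fun y => by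
    obtain ⟨z, hz⟩ := hL y
    rw [mulVec_mul_GL, ← hz, e]
    exact D.tau_mem_L u z
  simpa using mul_mem (inv_mem hh) this

end Data

end Cfsg.Agent.Forms.Max.SympTensor
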