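import Cfsg.Agent.Lib.Forms.Max.SympTensor.TwoStab
import Cfsg.Agent.Lib.Forms.Max.OrthBase

/-!
# `W₁ ⊗ W₂` with `W₁` of dimension two and `W₂` of dimension at least five

For `g` outside the stabiliser take `g (u ⊗ W₂)` meeting `u ⊗ W₂` in the largest dimension.
Enough reflections of the second factor then commute with the conjugate of a transvection by `g`,
which therefore stabilises some `W₁ ⊗ r` with `r` singular.
-/

set_option autoImplicit false
set_option linter.unusedSectionVars false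

namespace Cfsg.Agent.Forms.Max.SympTensor

open Matrix Cfsg.Agent.Forms.SympStd

variable {F : Type*} [Field F] {m n : ℕ}

local notation "Vec" => (Fin m ⊕ Fin m → F)
local notation "GLm" => GL (Fin m ⊕ Fin m) F
local notation "Mat" => Matrix (Fin m ⊕ Fin m) (Fin m ⊕ Fin m) F
local notation "B" => sympB m F
local notation "W₁" => (Fin 2 → F)
local notation "W₂" => (Fin n → F)

namespace Data

variable (D : Data F m 2 n)

theorem prop_plane {u v : W₁} (hv : D.f₁ v u = 1) {x : W₁} (h : D.f₁ x u = 0) : x = (- D.f₁ x v) • u := by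
  have hind : LinearIndependent F ![u, v] := by
    rw [LinearIndependent.pair_iff]
    intro s t hst
    have e1 := congrArg (fun q => D.f₁ q u) hst
    have e2 := congrArg (fun q => D.f₁ q v) hst
    simp [D.alt, hv] at e1
    simp [D.alt, D.swap₁ v u, hv] at e2
    exact ⟨e2, e1⟩
  have hspan : Submodule.span F (Set.range ![u, v]) = ⊤ := hind.span_eq_top_of_card_eq_finrank (by simp)
  refine sub_eq_zero.1 (D.nd₁ _ fun y => ?_)
  have hy : y ∈ Submodule.span F (Set.range ![u, v]) := hspan ▸ Submodule.mem_top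
  obtain ⟨c, rfl⟩ := (Submodule.mem_span_range_iff_exists_fun F).1 hy
  simp [Fin.sum_univ_two, D.alt, D.swap₁ v u, hv, h]
  ring

/-- the part of `u ⊗ W₂` mapped into itself -/
noncomputable def meet (g : GL (Fin m ⊕ Fin m) F) (u : Fin 2 → F) : Submodule F (Fin n → F) :=
  (D.L u).comap ((Matrix.toLin' (g : Matrix (Fin m ⊕ Fin m) (Fin m ⊕ Fin m) F)).comp (D.τ u))

theorem mem_meet {g : GLm} {u : W₁} {y : W₂} : y ∈ D.meet g u ↔ (g : Mat) *ᵥ D.τ u y ∈ D.L u := by
  simp [meet, Matrix.toLin'_apply]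

include D in
theorem finrank_w₂ : Module.finrank F W₂ = n := by simp

theorem ker_bound {u : W₁} (g : GL (Fin m ⊕ Fin m) F) (t : W₂) (P : Submodule F W₁)
    (h : ∀ y, D.κ' t ((g : Mat) *ᵥ D.τ u y) ∈ P) :
    n ≤ Module.finrank F ((D.κ' t).comp ((Matrix.toLin' (g : Mat)).comp (D.τ u))).ker + Module.finrank F P := by
  have e := ((D.κ' t).comp ((Matrix.toLin' (g : Mat)).comp (D.τ u))).finrank_range_add_finrank_ker
  have hle : LinearMap.range ((D.κ' t).comp ((Matrix.toLin' (g : Mat)).comp (D.τ u))) ≤ P := by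
    rintro _ ⟨y, rfl⟩
    simpa [Matrix.toLin'_apply] using h y
  have := Submodule.finrank_mono hle
  rw [D.finrank_w₂] at e
  omega

variable {D} [Fintype F] {M : Subgroup (GL (Fin m ⊕ Fin m) F)}

theorem refl_form {t : W₂} (ht : D.f₂ t t ≠ 0) (q : Vec) :
    (D.krOne (D.refl t) (refl_isom ht) : Mat) *ᵥ q = q - D.τ ((2 / D.f₂ t t) • D.κ' t q) t := by
  have h := LinearMap.congr_fun (D.ext_pure (L := Matrix.toLin' (D.krOne (D.refl t) (refl_isom ht) : Mat))
    (L' := LinearMap.id - (D.τ.flip t).comp ((2 / D.f₂ t t) • D.κ' t)) fun x y => by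
    simp only [Matrix.toLin'_apply, D.krOne_pure, refl_apply, LinearMap.sub_apply, LinearMap.id_apply,
      LinearMap.comp_apply, LinearMap.flip_apply, LinearMap.smul_apply, D.κ'_pure, map_sub, map_smul]
    module) q
  simp only [Matrix.toLin'_apply, LinearMap.sub_apply, LinearMap.id_apply, LinearMap.comp_apply,
    LinearMap.flip_apply, LinearMap.smul_apply] at h
  exact h

theorem stab_of_meet {h : GLm} (hh : h ∈ D.H) {u : W₁} (hu : u ≠ 0) {y₀ : W₂} (hy₀ : y₀ ≠ 0)
    (hm : (h : Mat) *ᵥ D.τ u y₀ ∈ D.L u) (y : W₂) : (h : Mat) *ᵥ D.τ u y ∈ D.L u := by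
  obtain ⟨-, a, b, hab⟩ := hh
  rw [hab] at hm ⊢
  obtain ⟨c, hc⟩ := D.eq_smul_of_mem hu (D.b_injective hab hy₀) hm
  rw [hc, map_smul, LinearMap.smul_apply]
  exact Submodule.smul_mem _ _ (D.tau_mem_L u _)

/-- a reflection stabilising `g (u ⊗ W₂)` commutes with the conjugate of the transvection of `u` -/
theorem Tight.refl_comm (hM : D.Tight M) (h2 : (2 : F) ≠ 0) (hn : 4 ≤ n) {g : GLm} (hg : g ∈ M) {u : W₁} (hu : u ≠ 0) {t : W₂}
    (ht : D.f₂ t t ≠ 0)
    (hstab : ∀ y, ((g⁻¹ * D.krOne (D.refl t) (refl_isom ht) * g : GLm) : Mat) *ᵥ D.τ u y ∈ D.L u) :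
    (g * D.T u 1 * g⁻¹) * D.krOne (D.refl t) (refl_isom ht) =
      D.krOne (D.refl t) (refl_isom ht) * (g * D.T u 1 * g⁻¹) := by
  set b := D.krOne (D.refl t) (refl_isom ht) with hb
  have hbb : b * b = 1 := D.gl_ext_pure fun x y => by
    rw [mulVec_mul_GL, hb, D.krOne_pure, D.krOne_pure, refl_refl ht]; simp
  have hbinv : b⁻¹ = b := inv_eq_of_mul_eq_one_right hbb
  set h' := g⁻¹ * b * g with hh'
  have hh'M : h' ∈ M := mul_mem (mul_mem (inv_mem hg) (hM.le (D.krOne_mem _ _))) hg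
  obtain ⟨hs, a, β, hab⟩ := hM.mem_of_stab hh'M hu hstab
  obtain ⟨μ, hμ, hμ1, -⟩ := D.exists_multiplier hs hab
  obtain ⟨δ, hδ⟩ : ∃ δ : F, a u = δ • u := by
    obtain ⟨y, hy⟩ := D.exists_ne₂
    exact D.eq_smul_of_mem hu (D.b_injective hab hy) (by rw [← hab]; exact hstab y)
  set c := 1 / μ * δ * δ
  have hconj : h' * D.T u 1 * h'⁻¹ = D.T u c := by rw [D.conj_T hab hμ hμ1, hδ, D.T_smul]
  set x := g * D.T u 1 * g⁻¹ with hx
  have hbxb : b * x * b = g * D.T u c * g⁻¹ := by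
    rw [← hconj, hh', hx]
    nth_rw 2 [← hbinv]
    group
  -- the displacement
  let f : Vec →ₗ[F] Vec := (Matrix.toLin' (g : Mat)).comp ((D.τ u).comp ((D.κ u).comp (Matrix.toLin' ((g⁻¹ : GLm) : Mat))))
  have hf : ∀ (r : F) q, ((g * D.T u r * g⁻¹ : GLm) : Mat) *ᵥ q = q + r • f q := fun r q => by
    rw [mulVec_mul_GL, mulVec_mul_GL, D.T_apply, mulVec_add, mulVec_inv_cancel, mulVec_smul]
    simp [f, Matrix.toLin'_apply]
  have hbf : ∀ q, (b : Mat) *ᵥ f ((b : Mat) *ᵥ q) = c • f q := by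
    intro q
    have e := congrArg (fun z : GLm => (z : Mat) *ᵥ q) hbxb
    rw [mulVec_mul_GL, mulVec_mul_GL, hx, hf, hf] at e
    rw [mulVec_add, one_smul, ← mulVec_mul_GL, hbb, Units.val_one, Matrix.one_mulVec, add_right_inj] at e
    exact e
  obtain ⟨v, hv⟩ := D.exists_one₁ hu
  have hfim : ∀ y, ∃ q, f q = (g : Mat) *ᵥ D.τ u y := fun y =>
    ⟨(g : Mat) *ᵥ D.τ v y, by simp [f, Matrix.toLin'_apply, inv_mulVec_cancel, D.κ_pure, hv]⟩
  have hc : c = 1 ∨ c = -1 := by
    obtain ⟨y, hy⟩ := D.exists_ne₂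
    obtain ⟨q, hq⟩ := hfim y
    have hfq : f q ≠ 0 := by rw [hq]; exact mulVec_ne_zero g (D.tau_ne_zero hu hy)
    have e1 := hbf ((b : Mat) *ᵥ q)
    rw [← mulVec_mul_GL (g := b) (h := b), hbb, Units.val_one, Matrix.one_mulVec] at e1
    have e2 := congrArg (fun z => (b : Mat) *ᵥ z) e1
    simp only [mulVec_smul, hbf] at e2
    rw [← mulVec_mul_GL (g := b) (h := b), hbb, Units.val_one, Matrix.one_mulVec, smul_smul] at e2
    refine mul_self_eq_one_iff.1 (smul_left_injective F hfq ?_)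
    show (c * c) • f q = (1 : F) • f q
    rw [one_smul, ← e2]
  rcases hc with hc | hc
  · rw [hc, ← hx] at hbxb
    calc x * b = (b * b) * (x * b) := by rw [hbb, one_mul]
      _ = b * (b * x * b) := by group
      _ = b * x := by rw [hbxb]
  exfalso
  -- the displacement would have rank at most four
  have hfix : ∀ q, D.κ' t q = 0 → f q ∈ D.R₂ t := by
    intro q hq
    have hbq : (b : Mat) *ᵥ q = q := by rw [hb, refl_form ht, hq, smul_zero, map_zero, LinearMap.zero_apply, sub_zero]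
    have e := hbf q
    rw [hbq, hc, hb, refl_form ht, neg_one_smul] at e
    refine ⟨(2 : F)⁻¹ • ((2 / D.f₂ t t) • D.κ' t (f q)), ?_⟩
    have e2 : D.τ ((2 / D.f₂ t t) • D.κ' t (f q)) t = (2 : F) • f q := by
      linear_combination (norm := module) -e
    rw [LinearMap.flip_apply, map_smul, LinearMap.smul_apply, e2, inv_smul_smul₀ h2]
  have hK : (2 * m : ℕ) ≤ Module.finrank F (LinearMap.ker (D.κ' t)) + 2 := by
    have e := (D.κ' t).finrank_range_add_finrank_ker
    have := Submodule.finrank_le (LinearMap.range (D.κ' t))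
    rw [finrank_vec] at e
    rw [Module.finrank_fintype_fun_eq_card, Fintype.card_fin] at this
    omega
  obtain ⟨C, hC⟩ := Submodule.exists_isCompl (LinearMap.ker (D.κ' t))
  have hCd : Module.finrank F C ≤ 2 := by
    have := Submodule.finrank_add_eq_of_isCompl hC
    rw [finrank_vec] at this
    omega
  set G := (D.L u).map (Matrix.toLin' (g : Mat)) with hGdef
  have hfG : ∀ q, f q ∈ G := fun q => Submodule.mem_map_of_mem ⟨_, rfl⟩
  have hG : G ≤ (D.R₂ t ⊓ G) ⊔ C.map f := by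
    rintro _ ⟨_, ⟨y, rfl⟩, rfl⟩
    obtain ⟨q, hq⟩ := hfim y
    rw [Matrix.toLin'_apply, ← hq]
    obtain ⟨k, hk, l, hl, rfl⟩ := Submodule.mem_sup.1 (hC.sup_eq_top ▸ Submodule.mem_top : q ∈ _ ⊔ C)
    rw [map_add]
    exact Submodule.add_mem_sup ⟨hfix k (LinearMap.mem_ker.1 hk), hfG k⟩ (Submodule.mem_map_of_mem hl)
  have h1 := Submodule.finrank_mono hG
  have h2' := Submodule.finrank_sup_add_finrank_inf_eq (D.R₂ t ⊓ G) (C.map f)
  have h3 := Submodule.finrank_map_le f C
  have h4 : Module.finrank F (D.R₂ t) ≤ 2 := by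
    refine (LinearMap.finrank_range_le _).trans ?_
    simp
  -- the image of `u ⊗ W₂` is totally singular, `W₁ ⊗ t` is not
  have h6 : Module.finrank F ↥(D.R₂ t ⊓ G) ≤ 1 := by
    by_contra hc
    have hle : D.R₂ t ≤ G :=
      (Submodule.eq_of_le_of_finrank_le inf_le_left (by omega)).ge.trans inf_le_right
    obtain ⟨v', hv'⟩ := D.exists_one₁ hu
    obtain ⟨c₁, ⟨y₁, rfl⟩, h₁⟩ := Submodule.mem_map.1 (hle (D.tau_mem_R₂ u t))
    obtain ⟨c₂, ⟨y₂, rfl⟩, h₂⟩ := Submodule.mem_map.1 (hle (D.tau_mem_R₂ v' t))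
    rw [Matrix.toLin'_apply] at h₁ h₂
    have e := Symp.mem_spGL_iff.1 (hM.sp hg) (D.τ u y₂) (D.τ u y₁)
    rw [h₁, h₂, D.pair, D.pair, hv', one_mul, D.alt, zero_mul] at e
    exact ht e
  have h5 : Module.finrank F G = n := by
    rw [hGdef, LinearEquiv.finrank_eq (Submodule.equivMapOfInjective (Matrix.toLin' (g : Mat)) (fun p q h => mulVec_inj g (by
      simpa [Matrix.toLin'_apply] using h)) (D.L u)).symm, D.finrank_L hu]
  omega

/-- a subspace with a singular vector and a non-singular one orthogonal to it -/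
theorem exists_singular_perp (D : Data F m 2 n) (h2 : (2 : F) ≠ 0) {Y : Submodule F W₂}
    (hY : 3 ≤ Module.finrank F Y) (hYn : n < 2 * Module.finrank F Y) :
    ∃ r ∈ Y, ∃ y ∈ Y, r ≠ 0 ∧ D.f₂ r r = 0 ∧ D.f₂ r y = 0 ∧ D.f₂ y y ≠ 0 := by
  let Q : QuadraticForm F W₂ := LinearMap.BilinMap.toQuadraticMap D.f₂
  have hpol : ∀ a b, QuadraticMap.polar Q a b = 2 * D.f₂ a b := fun a b => by
    simp only [Q, QuadraticMap.polar, LinearMap.BilinMap.toQuadraticMap_apply, map_add, LinearMap.add_apply,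
      D.symm b a]
    ring
  have hQ : (QuadraticMap.polarBilin Q).Nondegenerate := by
    refine ⟨fun a ha => D.nd₂ a fun b => ?_, fun b hb => D.nd₂ b fun a => ?_⟩
    · have := ha b
      rw [QuadraticMap.polarBilin_apply_apply, hpol] at this
      exact (mul_eq_zero.1 this).resolve_left h2
    · have := hb a
      rw [QuadraticMap.polarBilin_apply_apply, hpol, D.symm] at this
      exact (mul_eq_zero.1 this).resolve_left h2
  have hsing : ∃ r ∈ Y, r ≠ 0 ∧ D.f₂ r r = 0 ∧ ((∀ s ∈ Y, D.f₂ r s = 0) ∨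
      ∀ s ∈ Y, s ≠ 0 → D.f₂ s s = 0 → ∃ s' ∈ Y, D.f₂ s s' ≠ 0) := by
    by_cases hrad : ∃ r ∈ Y, r ≠ 0 ∧ D.f₂ r r = 0 ∧ ∀ s ∈ Y, D.f₂ r s = 0
    · obtain ⟨r, hr, hr0, hrr, hrY⟩ := hrad
      exact ⟨r, hr, hr0, hrr, Or.inl hrY⟩
    · push Not at hrad
      obtain ⟨r, hr, hr0, hQr⟩ := Orth.exists_sing hQ hY
      exact ⟨r, hr, hr0, by simpa [Q] using hQr, Or.inr hrad⟩
  obtain ⟨r, hr, hr0, hrr, hcase⟩ := hsing
  by_contra hcon
  push Not at hcon
  have hts : ∀ y ∈ Y, D.f₂ r y = 0 → D.f₂ y y = 0 := fun y hy hry => hcon r hr y hy hr0 hrr hry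
  have hpol' : ∀ y ∈ Y, ∀ z ∈ Y, D.f₂ r y = 0 → D.f₂ r z = 0 → D.f₂ y z = 0 := fun y hy z hz h1 h3 => by
    have e := hts (y + z) (Y.add_mem hy hz) (by rw [map_add, h1, h3, add_zero])
    simp only [map_add, LinearMap.add_apply, hts y hy h1, hts z hz h3, D.symm z y] at e
    exact (mul_eq_zero.1 (show (2 : F) * D.f₂ y z = 0 by linear_combination e)).resolve_left h2
  rcases hcase with hrY | hnd
  · -- `Y` would be totally singular
    have hnd : LinearMap.BilinForm.Nondegenerate D.f₂ :=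
      ⟨D.nd₂, fun z hz => D.nd₂ z fun w => by rw [D.symm, hz]⟩
    have hle : Y ≤ LinearMap.BilinForm.orthogonal D.f₂ Y := fun z hz =>
      LinearMap.BilinForm.mem_orthogonal_iff.2 fun y hy => hpol' y hy z hz (hrY y hy) (hrY z hz)
    have h1 := Submodule.finrank_mono hle
    rw [LinearMap.BilinForm.finrank_orthogonal hnd, D.finrank_w₂] at h1
    omega
  obtain ⟨z, hz, hrz⟩ := hnd r hr hr0 hrr
  obtain ⟨s, ⟨hsY, hsz⟩, hs0⟩ := (Submodule.ne_bot_iff (Y ⊓ LinearMap.ker ((D.f₂ r).prod (D.f₂ z)))).1 (fun e => by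
    have h1 := Submodule.finrank_sup_add_finrank_inf_eq Y (LinearMap.ker ((D.f₂ r).prod (D.f₂ z)))
    have h3 := ((D.f₂ r).prod (D.f₂ z)).finrank_range_add_finrank_ker
    have h4 := Submodule.finrank_le (LinearMap.range ((D.f₂ r).prod (D.f₂ z)))
    have h5 := Submodule.finrank_le (Y ⊔ LinearMap.ker ((D.f₂ r).prod (D.f₂ z)))
    rw [e, finrank_bot] at h1
    rw [Module.finrank_prod, Module.finrank_self] at h4
    omega)
  rw [SetLike.mem_coe, LinearMap.mem_ker, LinearMap.prod_apply] at hsz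
  obtain ⟨hrs, hzs⟩ := Prod.mk_eq_zero.1 hsz
  obtain ⟨s', hs', hss'⟩ := hnd s hsY hs0 (hts s hsY hrs)
  refine hss' ?_
  have hdec : D.f₂ r (s' - (D.f₂ r s' / D.f₂ r z) • z) = 0 := by simp [hrz]
  have e := hpol' s hsY _ (Y.sub_mem hs' (Y.smul_mem _ hz)) hrs hdec
  simpa [D.symm s z, hzs] using e

/-- with two-dimensional alternating factor and at least five dimensions there is nothing outside the stabiliser -/
theorem Tight.le_of_two_five (hM : D.Tight M) (p : ℕ) [Fact p.Prime] [CharP F p] (hp2 : p ≠ 2) (hn : 5 ≤ n) :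
    M ≤ D.H := by
  classical
  have h2 : (2 : F) ≠ 0 := Ring.two_ne_zero (by rwa [ringChar.eq F p])
  have hex : D.Generic := Or.inl fun e => by omega
  obtain ⟨u, hu⟩ := D.exists_ne₁
  obtain ⟨v, hv⟩ := D.exists_one₁ hu
  by_contra hMH
  -- a counterexample with the largest meet
  obtain ⟨g, ⟨hg, hgH⟩, hmax⟩ := Set.exists_max_image {g : GLm | g ∈ M ∧ g ∉ D.H}
    (fun g => Module.finrank F (D.meet g u)) (Set.toFinite _) (SetLike.not_le_iff_exists.1 hMH)
  set P := D.meet g u with hP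
  set d := Module.finrank F P
  have hgs := Symp.mem_spGL_iff.1 (hM.sp hg)
  -- the image of the meet
  let φ : W₂ →ₗ[F] W₂ := (D.κ v).comp ((Matrix.toLin' (g : Mat)).comp (D.τ u))
  have hφ : ∀ y ∈ P, (g : Mat) *ᵥ D.τ u y = D.τ u (-φ y) := fun y hy => by
    obtain ⟨z, hz⟩ := D.mem_meet.1 hy
    show _ = D.τ u (-(D.κ v ((g : Mat) *ᵥ D.τ u y)))
    rw [← hz, D.κ_pure, D.swap₁ v u, hv, neg_one_smul, neg_neg]
  set Y₁ := P.map φ with hY₁
  have hY₁d : Module.finrank F Y₁ = d := by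
    have hi : Function.Injective (φ.domRestrict P) := (injective_iff_map_eq_zero _).2 fun y hy => by
      have h0 : φ (y : W₂) = 0 := hy
      have e := hφ y y.2
      rw [h0, neg_zero, map_zero] at e
      exact Subtype.ext (D.tau_right hu (mulVec_inj g (e.trans (Matrix.mulVec_zero _).symm)))
    rw [hY₁, ← LinearMap.range_domRestrict, LinearMap.finrank_range_of_inj hi]
  have hline : ∀ t ∈ Y₁, ∀ y, D.κ' t ((g : Mat) *ᵥ D.τ u y) ∈ Submodule.span F {u} := by
    intro t ht y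
    obtain ⟨z, hz, rfl⟩ := Submodule.mem_map.1 ht
    have h0 : D.f₁ (D.κ' (φ z) ((g : Mat) *ᵥ D.τ u y)) u = 0 := by
      rw [D.κ'_spec, show φ z = -(-φ z) by rw [neg_neg], map_neg, map_neg, ← hφ z hz, hgs, D.pair, D.alt, zero_mul,
        neg_zero]
    rw [D.prop_plane hv h0]
    exact Submodule.smul_mem _ _ (Submodule.mem_span_singleton_self u)
  -- reflections
  let Good : W₂ → Prop := fun t => ∀ ht : D.f₂ t t ≠ 0,
    ∀ y, ((g⁻¹ * D.krOne (D.refl t) (refl_isom ht) * g : GLm) : Mat) *ᵥ D.τ u y ∈ D.L u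
  have hfix : ∀ (t : W₂) (ht : D.f₂ t t ≠ 0) y, D.κ' t ((g : Mat) *ᵥ D.τ u y) = 0 →
      ((g⁻¹ * D.krOne (D.refl t) (refl_isom ht) * g : GLm) : Mat) *ᵥ D.τ u y = D.τ u y := by
    intro t ht y hy
    rw [mulVec_mul_GL, mulVec_mul_GL, refl_form ht, hy, smul_zero, map_zero, LinearMap.zero_apply, sub_zero,
      inv_mulVec_cancel]
  have hbig : ∀ (t : W₂) (S : Submodule F W₁), (∀ y, D.κ' t ((g : Mat) *ᵥ D.τ u y) ∈ S) →
      d + Module.finrank F S < n → Good t := by
    intro t S hS hd ht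
    set h' := g⁻¹ * D.krOne (D.refl t) (refl_isom ht) * g with hh'
    have hh'M : h' ∈ M := mul_mem (mul_mem (inv_mem hg) (hM.le (D.krOne_mem _ _))) hg
    set K := ((D.κ' t).comp ((Matrix.toLin' (g : Mat)).comp (D.τ u))).ker
    have hK : n ≤ Module.finrank F K + Module.finrank F S := D.ker_bound g t S hS
    have hle : K ≤ D.meet h' u := fun y hy => by
      rw [D.mem_meet, hh', hfix t ht y (by simpa [K, Matrix.toLin'_apply] using hy)]
      exact D.tau_mem_L u y
    have hlt : d < Module.finrank F (D.meet h' u) := by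
      have := Submodule.finrank_mono hle
      omega
    have hh'H : h' ∈ D.H := by
      by_contra hc
      exact absurd (hmax h' ⟨hh'M, hc⟩) (not_le.2 hlt)
    obtain ⟨y₀, hy₀, hy₀0⟩ := (Submodule.ne_bot_iff _).1 (fun e : D.meet h' u = ⊥ => by
      rw [e, finrank_bot] at hlt; omega)
    exact fun y => stab_of_meet hh'H hu hy₀0 (D.mem_meet.1 hy₀) y
  obtain ⟨Y, ⟨hYd, hYn⟩, hY⟩ : ∃ Y : Submodule F W₂,
      (3 ≤ Module.finrank F Y ∧ n < 2 * Module.finrank F Y) ∧ ∀ t ∈ Y, Good t := by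
    have hspan : Module.finrank F (Submodule.span F ({u} : Set W₁)) = 1 := finrank_span_singleton hu
    rcases lt_trichotomy (d + 2) n with hd | hd | hd
    · exact ⟨⊤, by rw [finrank_top, D.finrank_w₂]; omega, fun t _ => hbig t ⊤ (fun _ => Submodule.mem_top) (by
        rw [finrank_top]; simpa using hd)⟩
    · exact ⟨Y₁, by omega, fun t ht => hbig t _ (hline t ht) (by omega)⟩
    -- the meet is a hyperplane
    have hdn : d < n := by
      by_contra hc
      have htop : P = ⊤ := Submodule.eq_top_of_finrank_eq (by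
        rw [D.finrank_w₂]; have := Submodule.finrank_le P; rw [D.finrank_w₂] at this; omega)
      exact hgH (hM.mem_of_stab hg hu fun y => D.mem_meet.1 (by rw [← hP, htop]; exact Submodule.mem_top))
    obtain ⟨y₁, hy₁⟩ : ∃ y₁, y₁ ∉ P := by
      by_contra hc
      push Not at hc
      have := Submodule.finrank_mono (show (⊤ : Submodule F W₂) ≤ P from fun y _ => hc y)
      rw [finrank_top, D.finrank_w₂] at this
      omega
    set q₁ := (g : Mat) *ᵥ D.τ u y₁
    let ev : W₂ →ₗ[F] F := (B q₁).comp (D.τ v)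
    refine ⟨Y₁ ⊓ ev.ker, ?_, fun t ht => ?_⟩
    · suffices n ≤ Module.finrank F ↥(Y₁ ⊓ ev.ker) + 2 by omega
      have h1 := Submodule.finrank_sup_add_finrank_inf_eq Y₁ ev.ker
      have h3 := Submodule.finrank_le (Y₁ ⊔ ev.ker)
      have h4 := ev.finrank_range_add_finrank_ker
      have h5 := Submodule.finrank_le (LinearMap.range ev)
      rw [Module.finrank_self] at h5
      rw [D.finrank_w₂] at h3 h4
      omega
    obtain ⟨htY, htev⟩ := Submodule.mem_inf.1 ht
    have hq₁ : D.κ' t q₁ = 0 := by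
      obtain ⟨c, hc⟩ := Submodule.mem_span_singleton.1 (hline t htY y₁)
      have e := D.κ'_spec t q₁ v
      rw [← hc, map_smul, LinearMap.smul_apply, D.swap₁ v u, hv, smul_eq_mul, mul_neg, mul_one] at e
      have : -c = 0 := e.trans htev
      rw [← hc, neg_eq_zero.1 this, zero_smul]
    intro hnd y
    have hspan' : y ∈ P ⊔ Submodule.span F {y₁} := by
      have hlt : P < P ⊔ Submodule.span F {y₁} := lt_of_le_of_ne le_sup_left fun e =>
        hy₁ (e ▸ Submodule.mem_sup_right (Submodule.mem_span_singleton_self y₁))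
      have := Submodule.finrank_lt_finrank_of_lt hlt
      have h6 := Submodule.finrank_le (P ⊔ Submodule.span F {y₁})
      rw [D.finrank_w₂] at h6
      rw [Submodule.eq_top_of_finrank_eq (S := P ⊔ Submodule.span F {y₁}) (by rw [D.finrank_w₂]; omega)]
      exact Submodule.mem_top
    obtain ⟨q, hq, l, hl, rfl⟩ := Submodule.mem_sup.1 hspan'
    obtain ⟨c, rfl⟩ := Submodule.mem_span_singleton.1 hl
    rw [map_add, map_smul, mulVec_add, mulVec_smul, hfix t hnd y₁ hq₁]
    refine Submodule.add_mem _ ?_ (Submodule.smul_mem _ c (D.tau_mem_L u y₁))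
    rw [mulVec_mul_GL, mulVec_mul_GL, hφ q hq, D.krOne_pure]
    have hmem : D.refl t (-φ q) ∈ Y₁ := by
      rw [refl_apply]
      exact Y₁.sub_mem (Y₁.neg_mem (Submodule.mem_map_of_mem hq)) (Y₁.smul_mem _ (Y₁.smul_mem _ htY))
    obtain ⟨q', hq', e⟩ := Submodule.mem_map.1 hmem
    have e' := hφ (-q') (P.neg_mem hq')
    rw [map_neg φ, neg_neg, e] at e'
    rw [← e', inv_mulVec_cancel]
    exact D.tau_mem_L u _
  obtain ⟨r, hr, y, hy, hr0, hrr, hry, hyy⟩ := D.exists_singular_perp h2 hYd hYn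
  set x := g * D.T u 1 * g⁻¹ with hx
  have hxM : x ∈ M := mul_mem (mul_mem hg (hM.le (D.T_mem u 1))) (inv_mem hg)
  have hline' : ∀ t ∈ Y, D.f₂ t t ≠ 0 → ∀ z, ∃ z', (x : Mat) *ᵥ D.τ z t = D.τ z' t := by
    intro t ht htt z
    have e := congrArg (fun q : GLm => (q : Mat) *ᵥ D.τ z t) (hM.refl_comm h2 (by omega) hg hu htt (hY t ht htt))
    simp only [← hx, mulVec_mul_GL (g := x), mulVec_mul_GL (g := D.krOne (D.refl t) (refl_isom htt)), D.krOne_pure,
      refl_apply, smul_smul, mul_div_cancel₀ _ htt, refl_form htt] at e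
    rw [two_smul, show t - (t + t) = -t by abel, map_neg, Matrix.mulVec_neg] at e
    refine ⟨(1 / D.f₂ t t) • D.κ' t ((x : Mat) *ᵥ D.τ z t), ?_⟩
    have e2 : (2 : F) • ((x : Mat) *ᵥ D.τ z t) = (2 : F) • D.τ ((1 / D.f₂ t t) • D.κ' t ((x : Mat) *ᵥ D.τ z t)) t := by
      rw [map_smul, LinearMap.smul_apply, smul_smul, ← mul_div_assoc, mul_one]
      rw [map_smul, LinearMap.smul_apply] at e
      linear_combination (norm := module) -e
    exact smul_right_injective _ h2 e2
  have hyr : D.f₂ y r = 0 := by rw [D.symm, hry]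
  have hxH : x ∈ D.H := hM.mem_of_line p hp2 hex hr0 hrr hxM fun z => by
    obtain ⟨a, ha⟩ := hline' y hy hyy z
    obtain ⟨a₁, ha₁⟩ := hline' (y + r) (Y.add_mem hy hr) (by simp [hry, hyr, hrr, hyy]) z
    obtain ⟨a₂, ha₂⟩ := hline' (y - r) (Y.sub_mem hy hr) (by simp [hry, hyr, hrr, hyy]) z
    have e : D.τ (a₁ + a₂ - (2 : F) • a) y + D.τ (a₁ - a₂) r = 0 := by
      rw [map_add, mulVec_add] at ha₁
      rw [map_sub, mulVec_sub] at ha₂
      rw [map_sub, map_add, map_sub, map_smul, LinearMap.sub_apply, LinearMap.add_apply, LinearMap.sub_apply,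
        LinearMap.smul_apply, ← ha]
      simp only [map_add, map_sub] at ha₁ ha₂
      linear_combination (norm := module) -ha₁ - ha₂
    have e1 := congrArg (D.κ' y) e
    rw [map_add, D.κ'_pure, D.κ'_pure, map_zero, hry, zero_smul, add_zero, smul_eq_zero, or_iff_right hyy] at e1
    rw [e1, map_zero, LinearMap.zero_apply, zero_add] at e
    have e3 := D.tau_left hr0 e
    have haa : a₁ = a := smul_right_injective _ h2 (show (2 : F) • a₁ = (2 : F) • a by
      linear_combination (norm := module) e1 + e3)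
    refine ⟨a, ?_⟩
    rw [map_add, mulVec_add, ha, haa, map_add] at ha₁
    rw [LinearMap.flip_apply]
    exact (add_left_cancel ha₁).symm
  exact hgH (hM.mem_of_conj p h2 hex hg hu hxH)

end Data

end Cfsg.Agent.Forms.Max.SympTensor
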