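import Cfsg.Agent.Lib.Forms.Max.SympTensor.TwoBasic
import Cfsg.Agent.Lib.Forms.Max.SympTensor.TwoPlane

/-!
# `Sp₂ ⊗ O₄⁻` over three scalars

For `g` outside the stabiliser with `g (u ⊗ W₂)` meeting `u ⊗ W₂` in the largest dimension, the
conjugate `x` of a transvection commutes with it on `W₁ ⊗ t` for `u ⊗ t` in the meet. So the commutator
fixes `W₁ ⊗ r` pointwise for a singular `r`, or fixes `W₁ ⊗ Y` for an anisotropic plane `Y`; elements
of the latter kind are shown to lie in the stabiliser through an orthogonal frame containing `Y`.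
-/

set_option autoImplicit false
set_option linter.unusedSectionVars false

namespace Cfsg.Agent.Forms.Max.SympTensor

open Matrix Cfsg.Agent.Forms.SympStd

variable {F : Type*} [Field F] {m : ℕ}

local notation "Vec" => (Fin m ⊕ Fin m → F)
local notation "GLm" => GL (Fin m ⊕ Fin m) F
local notation "Mat" => Matrix (Fin m ⊕ Fin m) (Fin m ⊕ Fin m) F
local notation "B" => sympB m F
local notation "W₁" => (Fin 2 → F)
local notation "W₂" => (Fin 4 → F)

theorem sq_eq_one_of_three [Fintype F] (h3 : Fintype.card F = 3) {c : F} (hc : c ≠ 0) : c * c = 1 := by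
  have h := FiniteField.pow_card_sub_one_eq_one c hc
  rwa [h3, pow_two] at h

theorem eq_or_neg_of_three [Fintype F] (h3 : Fintype.card F = 3) {c n : F} (hc : c ≠ 0) (hn : n ≠ 0) :
    c = n ∨ c = -n := by
  rcases mul_self_eq_one_iff.1 (sq_eq_one_of_three h3 hc) with h | h <;>
    rcases mul_self_eq_one_iff.1 (sq_eq_one_of_three h3 hn) with h' | h' <;> simp [h, h']

namespace Data

variable (D : Data F m 2 4)

/-- an orthogonal frame of the second factor with norms `n, n, n, -n` -/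
structure Frame where
  /-- the norm -/
  n : F
  /-- first vector -/
  t₁ : Fin 4 → F
  /-- second vector -/
  t₂ : Fin 4 → F
  /-- third vector -/
  t₃ : Fin 4 → F
  /-- fourth vector -/
  t₄ : Fin 4 → F
  hn : n ≠ 0
  h₁₁ : D.f₂ t₁ t₁ = n
  h₂₂ : D.f₂ t₂ t₂ = n
  h₃₃ : D.f₂ t₃ t₃ = n
  h₄₄ : D.f₂ t₄ t₄ = -n
  h₁₂ : D.f₂ t₁ t₂ = 0
  h₁₃ : D.f₂ t₁ t₃ = 0
  h₁₄ : D.f₂ t₁ t₄ = 0
  h₂₃ : D.f₂ t₂ t₃ = 0
  h₂₄ : D.f₂ t₂ t₄ = 0
  h₃₄ : D.f₂ t₃ t₄ = 0

/-- in two dimensions every map is a similitude of the alternating form -/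
theorem form_scale (L : W₁ →ₗ[F] W₁) : ∃ δ : F, ∀ x y, D.f₁ (L x) (L y) = δ * D.f₁ x y := by
  obtain ⟨u, hu⟩ := D.exists_ne₁
  obtain ⟨v, hv⟩ := D.exists_one₁ hu
  refine ⟨D.f₁ (L v) (L u), fun x y => ?_⟩
  conv_lhs => rw [D.decomp₁ hv x, D.decomp₁ hv y]
  conv_rhs => rw [D.decomp₁ hv x, D.decomp₁ hv y]
  simp only [map_sub, map_smul, LinearMap.sub_apply, LinearMap.smul_apply, smul_eq_mul, D.alt, D.swap₁ v u,
    D.swap₁ (L v) (L u), hv]
  ring

theorem f₁_ext {x : W₁} {L : W₁ →ₗ[F] W₁} (hL : Function.Surjective L) (h : ∀ w, D.f₁ x (L w) = 0) : x = 0 :=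
  D.nd₁ x fun y => by obtain ⟨w, rfl⟩ := hL y; exact h w

/-- four independent vectors span -/
theorem span_four {t : Fin 4 → W₂} (h : LinearIndependent F t) (y : W₂) :
    ∃ c : Fin 4 → F, y = c 0 • t 0 + c 1 • t 1 + c 2 • t 2 + c 3 • t 3 := by
  have hs : Submodule.span F (Set.range t) = ⊤ := h.span_eq_top_of_card_eq_finrank (by simp)
  obtain ⟨c, hc⟩ := (Submodule.mem_span_range_iff_exists_fun F).1 (hs ▸ Submodule.mem_top : y ∈ Submodule.span F (Set.range t))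
  exact ⟨c, by rw [← hc, Fin.sum_univ_four]⟩

/-- orthogonal vectors, the first three not singular -/
theorem indep_four {a b c d : W₂} (ha : D.f₂ a a ≠ 0) (hb : D.f₂ b b ≠ 0) (hc : D.f₂ c c ≠ 0) (hd : d ≠ 0)
    (hab : D.f₂ a b = 0) (hac : D.f₂ a c = 0) (had : D.f₂ a d = 0) (hbc : D.f₂ b c = 0) (hbd : D.f₂ b d = 0)
    (hcd : D.f₂ c d = 0) : LinearIndependent F ![a, b, c, d] := by
  rw [Fintype.linearIndependent_iff]
  intro g hg
  simp only [Fin.sum_univ_four, Matrix.cons_val_zero, Matrix.cons_val_one, Matrix.cons_val, Matrix.head_cons] at hg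
  have ea : g 0 = 0 := by
    have e := congrArg (D.f₂ a) hg
    simp only [map_add, map_smul, map_zero, hab, hac, had, smul_eq_mul, mul_zero, add_zero] at e
    exact (mul_eq_zero.1 e).resolve_right ha
  have eb : g 1 = 0 := by
    have e := congrArg (D.f₂ b) hg
    simp only [map_add, map_smul, map_zero, D.symm b a, hab, hbc, hbd, smul_eq_mul, mul_zero, add_zero,
      zero_add] at e
    exact (mul_eq_zero.1 e).resolve_right hb
  have ec : g 2 = 0 := by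
    have e := congrArg (D.f₂ c) hg
    simp only [map_add, map_smul, map_zero, D.symm c a, D.symm c b, hac, hbc, hcd, smul_eq_mul, mul_zero, add_zero,
      zero_add] at e
    exact (mul_eq_zero.1 e).resolve_right hc
  rw [ea, eb, ec, zero_smul, zero_smul, zero_smul, zero_add, zero_add, zero_add] at hg
  intro i
  fin_cases i
  exacts [ea, eb, ec, (smul_eq_zero.1 hg).resolve_right hd]

variable {D}

/-- expansion along a frame -/
theorem Frame.decompV (φ : Frame D) (q : Vec) :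
    q = D.τ (φ.n⁻¹ • D.κ' φ.t₁ q) φ.t₁ + D.τ (φ.n⁻¹ • D.κ' φ.t₂ q) φ.t₂ + D.τ (φ.n⁻¹ • D.κ' φ.t₃ q) φ.t₃ +
      D.τ ((-φ.n)⁻¹ • D.κ' φ.t₄ q) φ.t₄ := by
  have hn' : -φ.n ≠ 0 := neg_ne_zero.2 φ.hn
  have hind := D.indep_four (a := φ.t₁) (b := φ.t₂) (c := φ.t₃) (d := φ.t₄) (by rw [φ.h₁₁]; exact φ.hn)
    (by rw [φ.h₂₂]; exact φ.hn) (by rw [φ.h₃₃]; exact φ.hn)
    (fun h => hn' (by rw [← φ.h₄₄, h]; simp))
    φ.h₁₂ φ.h₁₃ φ.h₁₄ φ.h₂₃ φ.h₂₄ φ.h₃₄
  have key := LinearMap.congr_fun (D.ext_pure (L := LinearMap.id)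
    (L' := φ.n⁻¹ • (D.τ.flip φ.t₁).comp (D.κ' φ.t₁) + φ.n⁻¹ • (D.τ.flip φ.t₂).comp (D.κ' φ.t₂) +
      φ.n⁻¹ • (D.τ.flip φ.t₃).comp (D.κ' φ.t₃) + (-φ.n)⁻¹ • (D.τ.flip φ.t₄).comp (D.κ' φ.t₄)) fun x y => by
    obtain ⟨c, hc⟩ := span_four hind y
    simp only [Matrix.cons_val_zero, Matrix.cons_val_one, Matrix.cons_val, Matrix.head_cons] at hc
    subst hc
    have hn := φ.hn
    simp only [LinearMap.id_apply, LinearMap.add_apply, LinearMap.smul_apply, LinearMap.comp_apply,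
      LinearMap.flip_apply, D.κ'_pure, map_add, map_smul, smul_eq_mul, φ.h₁₁, φ.h₂₂, φ.h₃₃, φ.h₄₄, φ.h₁₂, φ.h₁₃,
      φ.h₁₄, φ.h₂₃, φ.h₂₄, φ.h₃₄, D.symm φ.t₂ φ.t₁, D.symm φ.t₃ φ.t₁, D.symm φ.t₄ φ.t₁, D.symm φ.t₃ φ.t₂,
      D.symm φ.t₄ φ.t₂, D.symm φ.t₄ φ.t₃, mul_zero, add_zero, zero_add, smul_smul]
    match_scalars <;> field_simp <;> ring) q
  simp only [LinearMap.id_apply, LinearMap.add_apply, LinearMap.smul_apply, LinearMap.comp_apply,
    LinearMap.flip_apply] at key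
  simp only [map_smul, LinearMap.smul_apply]
  exact key

variable [Fintype F] {M : Subgroup (GL (Fin m ⊕ Fin m) F)}

/-- elements of the stabiliser fixing some `W₁ ⊗ t` are `1 ⊗ b` -/
theorem shape_fix {e : GLm} (he : e ∈ D.H) {t : W₂} (ht : t ≠ 0) (hfix : ∀ z, (e : Mat) *ᵥ D.τ z t = D.τ z t) :
    ∃ b : W₂ →ₗ[F] W₂, (∀ x y, (e : Mat) *ᵥ D.τ x y = D.τ x (b y)) ∧ (∀ y y', D.f₂ (b y) (b y') = D.f₂ y y') ∧
      b t = t := by
  obtain ⟨hes, a, b, hab⟩ := he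
  obtain ⟨t', ht'⟩ := D.exists_one₂ ht
  set s := D.f₂ (b t) t' with hs
  have ha : ∀ z, s • a z = z := fun z => by
    have e1 := congrArg (D.κ' t') ((hab z t).symm.trans (hfix z))
    rwa [D.κ'_pure, D.κ'_pure, ht', one_smul] at e1
  obtain ⟨u, hu⟩ := D.exists_ne₁
  have hs0 : s ≠ 0 := fun e0 => hu (by rw [← ha u, e0, zero_smul])
  have h' : ∀ x y, (e : Mat) *ᵥ D.τ x y = D.τ x ((s⁻¹ • b) y) := fun x y => by
    rw [D.rescale hab hs0, LinearMap.smul_apply, ha]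
  refine ⟨s⁻¹ • b, h', fun y y' => ?_, sub_eq_zero.1 (D.tau_right hu (by rw [map_sub, ← h', hfix, sub_self]))⟩
  obtain ⟨v, hv⟩ := D.exists_one₁ hu
  have e1 := Symp.mem_spGL_iff.1 hes (D.τ v y) (D.τ u y')
  rwa [h', h', D.pair, D.pair, hv, one_mul, one_mul] at e1

theorem refl_fix {d t : W₂} (h : D.f₂ t d = 0) : D.refl d t = t := by rw [refl_apply, h, zero_smul, sub_zero]

theorem refl_self (h2 : (2 : F) ≠ 0) {d : W₂} (hd : D.f₂ d d ≠ 0) : D.refl d d = -d := by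
  rw [refl_apply, smul_smul, mul_div_cancel₀ _ hd, two_smul]
  abel

/-- an element with diagonal shape in a frame lies in the stabiliser -/
theorem Tight.mem_of_diag (hM : D.Tight M) (p : ℕ) [Fact p.Prime] [CharP F p] (hp2 : p ≠ 2) (hnp : D.NoPlane)
    (h3 : Fintype.card F = 3) (φ : Frame D) {e : GLm} (he : e ∈ M)
    (e1 : ∀ z, (e : Mat) *ᵥ D.τ z φ.t₁ = D.τ z φ.t₁) (e2 : ∀ z, (e : Mat) *ᵥ D.τ z φ.t₂ = D.τ z φ.t₂)
    (e3 : ∀ z, ∃ w, (e : Mat) *ᵥ D.τ z φ.t₃ = D.τ w φ.t₃)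
    (e4 : ∀ z, ∃ w, (e : Mat) *ᵥ D.τ z φ.t₄ = D.τ w φ.t₄) : e ∈ D.H := by
  have h2 : (2 : F) ≠ 0 := Ring.two_ne_zero (by rwa [ringChar.eq F p])
  have h30 : (3 : F) = 0 := by
    have := Nat.cast_card_eq_zero F
    rw [h3] at this
    exact_mod_cast this
  have hn := φ.hn
  set d := φ.t₂ - φ.t₃ with hd
  have h2d : D.f₂ φ.t₂ d = φ.n := by simp [hd, φ.h₂₂, φ.h₂₃]
  have h3d : D.f₂ φ.t₃ d = -φ.n := by simp [hd, φ.h₃₃, D.symm φ.t₃ φ.t₂, φ.h₂₃]
  have hdd : D.f₂ d d = 2 * φ.n := by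
    rw [show D.f₂ d d = D.f₂ φ.t₂ d - D.f₂ φ.t₃ d by rw [← LinearMap.sub_apply, ← map_sub, ← hd], h2d, h3d]
    ring
  have hdd0 : D.f₂ d d ≠ 0 := by rw [hdd]; exact mul_ne_zero h2 hn
  have hr2 : D.refl d φ.t₂ = φ.t₃ := by
    rw [refl_apply, h2d, hdd, smul_smul, show φ.n * (2 / (2 * φ.n)) = 1 by field_simp, one_smul, hd,
      sub_sub_cancel]
  have hr3 : D.refl d φ.t₃ = φ.t₂ := by rw [← hr2, refl_refl hdd0]
  have hr1 : D.refl d φ.t₁ = φ.t₁ := refl_fix (by simp [hd, φ.h₁₂, φ.h₁₃])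
  have hr4 : D.refl d φ.t₄ = φ.t₄ :=
    refl_fix (by simp [hd, D.symm φ.t₄ φ.t₂, D.symm φ.t₄ φ.t₃, φ.h₂₄, φ.h₃₄])
  set ρ := D.krOne (D.refl d) (refl_isom hdd0)
  have hρM : ρ ∈ M := hM.le (D.krOne_mem _ _)
  set e' := ρ * e * ρ with he'
  set k := e⁻¹ * e'
  have hkM : k ∈ M := mul_mem (inv_mem he) (mul_mem (mul_mem hρM he) hρM)
  have k1 : ∀ z, (k : Mat) *ᵥ D.τ z φ.t₁ = D.τ z φ.t₁ := fun z => by
    simp only [k, he', mulVec_mul_GL, ρ, D.krOne_pure, hr1, e1]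
    conv_lhs => rw [← e1 z]
    rw [inv_mulVec_cancel]
  have k4 : ∀ z, (k : Mat) *ᵥ D.τ z φ.t₄ = D.τ z φ.t₄ := fun z => by
    obtain ⟨w, hw⟩ := e4 z
    simp only [k, he', mulVec_mul_GL, ρ, D.krOne_pure, hr4, hw]
    rw [← hw, inv_mulVec_cancel]
  have hr14 : φ.t₁ + φ.t₄ ≠ 0 := fun h => hn (by
    have := congrArg (D.f₂ φ.t₁) h
    simpa [φ.h₁₁, φ.h₁₄] using this)
  have hkH : k ∈ D.H := hM.mem_of_line p hp2 (Or.inr hnp) hr14
    (by simp [φ.h₁₁, φ.h₁₄, φ.h₄₄, D.symm φ.t₄ φ.t₁]) hkM fun z => ⟨z, by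
      rw [LinearMap.flip_apply, map_add, mulVec_add, k1, k4]⟩
  obtain ⟨β, hβ, -, -⟩ := shape_fix hkH (t := φ.t₁) (fun h => hn (by rw [← φ.h₁₁, h]; simp)) k1
  obtain ⟨l, hl⟩ : ∃ l : F, ∀ z, (e : Mat) *ᵥ D.τ z φ.t₃ = D.τ (l • z) φ.t₃ := by
    refine ⟨φ.n⁻¹ * D.f₂ (β φ.t₂) φ.t₂, fun z => ?_⟩
    obtain ⟨w, hw⟩ := e3 z
    have hk2 : (k : Mat) *ᵥ D.τ z φ.t₂ = D.τ w φ.t₂ := by
      simp only [k, he', mulVec_mul_GL, ρ, D.krOne_pure, hr2, hw, hr3]
      conv_lhs => rw [← e2 w]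
      rw [inv_mulVec_cancel]
    have e5 := congrArg (D.κ' φ.t₂) ((hβ z φ.t₂).symm.trans hk2)
    rw [D.κ'_pure, D.κ'_pure, φ.h₂₂] at e5
    rw [hw, mul_smul, e5, inv_smul_smul₀ hn]
  obtain ⟨u, hu⟩ := D.exists_ne₁
  obtain ⟨v, hv⟩ := D.exists_one₁ hu
  have hl1 : l * l = 1 := by
    have e5 := Symp.mem_spGL_iff.1 (hM.sp he) (D.τ v φ.t₃) (D.τ u φ.t₃)
    rw [hl, hl, D.pair, D.pair, φ.h₃₃] at e5
    simp only [map_smul, LinearMap.smul_apply, smul_eq_mul, hv] at e5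
    exact mul_right_cancel₀ hn (by linear_combination e5)
  have hr : φ.t₁ + φ.t₂ + φ.t₃ ≠ 0 := fun h => hn (by
    have := congrArg (D.f₂ φ.t₁) h
    simpa [φ.h₁₁, φ.h₁₂, φ.h₁₃] using this)
  have hrr : D.f₂ (φ.t₁ + φ.t₂ + φ.t₃) (φ.t₁ + φ.t₂ + φ.t₃) = 0 := by
    simp only [map_add, LinearMap.add_apply, φ.h₁₁, φ.h₂₂, φ.h₃₃, φ.h₁₂, φ.h₁₃, φ.h₂₃, D.symm φ.t₂ φ.t₁,
      D.symm φ.t₃ φ.t₁, D.symm φ.t₃ φ.t₂]
    linear_combination φ.n * h30
  rcases mul_self_eq_one_iff.1 hl1 with h1 | h1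
  · exact hM.mem_of_line p hp2 (Or.inr hnp) hr hrr he fun z => ⟨z, by
      rw [LinearMap.flip_apply, map_add, map_add, mulVec_add, mulVec_add, e1, e2, hl, h1, one_smul]⟩
  · have ht3 : D.f₂ φ.t₃ φ.t₃ ≠ 0 := by rw [φ.h₃₃]; exact hn
    set σ := D.krOne (D.refl φ.t₃) (refl_isom ht3)
    have hσ : σ ∈ D.H := D.krOne_mem _ _
    have hp : e * σ ∈ D.H := hM.mem_of_line p hp2 (Or.inr hnp) hr hrr (mul_mem he (hM.le hσ)) fun z => ⟨z, by
      rw [LinearMap.flip_apply, map_add, map_add, mulVec_add, mulVec_add, mulVec_mul_GL, mulVec_mul_GL,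
        mulVec_mul_GL, D.krOne_pure, D.krOne_pure, D.krOne_pure, refl_fix φ.h₁₃, refl_fix φ.h₂₃, refl_self h2 ht3,
        e1, e2, map_neg, mulVec_neg, hl, h1, neg_one_smul, map_neg, LinearMap.neg_apply, neg_neg]⟩
    simpa using mul_mem hp (inv_mem hσ)

/-- no element exchanges the last two lines of a frame -/
theorem Tight.no_swap (hM : D.Tight M) (p : ℕ) [Fact p.Prime] [CharP F p] (hp2 : p ≠ 2) (hnp : D.NoPlane)
    (h3 : Fintype.card F = 3) (φ : Frame D) {s : GLm} (hs : s ∈ M)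
    (s1 : ∀ z, (s : Mat) *ᵥ D.τ z φ.t₁ = D.τ z φ.t₁) (s2 : ∀ z, (s : Mat) *ᵥ D.τ z φ.t₂ = D.τ z φ.t₂)
    (s3 : ∀ z, ∃ w, (s : Mat) *ᵥ D.τ z φ.t₃ = D.τ w φ.t₄)
    (s4 : ∀ z, ∃ w, (s : Mat) *ᵥ D.τ z φ.t₄ = D.τ w φ.t₃) : False := by
  have h2 : (2 : F) ≠ 0 := Ring.two_ne_zero (by rwa [ringChar.eq F p])
  obtain ⟨u, hu⟩ := D.exists_ne₁
  obtain ⟨v, hv⟩ := D.exists_one₁ hu
  have hss : s * s ∈ D.H := by
    refine hM.mem_of_diag p hp2 hnp h3 φ (mul_mem hs hs) (fun z => by rw [mulVec_mul_GL, s1, s1])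
      (fun z => by rw [mulVec_mul_GL, s2, s2]) (fun z => ?_) fun z => ?_
    · obtain ⟨w, hw⟩ := s3 z
      obtain ⟨w', hw'⟩ := s4 w
      exact ⟨w', by rw [mulVec_mul_GL, hw, hw']⟩
    · obtain ⟨w, hw⟩ := s4 z
      obtain ⟨w', hw'⟩ := s3 w
      exact ⟨w', by rw [mulVec_mul_GL, hw, hw']⟩
  set k := D.T u (-1) * s * D.T u 1 * s with hk
  have hkM : k ∈ M :=
    mul_mem (mul_mem (mul_mem (hM.le (D.T_mem u _)) hs) (hM.le (D.T_mem u _))) hs
  have hfix : ∀ t, (∀ z, (s : Mat) *ᵥ D.τ z t = D.τ z t) → ∀ z, (k : Mat) *ᵥ D.τ z t = D.τ z t := by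
    intro t ht z
    simp only [hk, mulVec_mul_GL, ht, D.T_pure, map_add, LinearMap.add_apply, map_smul, LinearMap.smul_apply,
      mulVec_add, mulVec_smul, D.alt, zero_mul, mul_zero, zero_smul, add_zero, smul_eq_mul, neg_mul, one_mul,
      map_zero, LinearMap.zero_apply]
    module
  have hkH : k ∈ D.H := by
    refine hM.mem_of_diag p hp2 hnp h3 φ hkM (hfix _ s1) (hfix _ s2) (fun z => ?_) fun z => ?_
    · obtain ⟨w, hw⟩ := s3 z
      obtain ⟨w', hw'⟩ := s4 (w + ((1 : F) * D.f₁ w u) • u)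
      exact ⟨w' + ((-1 : F) * D.f₁ w' u) • u, by
        rw [hk, mulVec_mul_GL, hw, mulVec_mul_GL, D.T_pure, mulVec_mul_GL, hw', D.T_pure]⟩
    · obtain ⟨w, hw⟩ := s4 z
      obtain ⟨w', hw'⟩ := s3 (w + ((1 : F) * D.f₁ w u) • u)
      exact ⟨w' + ((-1 : F) * D.f₁ w' u) • u, by
        rw [hk, mulVec_mul_GL, hw, mulVec_mul_GL, D.T_pure, mulVec_mul_GL, hw', D.T_pure]⟩
  have hconj : s * D.T u 1 * s⁻¹ ∈ D.H := by
    have h4 : s * D.T u 1 * s⁻¹ = D.T u 1 * k * (s * s)⁻¹ := by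
      rw [hk, ← mul_assoc, ← mul_assoc, ← mul_assoc, D.T_mul, show (1 : F) + -1 = 0 by ring, D.T_zero]
      group
    rw [h4]
    exact mul_mem (mul_mem (D.T_mem u 1) hkH) (inv_mem hss)
  have hsH : s ∈ D.H := hM.mem_of_conj p h2 (Or.inr hnp) hs hu hconj
  obtain ⟨b, hb, hbi, -⟩ := shape_fix hsH (t := φ.t₁)
    (fun h => φ.hn (by rw [← φ.h₁₁, h]; simp)) s1
  obtain ⟨w, hw⟩ := s3 v
  have e := congrArg (D.κ u) ((hb v φ.t₃).symm.trans hw)
  rw [D.κ_pure, D.κ_pure, hv, one_smul] at e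
  have e2 := hbi φ.t₃ φ.t₃
  rw [e, φ.h₃₃] at e2
  simp only [map_smul, LinearMap.smul_apply, φ.h₄₄, smul_eq_mul] at e2
  have hc : D.f₁ w u ≠ 0 := fun h => φ.hn (by rw [← e2, h]; simp)
  have hcc := sq_eq_one_of_three h3 hc
  exact mul_ne_zero h2 φ.hn (by linear_combination -e2 - φ.n * hcc)

/-- elements fixing `W₁ ⊗ t₁` and `W₁ ⊗ t₂` lie in the stabiliser, all meets being at most planes -/
theorem Tight.mem_of_fix_plane (hM : D.Tight M) (p : ℕ) [Fact p.Prime] [CharP F p] (hp2 : p ≠ 2)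
    (hnp : D.NoPlane) (h3 : Fintype.card F = 3) (φ : Frame D)
    (hmax : ∀ g ∈ M, g ∉ D.H → ∀ w : W₁, w ≠ 0 → Module.finrank F (D.meet g w) ≤ 2)
    {c : GLm} (hc : c ∈ M) (c1 : ∀ z, (c : Mat) *ᵥ D.τ z φ.t₁ = D.τ z φ.t₁)
    (c2 : ∀ z, (c : Mat) *ᵥ D.τ z φ.t₂ = D.τ z φ.t₂) : c ∈ D.H := by
  classical
  have h2 : (2 : F) ≠ 0 := Ring.two_ne_zero (by rwa [ringChar.eq F p])
  have hn := φ.hn
  have hn' : -φ.n ≠ 0 := neg_ne_zero.2 hn
  have hcs := Symp.mem_spGL_iff.1 (hM.sp hc)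
  have hT1 : φ.t₁ ≠ 0 := fun h => hn (by rw [← φ.h₁₁, h]; simp)
  have h31 : D.f₂ φ.t₃ φ.t₁ = 0 := by rw [D.symm, φ.h₁₃]
  have h32 : D.f₂ φ.t₃ φ.t₂ = 0 := by rw [D.symm, φ.h₂₃]
  have h41 : D.f₂ φ.t₄ φ.t₁ = 0 := by rw [D.symm, φ.h₁₄]
  have h42 : D.f₂ φ.t₄ φ.t₂ = 0 := by rw [D.symm, φ.h₂₄]
  have h43 : D.f₂ φ.t₄ φ.t₃ = 0 := by rw [D.symm, φ.h₃₄]
  let E : W₂ → W₂ → F → W₁ →ₗ[F] W₁ := fun t s r =>
    r • ((D.κ' s).comp ((Matrix.toLin' (c : Mat)).comp (D.τ.flip t)))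
  -- the images of the last two lines
  have himg : ∀ t, D.f₂ t φ.t₁ = 0 → D.f₂ t φ.t₂ = 0 → ∀ z, (c : Mat) *ᵥ D.τ z t =
      D.τ (E t φ.t₃ φ.n⁻¹ z) φ.t₃ + D.τ (E t φ.t₄ (-φ.n)⁻¹ z) φ.t₄ := by
    intro t h1 h2' z
    conv_lhs => rw [φ.decompV ((c : Mat) *ᵥ D.τ z t), D.κ'_fix (hM.sp hc) c1, D.κ'_fix (hM.sp hc) c2, D.κ'_pure,
      D.κ'_pure, h1, h2', zero_smul, smul_zero, map_zero, LinearMap.zero_apply, LinearMap.zero_apply, zero_add,
      zero_add]
    simp [E, Matrix.toLin'_apply]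
  set A := E φ.t₃ φ.t₃ φ.n⁻¹ with hA
  set C := E φ.t₃ φ.t₄ (-φ.n)⁻¹ with hC
  set A' := E φ.t₄ φ.t₃ φ.n⁻¹ with hA'
  set C' := E φ.t₄ φ.t₄ (-φ.n)⁻¹ with hC'
  have hP := himg φ.t₃ h31 h32
  have hQ := himg φ.t₄ h41 h42
  rw [← hA, ← hC] at hP
  rw [← hA', ← hC'] at hQ
  have hiso : ∀ z z', D.f₁ (A z) (A z') - D.f₁ (C z) (C z') = D.f₁ z z' := fun z z' => by
    have e := hcs (D.τ z φ.t₃) (D.τ z' φ.t₃)
    rw [hP, hP] at e
    simp only [map_add, LinearMap.add_apply, D.pair, φ.h₃₃, φ.h₄₄, φ.h₃₄, h43] at e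
    exact mul_right_cancel₀ hn (by linear_combination e)
  have horth : ∀ z z', D.f₁ (A' z) (A z') - D.f₁ (C' z) (C z') = 0 := fun z z' => by
    have e := hcs (D.τ z φ.t₄) (D.τ z' φ.t₃)
    rw [hQ, hP] at e
    simp only [map_add, LinearMap.add_apply, D.pair, φ.h₃₃, φ.h₄₄, φ.h₃₄, h43] at e
    exact mul_right_cancel₀ hn (by linear_combination e)
  obtain ⟨u, hu⟩ := D.exists_ne₁
  obtain ⟨v, hv⟩ := D.exists_one₁ hu
  by_cases hC0 : C = 0
  · have hAi : Function.Surjective A := LinearMap.injective_iff_surjective.1 ((injective_iff_map_eq_zero A).2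
      fun z hz => D.nd₁ z fun y => by rw [← hiso, hz, hC0]; simp)
    refine hM.mem_of_diag p hp2 hnp h3 φ hc c1 c2 (fun z => ⟨A z, by rw [hP, hC0]; simp⟩) fun z => ⟨C' z, ?_⟩
    rw [hQ, D.f₁_ext hAi (x := A' z) fun w => by simpa [hC0] using horth z w]
    simp
  by_cases hA0 : A = 0
  · have hCi : Function.Surjective C := LinearMap.injective_iff_surjective.1 ((injective_iff_map_eq_zero C).2
      fun z hz => D.nd₁ z fun y => by rw [← hiso, hz, hA0]; simp)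
    refine (hM.no_swap p hp2 hnp h3 φ hc c1 c2 (fun z => ⟨C z, by rw [hP, hA0]; simp⟩) fun z => ⟨A' z, ?_⟩).elim
    rw [hQ, D.f₁_ext hCi (x := C' z) fun w => by simpa [hA0] using horth z w]
    simp
  have ht3 : D.f₂ φ.t₃ φ.t₃ ≠ 0 := by rw [φ.h₃₃]; exact hn
  have ht4 : D.f₂ φ.t₄ φ.t₄ ≠ 0 := by rw [φ.h₄₄]; exact hn'
  -- conjugated reflections
  have hinv : ∀ (t : W₂) (ht : D.f₂ t t ≠ 0),
      let i := c * D.krOne (D.refl t) (refl_isom ht) * c⁻¹
      i ∈ M ∧ (∀ s, D.f₂ s t = 0 → ∀ z, (i : Mat) *ᵥ ((c : Mat) *ᵥ D.τ z s) = (c : Mat) *ᵥ D.τ z s) ∧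
        ∀ z, (i : Mat) *ᵥ ((c : Mat) *ᵥ D.τ z t) = -((c : Mat) *ᵥ D.τ z t) := by
    intro t ht i
    refine ⟨mul_mem (mul_mem hc (hM.le (D.krOne_mem _ _))) (inv_mem hc), fun s hs z => ?_, fun z => ?_⟩
    · rw [mulVec_mul_GL, mulVec_mul_GL, inv_mulVec_cancel, D.krOne_pure, refl_fix hs]
    · rw [mulVec_mul_GL, mulVec_mul_GL, inv_mulVec_cancel, D.krOne_pure, refl_self h2 ht, map_neg, mulVec_neg]
  by_cases hpure : ∃ z w : W₁, ∃ α β : F, z ≠ 0 ∧ A z = α • w ∧ C z = β • w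
  · exfalso
    obtain ⟨z₀, w, α, β, hz₀, hAw, hCw⟩ := hpure
    obtain ⟨hiM, hifix, hineg⟩ := hinv φ.t₃ ht3
    set i := c * D.krOne (D.refl φ.t₃) (refl_isom ht3) * c⁻¹
    set ζ := α • φ.t₃ + β • φ.t₄ with hζ
    have hcz : (c : Mat) *ᵥ D.τ z₀ φ.t₃ = D.τ w ζ := by
      rw [hP, hAw, hCw, hζ, map_add, map_smul, map_smul, map_smul, map_smul]; simp
    have hne : D.τ w ζ ≠ 0 := by rw [← hcz]; exact mulVec_ne_zero c (D.tau_ne_zero hz₀ (fun h => ht3 (by
      rw [h]; simp)))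
    have hw0 : w ≠ 0 := fun h => hne (by rw [h, map_zero, LinearMap.zero_apply])
    have hi1 : ∀ z, (i : Mat) *ᵥ D.τ z φ.t₁ = D.τ z φ.t₁ := fun z => by
      conv_lhs => rw [← c1 z]
      rw [hifix _ φ.h₁₃, c1]
    have hi2 : ∀ z, (i : Mat) *ᵥ D.τ z φ.t₂ = D.τ z φ.t₂ := fun z => by
      conv_lhs => rw [← c2 z]
      rw [hifix _ φ.h₂₃, c2]
    have hiH : i ∈ D.H := by
      by_contra hiH
      have hle : Submodule.span F (Set.range ![φ.t₁, φ.t₂, ζ]) ≤ D.meet i w := by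
        rw [Submodule.span_le]
        rintro _ ⟨j, rfl⟩
        rw [SetLike.mem_coe, D.mem_meet]
        fin_cases j
        · exact (hi1 w).symm ▸ D.tau_mem_L _ _
        · exact (hi2 w).symm ▸ D.tau_mem_L _ _
        · show (i : Mat) *ᵥ D.τ w ζ ∈ _
          rw [← hcz, hineg, hcz]
          exact neg_mem (D.tau_mem_L _ _)
      have hind : LinearIndependent F ![φ.t₁, φ.t₂, ζ] := by
        rw [Fintype.linearIndependent_iff]
        intro g hg
        simp only [Fin.sum_univ_three, Matrix.cons_val_zero, Matrix.cons_val_one, Matrix.cons_val, Matrix.head_cons]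
          at hg
        have e1 := congrArg (D.f₂ φ.t₁) hg
        have e2 := congrArg (D.f₂ φ.t₂) hg
        simp only [hζ, map_add, map_smul, map_zero, φ.h₁₁, φ.h₁₂, φ.h₁₃, φ.h₁₄, φ.h₂₂, D.symm φ.t₂ φ.t₁, φ.h₂₃,
          φ.h₂₄, smul_eq_mul, mul_zero, add_zero, zero_add] at e1 e2
        have g0 := (mul_eq_zero.1 e1).resolve_right hn
        have g1 := (mul_eq_zero.1 e2).resolve_right hn
        rw [g0, g1, zero_smul, zero_smul, zero_add, zero_add] at hg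
        have g2 := (smul_eq_zero.1 hg).resolve_right (fun h => hne (by rw [h, map_zero]))
        intro j
        fin_cases j
        exacts [g0, g1, g2]
      have h' := Submodule.finrank_mono hle
      rw [finrank_span_eq_card hind, Fintype.card_fin] at h'
      have := hmax i hiM hiH w hw0
      omega
    obtain ⟨b, hb, -, -⟩ := shape_fix hiH hT1 hi1
    set q₃ := b φ.t₃ + φ.t₃ with hq₃
    set q₄ := b φ.t₄ + φ.t₄ with hq₄
    have hall : ∀ z, D.τ (A z) q₃ + D.τ (C z) q₄ = 0 := fun z => by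
      have e := hineg z
      rw [hP, mulVec_add, hb, hb] at e
      rw [hq₃, hq₄, map_add, map_add]
      linear_combination (norm := module) e
    by_cases h30 : q₃ = 0
    · by_cases h40 : q₄ = 0
      · have e3 : b φ.t₃ = -φ.t₃ := eq_neg_of_add_eq_zero_left h30
        have e4 : b φ.t₄ = -φ.t₄ := eq_neg_of_add_eq_zero_left h40
        have hs4 := hifix φ.t₄ h43 v
        rw [hQ, mulVec_add, hb, hb, e3, e4, map_neg, map_neg] at hs4
        have h0 : (2 : F) • (D.τ (A' v) φ.t₃ + D.τ (C' v) φ.t₄) = 0 := by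
          linear_combination (norm := module) -hs4
        rw [← hQ, smul_eq_zero] at h0
        exact mulVec_ne_zero c (D.tau_ne_zero (fun h => by simp [h] at hv)
          (fun h => ht4 (by rw [h]; simp))) (h0.resolve_left h2)
      · obtain ⟨y, hy⟩ := D.exists_one₂ h40
        refine hC0 (LinearMap.ext fun z => ?_)
        have e := congrArg (D.κ' y) (hall z)
        rw [h30, map_zero, zero_add, D.κ'_pure, hy, one_smul, map_zero] at e
        exact e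
    · obtain ⟨y, hy⟩ := D.exists_one₂ h30
      set l := -D.f₂ q₄ y
      have hAC : ∀ z, A z = l • C z := fun z => by
        have e := congrArg (D.κ' y) (hall z)
        rw [map_add, D.κ'_pure, D.κ'_pure, hy, one_smul, map_zero] at e
        rw [neg_smul]
        exact eq_neg_of_add_eq_zero_left e
      have hl : l ≠ 0 := fun h => hA0 (LinearMap.ext fun z => by rw [hAC, h, zero_smul]; rfl)
      have e := hiso v u
      rw [hAC, hAC, hv] at e
      simp only [map_smul, LinearMap.smul_apply, smul_eq_mul] at e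
      refine one_ne_zero (α := F) ?_
      linear_combination -e + D.f₁ (C v) (C u) * sq_eq_one_of_three h3 hl
  -- the two images are graphs
  exfalso
  push Not at hpure
  have hAi : Function.Injective A := (injective_iff_map_eq_zero A).2 fun z hz => by
    by_contra hz0
    exact hpure z (C z) 0 1 hz0 (by rw [hz, zero_smul]) (by rw [one_smul])
  have hCi : Function.Injective C := (injective_iff_map_eq_zero C).2 fun z hz => by
    by_contra hz0
    exact hpure z (A z) 1 0 hz0 (by rw [one_smul]) (by rw [hz, zero_smul])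
  let Ae := LinearEquiv.ofBijective A ⟨hAi, LinearMap.injective_iff_surjective.1 hAi⟩
  set Ψ : W₁ →ₗ[F] W₁ := C.comp Ae.symm.toLinearMap with hΨ
  have hΨA : ∀ z, Ψ (A z) = C z := fun z => by
    show C (Ae.symm (Ae z)) = C z
    rw [LinearEquiv.symm_apply_apply]
  have hΨs : Function.Surjective Ψ := (LinearMap.injective_iff_surjective.1 hCi).comp Ae.symm.surjective
  obtain ⟨δ, hδ⟩ := D.form_scale Ψ
  have hδ1 : δ = -1 := by
    have hd0 : δ ≠ 0 := fun h => by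
      have := D.f₁_ext hΨs (x := Ψ v) fun w => by rw [hδ, h, zero_mul]
      have hv0 : v = 0 := (LinearMap.injective_iff_surjective.2 hΨs) (this.trans (map_zero Ψ).symm)
      rw [hv0, map_zero, LinearMap.zero_apply] at hv
      exact zero_ne_one hv
    refine (mul_self_eq_one_iff.1 (sq_eq_one_of_three h3 hd0)).resolve_left fun h => ?_
    have e := hiso v u
    rw [← hΨA, ← hΨA, hδ, h, one_mul, sub_self, hv] at e
    exact zero_ne_one e
  have hC'A : ∀ z, C' z = -Ψ (A' z) := fun z => eq_neg_of_add_eq_zero_left <| D.f₁_ext hΨs fun w => by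
    obtain ⟨z', rfl⟩ := LinearMap.injective_iff_surjective.1 hAi w
    have e := horth z z'
    rw [← hΨA] at e
    rw [map_add, LinearMap.add_apply, hδ, hδ1]
    linear_combination -e
  have hA's : Function.Surjective A' := LinearMap.injective_iff_surjective.1 ((injective_iff_map_eq_zero A').2
    fun z hz => by
      by_contra hz0
      refine mulVec_ne_zero c (D.tau_ne_zero hz0 (y := φ.t₄) fun h => ht4 (by rw [h]; simp)) ?_
      rw [hQ, hC'A, hz]; simp)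
  obtain ⟨hiM, hifix, hineg⟩ := hinv φ.t₄ ht4
  set i := c * D.krOne (D.refl φ.t₄) (refl_isom ht4) * c⁻¹
  have hplus : ∀ w, (i : Mat) *ᵥ D.τ w φ.t₃ + (i : Mat) *ᵥ D.τ (Ψ w) φ.t₄ = D.τ w φ.t₃ + D.τ (Ψ w) φ.t₄ := by
    intro w
    obtain ⟨z, rfl⟩ := LinearMap.injective_iff_surjective.1 hAi w
    rw [← mulVec_add, hΨA, ← hP]
    exact hifix _ φ.h₃₄ z
  have hminus : ∀ w, (i : Mat) *ᵥ D.τ w φ.t₃ - (i : Mat) *ᵥ D.τ (Ψ w) φ.t₄ = -(D.τ w φ.t₃ - D.τ (Ψ w) φ.t₄) := by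
    intro w
    obtain ⟨z, rfl⟩ := hA's w
    have e : D.τ (A' z) φ.t₃ - D.τ (Ψ (A' z)) φ.t₄ = (c : Mat) *ᵥ D.τ z φ.t₄ := by
      rw [hQ, hC'A, map_neg, LinearMap.neg_apply, sub_eq_add_neg]
    rw [← mulVec_sub, e]
    exact hineg z
  refine hM.no_swap p hp2 hnp h3 φ hiM (fun z => ?_) (fun z => ?_) (fun z => ⟨Ψ z, ?_⟩) fun z => ?_
  · conv_lhs => rw [← c1 z]
    rw [hifix _ φ.h₁₄, c1]
  · conv_lhs => rw [← c2 z]
    rw [hifix _ φ.h₂₄, c2]
  · exact smul_right_injective _ h2 (show (2 : F) • _ = (2 : F) • _ by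
      linear_combination (norm := module) hplus z + hminus z)
  · obtain ⟨w, rfl⟩ := hΨs z
    exact ⟨w, smul_right_injective _ h2 (show (2 : F) • _ = (2 : F) • _ by
      linear_combination (norm := module) hplus w - hminus w)⟩

/-- an anisotropic plane extends to a frame -/
theorem exists_frame (D : Data F m 2 4) (hnp : D.NoPlane) (h3 : Fintype.card F = 3) (h2 : (2 : F) ≠ 0)
    {Y : Submodule F W₂} (hY : 2 ≤ Module.finrank F Y) (hani : ∀ r ∈ Y, D.f₂ r r = 0 → r = 0) :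
    ∃ φ : Frame D, φ.t₁ ∈ Y ∧ φ.t₂ ∈ Y := by
  have h30 : (3 : F) = 0 := by
    have := Nat.cast_card_eq_zero F
    rw [h3] at this
    exact_mod_cast this
  obtain ⟨t₁, ht₁, ht₁0⟩ := Submodule.exists_mem_ne_zero_of_ne_bot (p := Y) fun h => by rw [h, finrank_bot] at hY; omega
  have hn : D.f₂ t₁ t₁ ≠ 0 := fun h => ht₁0 (hani _ ht₁ h)
  set n := D.f₂ t₁ t₁ with hndef
  -- a non-zero vector in a subspace of dimension at least two, killed by a functional
  have hker : ∀ (S : Submodule F W₂) (f : W₂ →ₗ[F] F), 2 ≤ Module.finrank F S → ∃ y ∈ S, f y = 0 ∧ y ≠ 0 := by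
    intro S f hS
    obtain ⟨x, hx, hx0⟩ := (Submodule.ne_bot_iff _).1 (LinearMap.ker_ne_bot_of_finrank_lt
      (f := f.domRestrict S) (by rw [Module.finrank_self]; omega))
    exact ⟨x, x.2, hx, fun h => hx0 (Subtype.ext h)⟩
  obtain ⟨t₂, ht₂, h12, ht₂0⟩ := hker Y (D.f₂ t₁) hY
  have h22' : D.f₂ t₂ t₂ ≠ 0 := fun h => ht₂0 (hani _ ht₂ h)
  have h22 : D.f₂ t₂ t₂ = n := (eq_or_neg_of_three h3 h22' hn).resolve_right fun h => by
    have hz : D.f₂ (t₁ + t₂) (t₁ + t₂) = 0 := by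
      simp only [map_add, LinearMap.add_apply, h12, D.symm t₂ t₁, h, ← hndef]; ring
    have e := congrArg (D.f₂ t₁) (hani _ (Y.add_mem ht₁ ht₂) hz)
    rw [map_add, h12, map_zero, add_zero] at e
    exact hn e
  set Z := LinearMap.ker ((D.f₂ t₁).prod (D.f₂ t₂)) with hZdef
  have hmemZ : ∀ z, z ∈ Z ↔ D.f₂ t₁ z = 0 ∧ D.f₂ t₂ z = 0 := fun z => by
    simp [hZdef, LinearMap.mem_ker, Prod.ext_iff]
  have hZ : 2 ≤ Module.finrank F Z := by
    have e := ((D.f₂ t₁).prod (D.f₂ t₂)).finrank_range_add_finrank_ker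
    have e' := Submodule.finrank_le (LinearMap.range ((D.f₂ t₁).prod (D.f₂ t₂)))
    rw [Module.finrank_prod, Module.finrank_self] at e'
    rw [Module.finrank_fintype_fun_eq_card, Fintype.card_fin, ← hZdef] at e
    omega
  obtain ⟨a, haZ, haa⟩ : ∃ a ∈ Z, D.f₂ a a ≠ 0 := by
    by_contra hc
    push Not at hc
    have := hnp Z fun y hy y' hy' => by
      have e := hc (y + y') (Z.add_mem hy hy')
      simp only [map_add, LinearMap.add_apply, hc y hy, hc y' hy', D.symm y' y] at e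
      exact (mul_eq_zero.1 (show (2 : F) * D.f₂ y y' = 0 by linear_combination e)).resolve_left h2
    omega
  obtain ⟨b, hbZ, hab, hb0⟩ := hker Z (D.f₂ a) hZ
  obtain ⟨a1, a2⟩ := (hmemZ a).1 haZ
  obtain ⟨b1, b2⟩ := (hmemZ b).1 hbZ
  have hind := D.indep_four hn h22' haa hb0 h12 a1 b1 a2 b2 hab
  have hbb : D.f₂ b b ≠ 0 := fun h => hb0 (D.nd₂ b fun y => by
    obtain ⟨c, rfl⟩ := span_four hind y
    simp [D.symm b t₁, D.symm b t₂, D.symm b a, b1, b2, hab, h])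
  rcases eq_or_neg_of_three h3 haa hn with ha | ha <;> rcases eq_or_neg_of_three h3 hbb hn with hb | hb
  rotate_left
  · exact ⟨⟨n, t₁, t₂, a, b, hn, rfl, h22, ha, hb, h12, a1, b1, a2, b2, hab⟩, ht₁, ht₂⟩
  · exact ⟨⟨n, t₁, t₂, b, a, hn, rfl, h22, hb, ha, h12, b1, a1, b2, a2, by rw [D.symm]; exact hab⟩, ht₁, ht₂⟩
  all_goals exfalso
  -- otherwise there is a totally singular plane
  · have key : ∀ x y : W₂, D.f₂ x x = 0 → D.f₂ y y = 0 → D.f₂ x y = 0 → D.f₂ x t₁ = n → D.f₂ y t₁ = 0 →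
        D.f₂ y t₂ = n → False := by
      intro x y hxx hyy hxy hx1 hy1 hy2
      have hind2 : LinearIndependent F ![x, y] := by
        rw [LinearIndependent.pair_iff]
        intro s t hst
        have e1 := congrArg (fun q => D.f₂ q t₁) hst
        simp only [map_add, map_smul, LinearMap.add_apply, LinearMap.smul_apply, hx1, hy1, smul_eq_mul, mul_zero,
          add_zero, map_zero, LinearMap.zero_apply] at e1
        have hs := (mul_eq_zero.1 e1).resolve_right hn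
        rw [hs, zero_smul, zero_add] at hst
        exact ⟨hs, (smul_eq_zero.1 hst).resolve_right fun h => hn (by rw [← hy2, h, map_zero, LinearMap.zero_apply])⟩
      have := hnp (Submodule.span F (Set.range ![x, y])) fun s hs s' hs' => by
        obtain ⟨c, rfl⟩ := (Submodule.mem_span_range_iff_exists_fun F).1 hs
        obtain ⟨c', rfl⟩ := (Submodule.mem_span_range_iff_exists_fun F).1 hs'
        simp [Fin.sum_univ_two, hxx, hyy, hxy, D.symm y x]
      rw [finrank_span_eq_card hind2, Fintype.card_fin] at this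
      omega
    exact key (t₁ + a) (t₂ + b)
      (by simp only [map_add, LinearMap.add_apply, a1, D.symm a t₁, ha, ← hndef]; ring)
      (by simp only [map_add, LinearMap.add_apply, b2, D.symm b t₂, hb, h22]; ring)
      (by simp [h12, b1, D.symm a t₂, a2, hab])
      (by simp [D.symm a t₁, a1, ← hndef])
      (by simp [D.symm t₂ t₁, h12, D.symm b t₁, b1])
      (by simp [h22, D.symm b t₂, b2])
  · have key : D.f₂ (t₁ + t₂ + a) (t₁ + t₂ + a) = 0 ∧ D.f₂ (t₁ - t₂ + b) (t₁ - t₂ + b) = 0 ∧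
        D.f₂ (t₁ + t₂ + a) (t₁ - t₂ + b) = 0 := by
      simp only [map_add, map_sub, LinearMap.add_apply, LinearMap.sub_apply, ← hndef, h22, ha, hb, h12,
        D.symm t₂ t₁, a1, D.symm a t₁, a2, D.symm a t₂, b1, D.symm b t₁, b2, D.symm b t₂, hab]
      refine ⟨?_, ?_, ?_⟩ <;> first | ring1 | linear_combination n * h30
    have hind2 : LinearIndependent F ![t₁ + t₂ + a, t₁ - t₂ + b] := by
      rw [LinearIndependent.pair_iff]
      intro s t hst
      have e1 := congrArg (D.f₂ t₁) hst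
      have e2 := congrArg (D.f₂ t₂) hst
      simp only [map_add, map_sub, map_smul, map_zero, ← hndef, h22, h12, D.symm t₂ t₁, a1, a2, b1, b2,
        smul_eq_mul] at e1 e2
      have hs : (2 : F) * n * s = 0 := by linear_combination e1 + e2
      have ht : (2 : F) * n * t = 0 := by linear_combination e1 - e2
      exact ⟨(mul_eq_zero.1 hs).resolve_left (mul_ne_zero h2 hn), (mul_eq_zero.1 ht).resolve_left (mul_ne_zero h2 hn)⟩
    have := hnp (Submodule.span F (Set.range ![t₁ + t₂ + a, t₁ - t₂ + b])) fun s hs s' hs' => by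
      obtain ⟨c, rfl⟩ := (Submodule.mem_span_range_iff_exists_fun F).1 hs
      obtain ⟨c', rfl⟩ := (Submodule.mem_span_range_iff_exists_fun F).1 hs'
      generalize t₁ + t₂ + a = X at key ⊢
      generalize t₁ - t₂ + b = X' at key ⊢
      simp only [Fin.sum_univ_two, Matrix.cons_val_zero, Matrix.cons_val_one, map_add, map_smul,
        LinearMap.add_apply, LinearMap.smul_apply, smul_eq_mul]
      rw [D.symm X' X, key.1, key.2.1, key.2.2]
      ring
    rw [finrank_span_eq_card hind2, Fintype.card_fin] at this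
    omega

/-- over three scalars there is nothing outside the stabiliser of `Sp₂ ⊗ O₄⁻` -/
theorem Tight.le_of_two_four (hM : D.Tight M) (p : ℕ) [Fact p.Prime] [CharP F p] (hp2 : p ≠ 2)
    (hnp : D.NoPlane) (h3 : Fintype.card F = 3) : M ≤ D.H := by
  classical
  have h2 : (2 : F) ≠ 0 := Ring.two_ne_zero (by rwa [ringChar.eq F p])
  have hex : D.Generic := Or.inr hnp
  obtain ⟨u₀, hu₀⟩ := D.exists_ne₁
  by_contra hMH
  obtain ⟨g₀, hg₀, hg₀H⟩ := SetLike.not_le_iff_exists.1 hMH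
  obtain ⟨⟨g, u⟩, ⟨hg, hgH, hu⟩, hmax⟩ := Set.exists_max_image
    {x : GLm × W₁ | x.1 ∈ M ∧ x.1 ∉ D.H ∧ x.2 ≠ 0} (fun x => Module.finrank F (D.meet x.1 x.2))
    (Set.toFinite _) ⟨(g₀, u₀), hg₀, hg₀H, hu₀⟩
  dsimp only at hg hgH hu hmax
  obtain ⟨v, hv⟩ := D.exists_one₁ hu
  set P := D.meet g u with hP
  set d := Module.finrank F P
  have hgs := Symp.mem_spGL_iff.1 (hM.sp hg)
  -- the image of the meet
  let φ : W₂ →ₗ[F] W₂ := (D.κ v).comp ((Matrix.toLin' (g : Mat)).comp (D.τ u))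
  have hφ : ∀ y ∈ P, (g : Mat) *ᵥ D.τ u y = D.τ u (-φ y) := fun y hy => by
    obtain ⟨z, hz⟩ := D.mem_meet.1 hy
    show _ = D.τ u (-(D.κ v ((g : Mat) *ᵥ D.τ u y)))
    rw [← hz, D.κ_pure, D.swap₁ v u, hv, neg_one_smul, neg_neg]
  set Y₁ := P.map φ with hY₁
  have hY₁d : Module.finrank F Y₁ = d := by
    have hi : Function.Injective (φ.domRestrict P) := (injective_iff_map_eq_zero _).2 fun y hy => by
      have h0 : φ (y : W₂) = 0 := hy
      have e := hφ y y.2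
      rw [h0, neg_zero, map_zero] at e
      exact Subtype.ext (D.tau_right hu (mulVec_inj g (e.trans (Matrix.mulVec_zero _).symm)))
    rw [hY₁, ← LinearMap.range_domRestrict, LinearMap.finrank_range_of_inj hi]
  set x := g * D.T u 1 * g⁻¹ with hx
  have hxM : x ∈ M := mul_mem (mul_mem hg (hM.le (D.T_mem u 1))) (inv_mem hg)
  have hxH : x ∉ D.H := fun h => hgH (hM.mem_of_conj p h2 hex hg hu h)
  -- a reflection stabilising `g (u ⊗ W₂)` gives a line fixed by `x`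
  have hline : ∀ t, ∀ htt : D.f₂ t t ≠ 0,
      (∀ y, ((g⁻¹ * D.krOne (D.refl t) (refl_isom htt) * g : GLm) : Mat) *ᵥ D.τ u y ∈ D.L u) →
      ∀ z, ∃ z', (x : Mat) *ᵥ D.τ z t = D.τ z' t := by
    intro t htt hstab z
    have e := congrArg (fun q : GLm => (q : Mat) *ᵥ D.τ z t) (hM.refl_comm h2 le_rfl hg hu htt hstab)
    simp only [← hx, mulVec_mul_GL (g := x), mulVec_mul_GL (g := D.krOne (D.refl t) (refl_isom htt)), D.krOne_pure,
      refl_apply, smul_smul, mul_div_cancel₀ _ htt, refl_form htt] at e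
    rw [two_smul, show t - (t + t) = -t by abel, map_neg, Matrix.mulVec_neg] at e
    refine ⟨(1 / D.f₂ t t) • D.κ' t ((x : Mat) *ᵥ D.τ z t), ?_⟩
    have e2 : (2 : F) • ((x : Mat) *ᵥ D.τ z t) = (2 : F) • D.τ ((1 / D.f₂ t t) • D.κ' t ((x : Mat) *ᵥ D.τ z t)) t := by
      rw [map_smul, LinearMap.smul_apply, smul_smul, ← mul_div_assoc, mul_one]
      rw [map_smul, LinearMap.smul_apply] at e
      linear_combination (norm := module) -e
    exact smul_right_injective _ h2 e2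
  rcases Nat.lt_or_ge d 2 with hd | hd
  · -- every reflection stabilises
    have hall : ∀ t, ∀ htt : D.f₂ t t ≠ 0, ∀ z, ∃ z', (x : Mat) *ᵥ D.τ z t = D.τ z' t := by
      intro t htt
      refine hline t htt ?_
      set h' := g⁻¹ * D.krOne (D.refl t) (refl_isom htt) * g with hh'
      have hh'M : h' ∈ M := mul_mem (mul_mem (inv_mem hg) (hM.le (D.krOne_mem _ _))) hg
      set K := ((D.κ' t).comp ((Matrix.toLin' (g : Mat)).comp (D.τ u))).ker
      have hK : 4 ≤ Module.finrank F K + Module.finrank F (⊤ : Submodule F W₁) :=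
        D.ker_bound g t ⊤ fun _ => Submodule.mem_top
      rw [finrank_top, Module.finrank_fintype_fun_eq_card, Fintype.card_fin] at hK
      have hle : K ≤ D.meet h' u := fun y hy => by
        have hy' : D.κ' t ((g : Mat) *ᵥ D.τ u y) = 0 := by simpa [K, Matrix.toLin'_apply] using hy
        rw [D.mem_meet, hh', mulVec_mul_GL, mulVec_mul_GL, refl_form htt, hy', smul_zero, map_zero,
          LinearMap.zero_apply, sub_zero, inv_mulVec_cancel]
        exact D.tau_mem_L u y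
      have hK' := Submodule.finrank_mono hle
      have hh'H : h' ∈ D.H := by
        by_contra hc
        have : Module.finrank F (D.meet h' u) ≤ d := hmax (h', u) ⟨hh'M, hc, hu⟩
        omega
      obtain ⟨y₀, hy₀, hy₀0⟩ := (Submodule.ne_bot_iff _).1 (fun e : D.meet h' u = ⊥ => by
        rw [e, finrank_bot] at hK'; omega)
      exact fun y => stab_of_meet hh'H hu hy₀0 (D.mem_meet.1 hy₀) y
    obtain ⟨r, -, y, -, hr0, hrr, hry, hyy⟩ := D.exists_singular_perp h2 (Y := ⊤)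
      (by rw [finrank_top, D.finrank_w₂]; omega) (by rw [finrank_top, D.finrank_w₂]; omega)
    have hyr : D.f₂ y r = 0 := by rw [D.symm, hry]
    refine hxH (hM.mem_of_line p hp2 hex hr0 hrr hxM fun z => ?_)
    obtain ⟨a, ha⟩ := hall y hyy z
    obtain ⟨a₁, ha₁⟩ := hall (y + r) (by simp [hry, hyr, hrr, hyy]) z
    obtain ⟨a₂, ha₂⟩ := hall (y - r) (by simp [hry, hyr, hrr, hyy]) z
    have e : D.τ (a₁ + a₂ - (2 : F) • a) y + D.τ (a₁ - a₂) r = 0 := by
      rw [map_add, mulVec_add] at ha₁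
      rw [map_sub, mulVec_sub] at ha₂
      rw [map_sub, map_add, map_sub, map_smul, LinearMap.sub_apply, LinearMap.add_apply, LinearMap.sub_apply,
        LinearMap.smul_apply, ← ha]
      simp only [map_add, map_sub] at ha₁ ha₂
      linear_combination (norm := module) -ha₁ - ha₂
    have e1 := congrArg (D.κ' y) e
    rw [map_add, D.κ'_pure, D.κ'_pure, map_zero, hry, zero_smul, add_zero, smul_eq_zero, or_iff_right hyy] at e1
    rw [e1, map_zero, LinearMap.zero_apply, zero_add] at e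
    have e3 := D.tau_left hr0 e
    have haa : a₁ = a := smul_right_injective _ h2 (show (2 : F) • a₁ = (2 : F) • a by
      linear_combination (norm := module) e1 + e3)
    refine ⟨a, ?_⟩
    rw [map_add, mulVec_add, ha, haa, map_add] at ha₁
    rw [LinearMap.flip_apply]
    exact (add_left_cancel ha₁).symm
  set T := D.T u 1
  set c := x * T * (T * x)⁻¹ with hc
  have hcM : c ∈ M := mul_mem (mul_mem hxM (hM.le (D.T_mem u 1)))
    (inv_mem (mul_mem (hM.le (D.T_mem u 1)) hxM))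
  have hcH : c ∉ D.H := fun h => hxH (hM.mem_of_conj p h2 hex hxM hu (by
    show x * T * x⁻¹ ∈ D.H
    rw [show x * T * x⁻¹ = c * T by rw [hc]; group]
    exact mul_mem h (D.T_mem u 1)))
  -- `x` and `T` commute on the lines of the meet
  have hcomm : ∀ t ∈ Y₁, D.f₂ t t ≠ 0 → ∀ z, ∃ z', (x : Mat) *ᵥ ((T : Mat) *ᵥ D.τ z t) = D.τ z' t ∧
      (T : Mat) *ᵥ ((x : Mat) *ᵥ D.τ z t) = D.τ z' t := by
    intro t ht htt z
    obtain ⟨q, hq, hqt⟩ := Submodule.mem_map.1 ht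
    have hut : D.τ u t = (g : Mat) *ᵥ D.τ u (-q) := by rw [map_neg, mulVec_neg, hφ q hq, hqt, map_neg, neg_neg]
    have hxu : (x : Mat) *ᵥ D.τ u t = D.τ u t := by
      rw [hut, hx, mulVec_mul_GL, mulVec_mul_GL, inv_mulVec_cancel, D.T_pure, D.alt, mul_zero, zero_smul, add_zero]
    have hstab : ∀ y, ((g⁻¹ * D.krOne (D.refl t) (refl_isom htt) * g : GLm) : Mat) *ᵥ D.τ u y ∈ D.L u := by
      intro y
      have h0 : D.f₁ (D.κ' t ((g : Mat) *ᵥ D.τ u y)) u = 0 := by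
        rw [D.κ'_spec, hut, hgs, D.pair, D.alt, zero_mul]
      obtain ⟨r, hr⟩ := D.prop_two hu h0
      rw [mulVec_mul_GL, mulVec_mul_GL, refl_form htt, hr, smul_smul, map_smul, LinearMap.smul_apply, hut,
        mulVec_sub, mulVec_smul, inv_mulVec_cancel, inv_mulVec_cancel]
      exact sub_mem (D.tau_mem_L u y) (Submodule.smul_mem _ _ (D.tau_mem_L u _))
    obtain ⟨w, hw⟩ := hline t htt hstab z
    have hwu : D.f₁ w u = D.f₁ z u := by
      have e := Symp.mem_spGL_iff.1 (hM.sp hxM) (D.τ z t) (D.τ u t)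
      rw [hw, hxu, D.pair, D.pair] at e
      exact mul_right_cancel₀ htt e
    refine ⟨w + ((1 : F) * D.f₁ w u) • u, ?_, by rw [hw, D.T_pure]⟩
    rw [D.T_pure, hwu, map_add, LinearMap.add_apply, map_add, LinearMap.add_apply, map_smul,
      LinearMap.smul_apply, mulVec_add, mulVec_smul, hxu, hw]
  have hfix : ∀ t ∈ Y₁, D.f₂ t t ≠ 0 → ∀ z, (c : Mat) *ᵥ D.τ z t = D.τ z t := by
    intro t ht htt z
    choose σ hσ1 hσ2 using hcomm t ht htt
    have hσinj : Function.Injective σ := fun a b h => by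
      have e : (x : Mat) *ᵥ ((T : Mat) *ᵥ D.τ a t) = (x : Mat) *ᵥ ((T : Mat) *ᵥ D.τ b t) := by rw [hσ1, hσ1, h]
      exact sub_eq_zero.1 (D.tau_left (y := t) (fun h0 => htt (by rw [h0]; simp))
        (by rw [map_sub, LinearMap.sub_apply, mulVec_inj T (mulVec_inj x e), sub_self]))
    obtain ⟨z', rfl⟩ := Finite.surjective_of_injective hσinj z
    conv_lhs => rw [← hσ2 z', ← mulVec_mul_GL (g := T), ← mulVec_mul_GL, show c * (T * x) = x * T by rw [hc]; group,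
      mulVec_mul_GL, hσ1]
  by_cases hani : ∀ r ∈ Y₁, D.f₂ r r = 0 → r = 0
  · have hd2 : d = 2 := by
      by_contra hne
      obtain ⟨r, hr, -, -, hr0, hrr, -, -⟩ := D.exists_singular_perp h2 (Y := Y₁) (by omega) (by omega)
      exact hr0 (hani r hr hrr)
    obtain ⟨ψ, h1, h2'⟩ := D.exists_frame hnp h3 h2 (Y := Y₁) (by omega) hani
    refine hcH (hM.mem_of_fix_plane p hp2 hnp h3 ψ (fun g' hg' hg'H w hw => ?_) hcM
      (hfix _ h1 (by rw [ψ.h₁₁]; exact ψ.hn)) (hfix _ h2' (by rw [ψ.h₂₂]; exact ψ.hn)))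
    have : Module.finrank F (D.meet g' w) ≤ d := hmax (g', w) ⟨hg', hg'H, hw⟩
    omega
  · push Not at hani
    obtain ⟨r, hr, hrr, hr0⟩ := hani
    obtain ⟨y, hy, hyy⟩ : ∃ y ∈ Y₁, D.f₂ y y ≠ 0 := by
      by_contra hc'
      push Not at hc'
      have := hnp Y₁ fun y hy y' hy' => by
        have e := hc' (y + y') (Y₁.add_mem hy hy')
        simp only [map_add, LinearMap.add_apply, hc' y hy, hc' y' hy', D.symm y' y] at e
        exact (mul_eq_zero.1 (show (2 : F) * D.f₂ y y' = 0 by linear_combination e)).resolve_left h2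
      omega
    obtain ⟨y', hy', hy'y, hsum⟩ : ∃ y' ∈ Y₁, D.f₂ y' y' ≠ 0 ∧ (r = y' - y ∨ r = y - y') := by
      by_cases hp : D.f₂ (y + r) (y + r) = 0
      · refine ⟨y - r, Y₁.sub_mem hy hr, fun hm => mul_ne_zero h2 hyy ?_, Or.inr (by rw [sub_sub_cancel])⟩
        simp only [map_add, map_sub, LinearMap.add_apply, LinearMap.sub_apply, hrr] at hp hm
        linear_combination hp + hm
      · exact ⟨y + r, Y₁.add_mem hy hr, hp, Or.inl (by rw [add_sub_cancel_left])⟩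
    refine hcH (hM.mem_of_line p hp2 hex hr0 hrr hcM fun z => ⟨z, ?_⟩)
    rw [LinearMap.flip_apply]
    rcases hsum with h | h <;> rw [h, map_sub, mulVec_sub, hfix _ hy hyy, hfix _ hy' hy'y]

end Data

end Cfsg.Agent.Forms.Max.SympTensor
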