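import Cfsg.Agent.Lib.Forms.Max.SympTensor.Pairs

/-!
# `W₁ ⊗ W₂` with the alternating factor of dimension at least three
-/

set_option autoImplicit false
set_option linter.unusedSectionVars false

namespace Cfsg.Agent.Forms.Max.SympTensor

open Matrix Cfsg.Agent.Forms.SympStd

variable {F : Type*} [Field F] {m k n : ℕ}

local notation "Vec" => (Fin m ⊕ Fin m → F)
local notation "GLm" => GL (Fin m ⊕ Fin m) F
local notation "Mat" => Matrix (Fin m ⊕ Fin m) (Fin m ⊕ Fin m) F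
local notation "B" => sympB m F
local notation "W₁" => (Fin k → F)
local notation "W₂" => (Fin n → F)

/-- two functionals have a common zero in dimension at least three -/
theorem exists_zero_pair {W : Type*} [AddCommGroup W] [Module F W] [FiniteDimensional F W]
    {X : Type*} [AddCommGroup X] [Module F X] [FiniteDimensional F X]
    (φ : W →ₗ[F] X) (h : Module.finrank F X < Module.finrank F W) : ∃ x, x ≠ 0 ∧ φ x = 0 := by
  obtain ⟨x, hx, hx0⟩ := Submodule.exists_mem_ne_zero_of_ne_bot fun e : LinearMap.ker φ = ⊥ =>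
    (LinearMap.finrank_le_finrank_of_injective (LinearMap.ker_eq_bot.1 e)).not_gt h
  exact ⟨x, hx0, hx⟩

namespace Data

variable {D : Data F m k n} [Fintype F] {M : Subgroup (GL (Fin m ⊕ Fin m) F)}

theorem fix_of_dis {g : GLm} {u : W₁} {x : Vec} (he : D.dis u *ᵥ x = 0) (hf : D.cdis g u *ᵥ x = 0)
    {z : GLm} (hz : z ∈ D.pairGroup g u) : (z : Mat) *ᵥ x = x := by
  induction hz using Subgroup.closure_induction with
  | mem z hz =>
    obtain ⟨t, hz | hz⟩ := hz <;> rw [hz, Matrix.add_mulVec, Matrix.one_mulVec, Matrix.smul_mulVec]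
    exacts [by rw [he, smul_zero, add_zero], by rw [hf, smul_zero, add_zero]]
  | one => simp
  | mul a b _ _ ha hb => rw [mulVec_mul_GL, hb, ha]
  | inv a _ ha =>
    conv_lhs => rw [← ha]
    rw [inv_mulVec_cancel]

/-- for `k ≥ 3` there is nothing outside the stabiliser -/
theorem Tight.le_of_high (hM : D.Tight M) (p : ℕ) [Fact p.Prime] [CharP F p] (hp2 : p ≠ 2) (hk : 3 ≤ k) :
    M ≤ D.H := by
  intro g hg
  by_contra hgH
  have h2 : (2 : F) ≠ 0 := Ring.two_ne_zero (by rwa [ringChar.eq F p])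
  have hex : D.Generic := Or.inl (by omega)
  obtain ⟨u, hu⟩ := D.exists_ne₁
  obtain ⟨v, hv⟩ := D.exists_one₁ hu
  obtain ⟨y₀, hy₀⟩ := D.exists_ne₂
  have he := D.dis_sq u
  have hf := D.cdis_sq g u
  obtain ⟨K, -⟩ := CompData.exists_of_not_nilpotent he hf (hM.not_nilpotent p h2 hex hg hgH hu)
  obtain ⟨z, hzG, hz2, hz1⟩ := K.exists_involution p hp2
  have hzM : z ∈ M := hM.pairGroup_le hg u hzG
  have hzc := Pair.central_of_involution he hf h2 hzG hz2
  obtain ⟨ze, -, zC⟩ := Pair.comm_of_mem he hf hzc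
  have hzH : z ∈ D.H := hM.mem_of_conj p h2 hex hzM hu (by
    have : z * D.T u 1 = D.T u 1 * z := Units.ext (by
      rw [Units.val_mul, Units.val_mul, D.T_coe, one_smul, mul_add, add_mul, mul_one, one_mul, ze.eq])
    rw [this, mul_inv_cancel_right]
    exact D.T_mem u 1)
  obtain ⟨c, Y, hY, hzY⟩ := Pair.cenAlg_form hzc
  obtain ⟨Ye, -, YC⟩ := Pair.comm_of_mem he hf hY
  -- a vector killed by both
  have hgfix : ∀ x, D.κ u x = 0 → D.dis u *ᵥ x = 0 := fun x hx => by rw [D.dis_mulVec, hx, map_zero]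
  obtain ⟨x₀, hx₀, hx₀'⟩ := exists_zero_pair ((D.κ u).prod ((D.κ u).comp (Matrix.toLin' ((g⁻¹ : GLm) : Mat)))) (by
    rw [Module.finrank_prod, Module.finrank_fintype_fun_eq_card, Fintype.card_fin, finrank_vec, ← D.card_eq]
    have := D.three_le
    have h3 : 3 * n ≤ k * n := Nat.mul_le_mul_right n hk
    omega)
  obtain ⟨hx₁, hx₂⟩ := Prod.ext_iff.1 hx₀'
  change D.κ u x₀ = 0 at hx₁
  change D.κ u (((g⁻¹ : GLm) : Mat) *ᵥ x₀) = 0 at hx₂
  have hfx : D.cdis g u *ᵥ x₀ = 0 := by rw [D.cdis_mulVec, hx₂, map_zero, Matrix.mulVec_zero]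
  have hCx : ∀ x, D.κ u x = 0 → Pair.cen (D.dis u) (D.cdis g u) *ᵥ x = D.τ u (D.κ u (D.cdis g u *ᵥ x)) := by
    intro x hx
    rw [Pair.cen, Matrix.add_mulVec, ← Matrix.mulVec_mulVec, ← Matrix.mulVec_mulVec, hgfix x hx,
      Matrix.mulVec_zero, add_zero, D.dis_mulVec]
  have hzv : ∀ x, (z : Mat) *ᵥ x = c • x + Y *ᵥ (Pair.cen (D.dis u) (D.cdis g u) *ᵥ x) := fun x => by
    rw [hzY, ← YC.eq, Matrix.add_mulVec, Algebra.algebraMap_eq_smul_one, Matrix.smul_mulVec, Matrix.one_mulVec,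
      Matrix.mulVec_mulVec]
  have hc : c = 1 := by
    have e := hzv x₀
    rw [fix_of_dis (hgfix x₀ hx₁) hfx hzG, hCx x₀ hx₁, hfx, map_zero, map_zero, Matrix.mulVec_zero, add_zero] at e
    by_contra hne
    refine hx₀ ((smul_eq_zero.1 (show (c - 1) • x₀ = 0 by rw [sub_smul, one_smul, ← e, sub_self])).resolve_left
      (sub_ne_zero.2 hne))
  subst hc
  simp only [one_smul] at hzv
  have hzL : ∀ x, D.κ u x = 0 → (z : Mat) *ᵥ x - x ∈ D.L u := by
    intro x hx
    rw [hzv, add_sub_cancel_left, hCx x hx, ← D.dis_mulVec, Matrix.mulVec_mulVec, Ye.eq, ← Matrix.mulVec_mulVec,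
      D.dis_mulVec]
    exact D.tau_mem_L u _
  obtain ⟨hzs, a, b, hab⟩ := hzH
  -- the second factor is scalar
  obtain ⟨w, hw0, hw⟩ := exists_zero_pair ((D.f₁.flip u).prod (D.f₁.flip v)) (by
    rw [Module.finrank_prod, Module.finrank_self, Module.finrank_fintype_fun_eq_card, Fintype.card_fin]
    omega)
  obtain ⟨hwu, hwv⟩ := Prod.ext_iff.1 hw
  change D.f₁ w u = 0 at hwu
  change D.f₁ w v = 0 at hwv
  obtain ⟨w'', hw''⟩ := D.exists_one₁ hw0
  set w' := w'' - D.f₁ w'' u • v with hw'def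
  have hw'u : D.f₁ u w' = 0 := by
    rw [hw'def, map_sub, map_smul, smul_eq_mul, D.swap₁ v u, hv, D.swap₁ w'' u]; ring
  set s := D.f₁ (a w) w'
  have hsy : ∀ y, s • b y = D.f₁ w w' • y := by
    intro y
    obtain ⟨l, hl⟩ := hzL (D.τ w y) (by rw [D.κ_pure, hwu, zero_smul])
    have e := congrArg (D.κ w') hl
    rw [hab, map_sub, D.κ_pure, D.κ_pure, D.κ_pure, hw'u, zero_smul] at e
    exact sub_eq_zero.1 e.symm
  have hww : D.f₁ w w' = -1 := by
    rw [hw'def, map_sub, map_smul, smul_eq_mul, hwv, mul_zero, sub_zero, D.swap₁, hw'']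
  have hs : s ≠ 0 := fun e => hy₀ (by
    have := hsy y₀
    rw [e, zero_smul, hww, neg_smul, one_smul, eq_comm, neg_eq_zero] at this
    exact this)
  have h1 : ∀ x y, (z : Mat) *ᵥ D.τ x y = D.τ ((-s⁻¹ • a) x) y := fun x y => by
    rw [D.rescale hab (neg_ne_zero.2 (inv_ne_zero hs))]
    congr 1
    rw [LinearMap.smul_apply, inv_neg, inv_inv, neg_smul, hsy, hww, neg_smul, one_smul, neg_neg]
  set a' := -s⁻¹ • a
  obtain ⟨μ, -, hμ1, hμ2⟩ := D.exists_multiplier hzs (b := LinearMap.id) h1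
  have hμ : μ = 1 := by
    obtain ⟨y₁, hy₁⟩ := D.exists_one₂ hy₀
    have e := hμ2 y₀ y₁
    rw [LinearMap.id_apply, LinearMap.id_apply, hy₁, mul_one] at e
    exact inv_eq_one.1 e.symm
  have haa : ∀ x, a' (a' x) = x := fun x => by
    refine sub_eq_zero.1 (D.tau_left hy₀ ?_)
    rw [map_sub, LinearMap.sub_apply, ← h1, ← h1, ← mulVec_mul_GL, hz2]
    simp
  obtain ⟨δ, hδ⟩ := D.eq_smul_of_L hu (u' := a' u) fun y => by
    have hz' : (z : Mat) *ᵥ D.τ u y = D.τ u (D.κ u ((z : Mat) *ᵥ D.τ v y)) := by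
      rw [← D.dis_mulVec, show D.τ u y = D.dis u *ᵥ D.τ v y by rw [D.dis_mulVec, D.κ_pure, hv, one_smul],
        Matrix.mulVec_mulVec, Matrix.mulVec_mulVec, ze.eq]
    rw [← h1, hz']
    exact D.tau_mem_L u _
  have hδ2 : δ * δ = 1 := by
    have e := haa u
    rw [hδ, map_smul, hδ, smul_smul] at e
    exact smul_left_injective F hu (by simpa using e)
  have hax : ∀ x, D.f₁ x u = 0 → ∃ d : F, a' x = x + d • u := fun x hx => by
    have := hzL (D.τ x y₀) (by rw [D.κ_pure, hx, zero_smul])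
    rw [h1, ← LinearMap.sub_apply, ← map_sub] at this
    obtain ⟨d, hd⟩ := D.eq_smul_of_mem hu hy₀ this
    exact ⟨d, by rw [← hd, add_sub_cancel]⟩
  rcases mul_self_eq_one_iff.1 hδ2 with rfl | rfl
  · refine hz1 (D.gl_ext_pure fun x y => ?_)
    rw [one_smul] at hδ
    have hfix : ∀ x, D.f₁ x u = 0 → a' x = x := fun x hx => by
      obtain ⟨d, hd⟩ := hax x hx
      have e := haa x
      rw [hd, map_add, map_smul, hd, hδ, add_assoc, ← add_smul, add_eq_left, smul_eq_zero,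
        or_iff_left hu, ← two_mul] at e
      rw [hd, (mul_eq_zero.1 e).resolve_left h2, zero_smul, add_zero]
    obtain ⟨d, hd⟩ := D.prop_of_perp hu (d := a' v - v) fun x hx => by
      have hx' : D.f₁ x u = 0 := by rw [D.swap₁, hx, neg_zero]
      have e := hμ1 v x
      rw [hfix x hx', hμ, one_mul] at e
      rw [map_sub, LinearMap.sub_apply, e, sub_self]
    have hav : a' v = v := by
      have hd' : a' v = v + d • u := by rw [← hd, add_sub_cancel]
      have e := haa v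
      rw [hd', map_add, map_smul, hd', hδ, add_assoc, ← add_smul, add_eq_left, smul_eq_zero,
        or_iff_left hu, ← two_mul] at e
      rw [hd', (mul_eq_zero.1 e).resolve_left h2, zero_smul, add_zero]
    have e := hfix (x - D.f₁ x u • v) (by simp [hv])
    rw [map_sub, map_smul, hav, sub_left_inj] at e
    rw [h1, e]; simp
  -- `a'` negates a hyperbolic line
  rw [neg_one_smul] at hδ
  set u₁ := a' v - v
  have hu₁ : D.f₁ u₁ u = -2 := by
    have e := hμ1 v u
    rw [hδ, map_neg, hμ, hv, mul_one, neg_eq_iff_eq_neg] at e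
    rw [map_sub, LinearMap.sub_apply, e, hv]; norm_num
  set L' := img g (D.L u)
  have hrange : ∀ x, Pair.cen (D.dis u) (D.cdis g u) *ᵥ x ∈ D.L u ⊔ L' := fun x => by
    rw [Pair.cen, Matrix.add_mulVec, ← Matrix.mulVec_mulVec, ← Matrix.mulVec_mulVec]
    refine Submodule.add_mem_sup ?_ ?_
    · rw [D.dis_mulVec]; exact D.tau_mem_L u _
    · rw [D.cdis_mulVec]; exact mulVec_mem_img (D.tau_mem_L u _)
  have hL1 : D.L u ⊔ D.L u₁ ≤ D.L u ⊔ L' := by
    refine sup_le le_sup_left ?_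
    rintro _ ⟨y, rfl⟩
    have e : D.τ u₁ y = (z : Mat) *ᵥ D.τ v y - D.τ v y := by rw [h1, map_sub, LinearMap.sub_apply]
    rw [e, hzv, add_sub_cancel_left, Matrix.mulVec_mulVec, YC.eq, ← Matrix.mulVec_mulVec]
    exact hrange _
  have hne : D.L u ⊓ D.L u₁ = ⊥ := by
    rw [eq_bot_iff]
    rintro x ⟨hx, y, rfl⟩
    have e := D.κ_L hx
    rw [D.κ_pure, hu₁, smul_eq_zero, or_iff_right (neg_ne_zero.2 h2)] at e
    simp [e]
  have hu₁0 : u₁ ≠ 0 := fun e => by
    rw [e, map_zero, LinearMap.zero_apply] at hu₁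
    exact h2 (neg_eq_zero.1 hu₁.symm)
  have hdim := Submodule.finrank_sup_add_finrank_inf_eq (D.L u) (D.L u₁)
  rw [hne, finrank_bot, add_zero, D.finrank_L hu, D.finrank_L hu₁0] at hdim
  have hdim' := Submodule.finrank_add_le_finrank_add_finrank (D.L u) L'
  rw [finrank_img, D.finrank_L hu] at hdim'
  have heq := Submodule.eq_of_le_of_finrank_le hL1 (by omega)
  obtain ⟨u', hu', hu''⟩ := exists_zero_pair ((D.f₁ u).prod (D.f₁ u₁)) (by
    rw [Module.finrank_prod, Module.finrank_self, Module.finrank_fintype_fun_eq_card, Fintype.card_fin]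
    omega)
  obtain ⟨huu', hu₁u'⟩ := Prod.ext_iff.1 hu''
  change D.f₁ u u' = 0 at huu'
  change D.f₁ u₁ u' = 0 at hu₁u'
  have hkill : ∀ x ∈ L', D.κ u' x = 0 := fun x hx => by
    obtain ⟨p, ⟨y, rfl⟩, q, ⟨y', rfl⟩, rfl⟩ := Submodule.mem_sup.1 (heq.ge (le_sup_right (a := D.L u) hx))
    rw [map_add, D.κ_pure, D.κ_pure, huu', hu₁u', zero_smul, zero_smul, add_zero]
  have h12 : D.dis u' * D.cdis g u = 0 := Matrix.ext_iff_mulVec.2 fun x => by
    rw [← Matrix.mulVec_mulVec, D.dis_mulVec, D.cdis_mulVec, hkill _ (mulVec_mem_img (D.tau_mem_L u _)),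
      map_zero, Matrix.zero_mulVec]
  have h21 : D.cdis g u * D.dis u' = 0 := Matrix.ext_iff_mulVec.2 fun x => by
    rw [← Matrix.mulVec_mulVec, D.cdis_mulVec, D.dis_mulVec, Matrix.zero_mulVec]
    rw [D.κ_eq (z := 0) fun y => ?_, map_zero, Matrix.mulVec_zero]
    rw [map_zero, LinearMap.zero_apply, ← Symp.mem_spGL_iff.1 (hM.sp hg), mulVec_inv_cancel, Symp.B_swap,
      ← D.κ_spec, hkill _ (mulVec_mem_img (D.tau_mem_L u _)), map_zero, LinearMap.zero_apply, neg_zero]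
  have hcomm : ∀ s t : F, D.T u' s * (g * D.T u t * g⁻¹) = g * D.T u t * g⁻¹ * D.T u' s := fun s t => Units.ext (by
    rw [Units.val_mul (D.T u' s), Units.val_mul (g * D.T u t * g⁻¹), D.T_coe, D.conj_coe, mul_add, mul_add, add_mul, add_mul]
    simp only [Matrix.smul_mul, Matrix.mul_smul, Matrix.add_mul, Matrix.mul_add, h12, h21, smul_zero, add_zero, one_mul, mul_one]
    abel)
  let φ : Multiplicative (F × F) →* GLm :=
    MonoidHom.mk' (fun q => D.T u' q.toAdd.1 * (g * D.T u q.toAdd.2 * g⁻¹)) fun q r => by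
      rw [toAdd_mul, Prod.fst_add, Prod.snd_add, ← D.T_mul, ← D.T_mul, mul_assoc (D.T u' _), mul_assoc (D.T u' _)]
      congr 1
      rw [← mul_assoc (g * D.T u q.toAdd.2 * g⁻¹) (D.T u' r.toAdd.1), ← hcomm, mul_assoc]
      group
  have hP : IsPGroup p φ.range := by
    rintro ⟨_, q, rfl⟩
    refine ⟨1, Subtype.ext ?_⟩
    rw [Subgroup.coe_pow, pow_one, ← map_pow, Subgroup.coe_one]
    convert φ.map_one
    exact Multiplicative.toAdd.injective (Prod.ext (by simp [CharP.cast_eq_zero])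
      (by simp [CharP.cast_eq_zero]))
  have hle : φ.range ≤ M := by
    rintro _ ⟨q, rfl⟩
    exact mul_mem (hM.le (D.T_mem _ _)) (mul_mem (mul_mem hg (hM.le (D.T_mem _ _))) (inv_mem hg))
  refine hgH (hM.mem_of_conj p h2 hex hg hu (hM.mem_of_pgroup p h2 hex hP hle hu' ⟨.ofAdd (1, 0), ?_⟩
    ⟨.ofAdd (0, 1), ?_⟩))
  · simp [φ, D.T_zero]
  · simp [φ, D.T_zero]

end Data

end Cfsg.Agent.Forms.Max.SympTensor
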