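import Cfsg.Agent.Lib.Forms.Max.SympTensor.Radical

/-!
# `W₁ ⊗ W₂`: a non-scalar central element spreads to all transvections
-/

set_option autoImplicit false
set_option linter.unusedSectionVars false

namespace Cfsg.Agent.Forms.Max.SympTensor

open Matrix Cfsg.Agent.Forms.SympStd

variable {F : Type*} [Field F] {m k n : ℕ}

local notation "Vec" => (Fin m ⊕ Fin m → F)
local notation "GLm" => GL (Fin m ⊕ Fin m) F
local notation "Mat" => Matrix (Fin m ⊕ Fin m) (Fin m ⊕ Fin m) F
local notation "B" => sympB m F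
local notation "W₁" => (Fin k → F)
local notation "W₂" => (Fin n → F)

namespace Data

variable {D : Data F m k n} [Fintype F] {M : Subgroup (GL (Fin m ⊕ Fin m) F)}

theorem InS.add {u : W₁} {S S' : W₂ →ₗ[F] W₂} (hu : u ≠ 0) (h : D.InS M u S) (h' : D.InS M u S') :
    D.InS M u (S + S') := by
  obtain ⟨g, hg, e⟩ := h
  obtain ⟨g', hg', e'⟩ := h'
  refine ⟨g * g', mul_mem hg hg', fun q => ?_⟩
  rw [mulVec_mul_GL, e', e, map_add (D.κ u), D.κ_pure, D.alt, zero_smul, add_zero, LinearMap.add_apply, map_add]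
  abel

theorem InS.zero {u : W₁} : D.InS M u 0 := ⟨1, one_mem M, fun q => by simp⟩

theorem InS.neg {u : W₁} {S : W₂ →ₗ[F] W₂} (h : D.InS M u S) : D.InS M u (-S) := by
  obtain ⟨g, hg, e⟩ := h
  refine ⟨g⁻¹, inv_mem hg, fun q => mulVec_inj g ?_⟩
  rw [mulVec_inv_cancel, mulVec_add, e q, e (D.τ u _), D.κ_pure, D.alt, zero_smul, map_zero, map_zero, add_zero,
    LinearMap.neg_apply, map_neg]
  abel

/-- central elements are closed under square multiples -/
theorem InS.smul_sq (hle : D.H ≤ M) {u : W₁} (hu : u ≠ 0) {S : W₂ →ₗ[F] W₂} (h : D.InS M u S) {t : F}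
    (ht : t ≠ 0) : D.InS M u ((t * t) • S) := by
  obtain ⟨v, hv⟩ := D.exists_one₁ hu
  let a : W₁ →ₗ[F] W₁ := LinearMap.id + ((t - 1) • D.f₁ v).smulRight u + ((t⁻¹ - 1) • D.f₁.flip u).smulRight v
  have ha : ∀ x, a x = x + ((t - 1) * D.f₁ v x) • u + ((t⁻¹ - 1) * D.f₁ x u) • v := fun x => rfl
  have haf : ∀ x x', D.f₁ (a x) (a x') = D.f₁ x x' := fun x x' => by
    rw [ha, ha]
    simp only [map_add, map_smul, LinearMap.add_apply, LinearMap.smul_apply, smul_eq_mul, D.alt, hv,
      D.swap₁ v u, D.swap₁ x' u, D.swap₁ v x]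
    field_simp
    ring
  set c := D.kr a LinearMap.id (fun x y x' y' => by rw [haf]; rfl)
  have hc : c ∈ D.H := D.kr_mem _ _ _
  have hau : a u = t • u := by rw [ha, D.alt, hv]; module
  have hcu : ∀ y, (c : Mat) *ᵥ D.τ u y = t • D.τ u y := fun y => by
    rw [D.kr_pure, hau, map_smul, LinearMap.smul_apply, LinearMap.id_apply]
  have hκ : ∀ q, D.κ u ((c : Mat) *ᵥ q) = t⁻¹ • D.κ u q := fun q => D.κ_eq fun y => by
    rw [map_smul, LinearMap.smul_apply, D.κ_spec, ← Symp.mem_spGL_iff.1 hc.1, hcu, map_smul, smul_eq_mul,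
      smul_eq_mul, ← mul_assoc, inv_mul_cancel₀ ht, one_mul]
  obtain ⟨g, hg, e⟩ := h
  refine ⟨c * g * c⁻¹, mul_mem (mul_mem (hle hc) hg) (inv_mem (hle hc)), fun q => ?_⟩
  have hq : D.κ u (((c⁻¹ : GLm) : Mat) *ᵥ q) = t • D.κ u q := by
    have := hκ (((c⁻¹ : GLm) : Mat) *ᵥ q)
    rw [mulVec_inv_cancel] at this
    rw [this, smul_smul, mul_inv_cancel₀ ht, one_smul]
  rw [mulVec_mul_GL, mulVec_mul_GL, e, hq, mulVec_add, mulVec_inv_cancel, hcu, LinearMap.smul_apply, map_smul,
    map_smul, map_smul, smul_smul]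

/-- central elements form a space -/
theorem InS.smul (h2 : (2 : F) ≠ 0) (hle : D.H ≤ M) {u : W₁} (hu : u ≠ 0) {S : W₂ →ₗ[F] W₂}
    (h : D.InS M u S) (c : F) : D.InS M u (c • S) := by
  have sq : ∀ t : F, D.InS M u ((t * t) • S) := fun t => by
    by_cases ht : t = 0
    · rw [ht, mul_zero, zero_smul]; exact InS.zero
    · exact h.smul_sq hle hu ht
  have := (sq ((c + 1) / 2)).add hu (sq ((c - 1) / 2)).neg
  convert this using 1
  match_scalars
  field_simp
  ring

theorem InS.conj_isom (hle : D.H ≤ M) {u : W₁} {S : W₂ →ₗ[F] W₂} (h : D.InS M u S) (b : W₂ →ₗ[F] W₂)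
    (hb : ∀ y y', D.f₂ (b y) (b y') = D.f₂ y y') {S' : W₂ →ₗ[F] W₂} (hS' : ∀ y, S' (b y) = b (S y)) :
    D.InS M u S' := by
  obtain ⟨g, hg, e⟩ := h
  set c := D.krOne b hb
  refine ⟨c * g * c⁻¹, mul_mem (mul_mem (hle (D.krOne_mem b hb)) hg) (inv_mem (hle (D.krOne_mem b hb))), fun q => ?_⟩
  have hq : b (D.κ u (((c⁻¹ : GLm) : Mat) *ᵥ q)) = D.κ u q := by rw [← κ_krOne b hb, mulVec_inv_cancel]
  rw [mulVec_mul_GL, mulVec_mul_GL, e, mulVec_add, mulVec_inv_cancel, krOne_pure, ← hS', hq]

/-- `q ↦ (q, x) y + (q, y) x` -/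
noncomputable def dy (D : Data F m k n) (x y : Fin n → F) : (Fin n → F) →ₗ[F] (Fin n → F) :=
  (D.f₂.flip x).smulRight y + (D.f₂.flip y).smulRight x

theorem dy_apply (x y q : W₂) : D.dy x y q = D.f₂ q x • y + D.f₂ q y • x := rfl

theorem InS.dy_conj (hle : D.H ≤ M) {u : W₁} {x y : W₂} (h : D.InS M u (D.dy x y)) (b : W₂ →ₗ[F] W₂)
    (hb : ∀ y y', D.f₂ (b y) (b y') = D.f₂ y y') : D.InS M u (D.dy (b x) (b y)) :=
  h.conj_isom hle b hb fun q => by rw [dy_apply, dy_apply, hb, hb, map_add, map_smul, map_smul]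

/-- the Siegel map of the symmetric factor -/
noncomputable def sieg (D : Data F m k n) (e w : Fin n → F) : (Fin n → F) →ₗ[F] (Fin n → F) :=
  LinearMap.id + (D.f₂.flip e).smulRight w - (D.f₂.flip w).smulRight e -
    (D.f₂.flip e).smulRight ((D.f₂ w w / 2) • e)

theorem sieg_apply (e w q : W₂) :
    D.sieg e w q = q + D.f₂ q e • w - D.f₂ q w • e - D.f₂ q e • (D.f₂ w w / 2) • e := rfl

theorem sieg_isom (h2 : (2 : F) ≠ 0) {e w : W₂} (he : D.f₂ e e = 0) (hew : D.f₂ e w = 0) (q q' : W₂) :
    D.f₂ (D.sieg e w q) (D.sieg e w q') = D.f₂ q q' := by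
  rw [sieg_apply, sieg_apply]
  simp only [map_add, map_sub, map_smul, LinearMap.add_apply, LinearMap.sub_apply, LinearMap.smul_apply,
    smul_eq_mul, he, hew, D.symm w e, D.symm e q', D.symm w q']
  field_simp
  ring

theorem exists_singular (h2 : (2 : F) ≠ 0) : ∃ e : W₂, e ≠ 0 ∧ D.f₂ e e = 0 := by
  haveI : Invertible (2 : F) := invertibleOfNonzero h2
  obtain ⟨b, hb⟩ := LinearMap.BilinForm.exists_orthogonal_basis (show LinearMap.IsSymm D.f₂ from ⟨fun x y => by simpa using D.symm x y⟩)
  have hcard : Module.finrank F W₂ = n := by rw [Module.finrank_fintype_fun_eq_card, Fintype.card_fin]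
  let i : Fin 3 → Fin (Module.finrank F W₂) := fun j => ⟨j.1, by rw [hcard]; have := D.three_le; omega⟩
  have hi : ∀ a c, a ≠ c → D.f₂ (b (i a)) (b (i c)) = 0 := fun a c hac => hb (fun e => hac (by
    simpa [i, Fin.ext_iff] using e))
  have hne : ∀ j, D.f₂ (b j) (b j) ≠ 0 := fun j h0 => b.ne_zero j (D.nd₂ _ fun y => by
    rw [← b.sum_repr y, map_sum]
    refine Finset.sum_eq_zero fun l _ => ?_
    rw [map_smul]
    rcases eq_or_ne j l with rfl | h
    · rw [h0, smul_zero]
    · rw [show D.f₂ (b j) (b l) = 0 from hb h, smul_zero])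
  set γ : Fin 3 → F := fun j => D.f₂ (b (i j)) (b (i j))
  have hodd : Fintype.card F % 2 = 1 := FiniteField.odd_card_of_char_ne_two fun h => h2 (by
    haveI := ringChar.of_eq h
    exact CharTwo.two_eq_zero)
  obtain ⟨a, c, hac⟩ := FiniteField.exists_root_sum_quadratic (R := F) (f := Polynomial.C (γ 0) * Polynomial.X ^ 2)
    (g := Polynomial.C (γ 1) * Polynomial.X ^ 2 + Polynomial.C (γ 2))
    (Polynomial.degree_C_mul_X_pow 2 (hne (i 0)))
    (by
      have h1 := Polynomial.degree_C_mul_X_pow 2 (show γ 1 ≠ 0 from hne (i 1))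
      rw [Polynomial.degree_add_eq_left_of_degree_lt (Polynomial.degree_C_le.trans_lt (by rw [h1]; norm_num)), h1]
      rfl) hodd
  simp only [Polynomial.eval_mul, Polynomial.eval_C, Polynomial.eval_pow, Polynomial.eval_X,
    Polynomial.eval_add] at hac
  refine ⟨a • b (i 0) + c • b (i 1) + b (i 2), fun h => ?_, ?_⟩
  · have e := congrArg (fun q => D.f₂ q (b (i 2))) h
    simp [hi 0 2 (by decide), hi 1 2 (by decide), hne (i 2)] at e
  · simp only [map_add, map_smul, LinearMap.add_apply, LinearMap.smul_apply, smul_eq_mul, hi 0 1 (by decide),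
      hi 1 0 (by decide), hi 0 2 (by decide), hi 2 0 (by decide), hi 1 2 (by decide), hi 2 1 (by decide)]
    linear_combination hac

theorem exists_partner (h2 : (2 : F) ≠ 0) {e z : W₂} (he : e ≠ 0) (hee : D.f₂ e e = 0) (hez : D.f₂ e z = 0)
    (hz : D.f₂ z z ≠ 0) : ∃ e', D.f₂ e e' = 1 ∧ D.f₂ e' e' = 0 ∧ D.f₂ e' z = 0 := by
  obtain ⟨x, hx⟩ := D.exists_one₂ he
  set x' := x - (D.f₂ x z / D.f₂ z z) • z
  have h1 : D.f₂ e x' = 1 := by simp [x', hx, hez]
  have h3 : D.f₂ x' z = 0 := by simp [x', hz]
  refine ⟨x' - (D.f₂ x' x' / 2) • e, by simp [h1, hee], ?_, by simp [h3, hez]⟩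
  simp only [map_sub, map_smul, LinearMap.sub_apply, LinearMap.smul_apply, smul_eq_mul, hee, h1, D.symm x' e]
  field_simp
  ring

theorem exists_partner' (h2 : (2 : F) ≠ 0) {e : W₂} (he : e ≠ 0) (hee : D.f₂ e e = 0) :
    ∃ e', D.f₂ e e' = 1 ∧ D.f₂ e' e' = 0 := by
  obtain ⟨x, hx⟩ := D.exists_one₂ he
  refine ⟨x - (D.f₂ x x / 2) • e, by simp [hx, hee], ?_⟩
  simp only [map_sub, map_smul, LinearMap.sub_apply, LinearMap.smul_apply, smul_eq_mul, hee, hx, D.symm x e]
  field_simp
  ring

/-- a non-scalar central element gives one of rank one with singular axis -/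
theorem exists_rank_one (h2 : (2 : F) ≠ 0) (hsmall : 4 ≤ n ∨ 4 ≤ Fintype.card F) (hle : D.H ≤ M)
    (hsp : M ≤ Cfsg.spGL m F) {u : W₁} (hu : u ≠ 0) {S : W₂ →ₗ[F] W₂} (hS : D.InS M u S) (hns : NonScalar S) :
    ∃ e, e ≠ 0 ∧ D.f₂ e e = 0 ∧ ∀ c : F, D.InS M u (c • (D.f₂.flip e).smulRight e) := by
  -- a nonsingular vector that is not an eigenvector, orthogonal to a singular one
  obtain ⟨e, z, he, hee, hez, hz, hSz⟩ : ∃ e z, e ≠ 0 ∧ D.f₂ e e = 0 ∧ D.f₂ e z = 0 ∧ D.f₂ z z ≠ 0 ∧
      ∀ c : F, S z ≠ c • z := by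
    by_contra hc
    push Not at hc
    have hperp : ∀ e, e ≠ 0 → D.f₂ e e = 0 → ∃ l : F, ∀ x, D.f₂ e x = 0 → S x = l • x := by
      intro e he hee
      obtain ⟨e', he', he'e⟩ := exists_partner' h2 he hee
      obtain ⟨z₀, hz0, hz0'⟩ : ∃ z₀, D.f₂ e z₀ = 0 ∧ D.f₂ z₀ z₀ ≠ 0 := by
        by_contra h
        push Not at h
        obtain ⟨w, hw0, hw⟩ : ∃ w : W₂, w ≠ 0 ∧ (D.f₂ e).prod (D.f₂ e') w = 0 := by
          obtain ⟨w, hw, hw0⟩ := Submodule.exists_mem_ne_zero_of_ne_bot
            (p := LinearMap.ker ((D.f₂ e).prod (D.f₂ e'))) fun h0 => by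
              have := LinearMap.finrank_le_finrank_of_injective (LinearMap.ker_eq_bot.1 h0)
              rw [Module.finrank_fintype_fun_eq_card, Fintype.card_fin, Module.finrank_prod, Module.finrank_self] at this
              have := D.three_le
              omega
          exact ⟨w, hw0, hw⟩
        obtain ⟨hwe, hwe'⟩ := Prod.ext_iff.1 hw
        change D.f₂ e w = 0 at hwe
        change D.f₂ e' w = 0 at hwe'
        obtain ⟨x, hx⟩ := D.exists_one₂ hw0
        set y := x - D.f₂ x e' • e - D.f₂ x e • e'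
        have hey : D.f₂ e y = 0 := by simp [y, hee, he', D.symm e x]
        have hwy : D.f₂ w y = 1 := by simp [y, hx, D.symm w e, hwe, D.symm w e', hwe']
        have h3 := h (w + y) (by rw [map_add, hwe, hey, add_zero])
        simp only [map_add, LinearMap.add_apply, h w hwe, h y hey, hwy, D.symm y w] at h3
        exact h2 (by linear_combination h3)
      obtain ⟨l, hl⟩ := hc e z₀ he hee hz0 hz0'
      refine ⟨l, ?_⟩
      -- the singular vector is an eigenvector with the same value
      have hnz : ∀ t : F, D.f₂ (z₀ + t • e) (z₀ + t • e) ≠ 0 := fun t => by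
        simpa [hee, hz0, D.symm z₀ e] using hz0'
      obtain ⟨l1, hl1⟩ := hc e (z₀ + (1 : F) • e) he hee (by simp [hz0, hee]) (hnz 1)
      obtain ⟨l2, hl2⟩ := hc e (z₀ + (-1 : F) • e) he hee (by simp [hz0, hee]) (hnz (-1))
      rw [map_add, map_smul, hl] at hl1 hl2
      have hind : ∀ a c : F, a • z₀ + c • e = 0 → a = 0 ∧ c = 0 := fun a c hac => by
        have e1 := congrArg (fun q => D.f₂ q z₀) hac
        simp [hz0] at e1
        rcases e1 with e1 | e1
        · refine ⟨e1, ?_⟩
          rw [e1, zero_smul, zero_add] at hac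
          exact (smul_eq_zero.1 hac).resolve_right he
        · exact absurd e1 hz0'
      have hSe : S e = l • e := by
        have e12 : (2 * l - l1 - l2) • z₀ + (l2 - l1) • e = 0 := by linear_combination (norm := module) hl1 + hl2
        obtain ⟨h1, h3⟩ := hind _ _ e12
        have hl12 : l1 = l := mul_left_cancel₀ h2 (by linear_combination -h1 - h3)
        rw [hl12] at hl1
        linear_combination (norm := module) hl1
      intro x hx
      by_cases hxx : D.f₂ x x ≠ 0
      · obtain ⟨l', hl'⟩ := hc e x he hee hx hxx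
        by_cases hsum : D.f₂ (x + e) (x + e) ≠ 0
        · obtain ⟨l'', hl''⟩ := hc e (x + e) he hee (by simp [hx, hee]) hsum
          rw [map_add, hl', hSe] at hl''
          have e5 : (l' - l'') • x + (l - l'') • e = 0 := by linear_combination (norm := module) hl''
          have e6 := congrArg (fun q => D.f₂ q x) e5
          simp [hx] at e6
          rcases e6 with e6 | e6
          · rw [e6, zero_smul, zero_add, smul_eq_zero, or_iff_left he, sub_eq_zero] at e5
            rw [hl', sub_eq_zero.1 e6, e5]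
          · exact absurd e6 hxx
        · push Not at hsum
          simp [hee, hx, D.symm x e] at hsum
          exact absurd hsum hxx
      push Not at hxx
      have hplus : ∀ y, D.f₂ e y = 0 → D.f₂ y y ≠ 0 → S y = l • y := by
        intro y hy hyy
        obtain ⟨l', hl'⟩ := hc e y he hee hy hyy
        obtain ⟨l'', hl''⟩ := hc e (y + e) he hee (by simp [hy, hee]) (by simpa [hee, hy, D.symm y e] using hyy)
        rw [map_add, hl', hSe] at hl''
        have e5 : (l' - l'') • y + (l - l'') • e = 0 := by linear_combination (norm := module) hl''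
        have e6 := congrArg (fun q => D.f₂ q y) e5
        simp [hy] at e6
        rcases e6 with e6 | e6
        · rw [e6, zero_smul, zero_add, smul_eq_zero, or_iff_left he, sub_eq_zero] at e5
          rw [hl', sub_eq_zero.1 e6, e5]
        · exact absurd e6 hyy
      by_cases h1 : D.f₂ (x + z₀) (x + z₀) ≠ 0
      · have := hplus (x + z₀) (by simp [hx, hz0]) h1
        rw [map_add, hl, smul_add] at this
        exact add_right_cancel this
      · push Not at h1
        have h4 : D.f₂ (x - z₀) (x - z₀) ≠ 0 := fun h => by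
          simp only [map_add, map_sub, LinearMap.add_apply, LinearMap.sub_apply, D.symm z₀ x, hxx] at h1 h
          exact mul_ne_zero h2 hz0' (by linear_combination h1 + h)
        have := hplus (x - z₀) (by simp [hx, hz0]) h4
        rw [map_sub, hl, smul_sub] at this
        exact sub_left_inj.1 this
    obtain ⟨e, he, hee⟩ := exists_singular (D := D) h2
    obtain ⟨e', hee', he'e⟩ := exists_partner' h2 he hee
    have he' : e' ≠ 0 := fun h => by rw [h, map_zero] at hee'; exact zero_ne_one hee'
    obtain ⟨l, hl⟩ := hperp e he hee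
    obtain ⟨l', hl'⟩ := hperp e' he' he'e
    obtain ⟨w, hw, hw0⟩ := Submodule.exists_mem_ne_zero_of_ne_bot
      (p := LinearMap.ker ((D.f₂ e).prod (D.f₂ e'))) fun h0 => by
        have := LinearMap.finrank_le_finrank_of_injective (LinearMap.ker_eq_bot.1 h0)
        rw [Module.finrank_fintype_fun_eq_card, Fintype.card_fin, Module.finrank_prod, Module.finrank_self] at this
        have := D.three_le
        omega
    obtain ⟨hwe, hwe'⟩ := Prod.ext_iff.1 (LinearMap.mem_ker.1 hw)
    change D.f₂ e w = 0 at hwe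
    change D.f₂ e' w = 0 at hwe'
    obtain rfl : l = l' := smul_left_injective F hw0 ((hl w hwe).symm.trans (hl' w hwe'))
    refine hns ⟨l, fun x => ?_⟩
    have h1 := hl (D.f₂ x e' • e) (by simp [hee])
    have h3 := hl' (x - D.f₂ x e' • e) (by simp [D.symm e' e, hee', D.symm e' x])
    rw [map_sub, h1, smul_sub, sub_left_inj] at h3
    exact h3
  -- the mixed element `z w + w z`
  set γ := D.f₂ z z with hγdef
  set w := S z - (D.f₂ (S z) z / γ) • z with hwdef
  have hw0 : w ≠ 0 := fun h => hSz _ (sub_eq_zero.1 h)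
  have hzw : D.f₂ z w = 0 := by
    rw [hwdef, map_sub, map_smul, smul_eq_mul, D.symm z (S z), ← hγdef, div_mul_cancel₀ _ hz, sub_self]
  have hsym := hS.symm hsp hu
  have hD : D.InS M u (D.dy z w) := by
    set S' := (D.refl z).comp (S.comp (D.refl z)) with hS'
    have hconj : D.InS M u S' := hS.conj_isom hle (D.refl z) (refl_isom hz) fun q => by
      rw [hS', LinearMap.comp_apply, LinearMap.comp_apply, refl_refl hz]
    have h := (hS.add hu hconj.neg).smul h2 hle hu (γ / 2)
    have e : (γ / 2) • (S + -S') = D.dy z w := LinearMap.ext fun q => by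
      simp only [hS', LinearMap.smul_apply, LinearMap.add_apply, LinearMap.neg_apply, LinearMap.comp_apply,
        refl_apply, dy_apply, map_sub, map_smul, LinearMap.sub_apply, LinearMap.smul_apply, smul_eq_mul, hwdef,
        hsym q z]
      rw [← hγdef]
      match_scalars <;> field_simp <;> ring
    rwa [e] at h
  obtain ⟨e', hee', he'e, he'z⟩ := exists_partner h2 he hee hez hz
  -- linearity in the second slot
  have dyadd : ∀ x y, D.InS M u (D.dy z x) → D.InS M u (D.dy z y) → D.InS M u (D.dy z (x + y)) := fun x y hx hy => by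
    have := hx.add hu hy
    rwa [show D.dy z x + D.dy z y = D.dy z (x + y) from LinearMap.ext fun q => by
      rw [LinearMap.add_apply, dy_apply, dy_apply, dy_apply, map_add, smul_add, add_smul]; abel] at this
  have dysmul : ∀ (c : F) x, D.InS M u (D.dy z x) → D.InS M u (D.dy z (c • x)) := fun c x hx => by
    have := hx.smul h2 hle hu c
    rwa [show c • D.dy z x = D.dy z (c • x) from LinearMap.ext fun q => by
      rw [LinearMap.smul_apply, dy_apply, dy_apply, map_smul, smul_eq_mul]; module] at this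
  -- the Siegel trick
  have step : ∀ e, D.f₂ e e = 0 → D.f₂ e z = 0 → ∀ z₂, D.f₂ e z₂ = 0 → D.f₂ z z₂ = 0 → ∀ x,
      D.InS M u (D.dy z x) →
      D.InS M u (D.dy z (D.f₂ x e • z₂ - D.f₂ x z₂ • e - D.f₂ x e • (D.f₂ z₂ z₂ / 2) • e)) := by
    intro e hee hez z₂ hez₂ hzz₂ x hx
    have h := hx.dy_conj hle (D.sieg e z₂) (sieg_isom h2 hee hez₂)
    have hz' : D.sieg e z₂ z = z := by rw [sieg_apply, D.symm z e, hez, hzz₂]; simp
    rw [hz'] at h
    have := dyadd _ _ h (dysmul (-1) x hx)
    convert this using 2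
    rw [sieg_apply]; module
  -- a singular second slot
  obtain ⟨s, hs0, hss, hsz, hsD⟩ : ∃ s, s ≠ 0 ∧ D.f₂ s s = 0 ∧ D.f₂ s z = 0 ∧ D.InS M u (D.dy z s) := by
    have he'0 : e' ≠ 0 := fun h => by rw [h, map_zero] at hee'; exact zero_ne_one hee'
    rcases Nat.lt_or_ge n 4 with hn | hn
    · have hn3 : n = 3 := by have := D.three_le; omega
      have hq : 4 ≤ Fintype.card F := hsmall.resolve_left (by omega)
      -- `w` lies in the hyperbolic plane orthogonal to `z`
      set a := D.f₂ w e'
      set c := D.f₂ w e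
      have hw : w = a • e + c • e' := by
        set d := w - a • e - c • e'
        have hd : ∀ y ∈ ({e, e', z} : Set W₂), D.f₂ d y = 0 := by
          rintro y (rfl | rfl | rfl)
          · simp [d, a, c, hee, D.symm e' y, hee']
          · simp [d, a, c, he'e, hee']
          · simp [d, D.symm w y, hzw, hez, he'z]
        have hind : LinearIndependent F ![e, e', z] := by
          rw [Fintype.linearIndependent_iff]
          intro g hg
          rw [Fin.sum_univ_three] at hg
          have g1 := congrArg (fun q => D.f₂ q e') hg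
          have g2 := congrArg (fun q => D.f₂ q e) hg
          have g3 := congrArg (fun q => D.f₂ q z) hg
          simp [hee, he'e, hee', D.symm e' e, hez, he'z, D.symm z e, D.symm z e', hz] at g1 g2 g3
          intro i
          fin_cases i
          exacts [g1, g2, g3.resolve_right (by simpa using hz)]
        have hspan : Submodule.span F (Set.range ![e, e', z]) = ⊤ := hind.span_eq_top_of_card_eq_finrank (by
          rw [Module.finrank_fintype_fun_eq_card, Fintype.card_fin, Fintype.card_fin, hn3])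
        have hd0 : d = 0 := D.nd₂ _ fun y => by
          have hy : y ∈ Submodule.span F (Set.range ![e, e', z]) := hspan ▸ Submodule.mem_top
          induction hy using Submodule.span_induction with
          | mem y hy =>
            obtain ⟨i, rfl⟩ := hy
            fin_cases i <;> simp [hd]
          | zero => simp
          | add x y _ _ hx hy => rw [map_add, hx, hy, add_zero]
          | smul t x _ hx => rw [map_smul, hx, smul_zero]
        linear_combination (norm := module) hd0
      obtain ⟨t, ht0, ht⟩ : ∃ t : F, t ≠ 0 ∧ t * t ≠ 1 := by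
        classical
        by_contra hc
        push Not at hc
        have hsub : (Finset.univ : Finset F) ⊆ {0, 1, -1} := fun x _ => by
          by_cases hx : x = 0
          · simp [hx]
          · rcases mul_self_eq_one_iff.1 (hc x hx) with h | h <;> simp [h]
        have := (Finset.card_le_card hsub).trans Finset.card_le_three
        rw [Finset.card_univ] at this
        omega
      by_cases ha : a = 0
      · refine ⟨e', he'0, he'e, he'z, ?_⟩
        rw [ha, zero_smul, zero_add] at hw
        have hc : c ≠ 0 := fun h => hw0 (by rw [hw, h, zero_smul])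
        have := dysmul c⁻¹ w hD
        rwa [hw, inv_smul_smul₀ hc] at this
      refine ⟨e, he, hee, hez, ?_⟩
      -- the torus of the plane
      let b : W₂ →ₗ[F] W₂ := LinearMap.id + ((t - 1) • D.f₂.flip e').smulRight e + ((t⁻¹ - 1) • D.f₂.flip e).smulRight e'
      have hb : ∀ q, b q = q + ((t - 1) * D.f₂ q e') • e + ((t⁻¹ - 1) * D.f₂ q e) • e' := fun q => rfl
      have hbi : ∀ q q', D.f₂ (b q) (b q') = D.f₂ q q' := fun q q' => by
        rw [hb, hb]
        simp only [map_add, map_smul, LinearMap.add_apply, LinearMap.smul_apply, smul_eq_mul, hee, he'e, hee',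
          D.symm e' e, D.symm e q', D.symm e' q']
        field_simp
        ring
      have h := hD.dy_conj hle b hbi
      have hbz : b z = z := by rw [hb, D.symm z e, D.symm z e', hez, he'z]; simp
      have hbw : b w = (t * a) • e + (t⁻¹ * c) • e' := by
        rw [hb]
        conv_lhs => arg 1; arg 1; rw [hw]
        module
      rw [hbz, hbw] at h
      have h' := dysmul ((t * t - 1) * a)⁻¹ _ (dyadd _ _ (dysmul t _ h) (dysmul (-1) w hD))
      convert h' using 2
      rw [hw]
      match_scalars
      · have hco := inv_mul_cancel₀ (mul_ne_zero (sub_ne_zero.2 ht) ha)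
        first | linear_combination hco | linear_combination -hco
      · field_simp
        ring
    -- room for a third direction
    have hpick : ∀ e e', e ≠ 0 → D.f₂ e e = 0 → D.f₂ e e' = 1 → D.f₂ e' e' = 0 → D.f₂ e z = 0 → D.f₂ e' z = 0 →
        D.f₂ w e ≠ 0 → D.InS M u (D.dy z e) := by
      intro e e' he hee hee' he'e hez he'z hwe
      obtain ⟨x, hx, hx0⟩ := Submodule.exists_mem_ne_zero_of_ne_bot
        (p := LinearMap.ker (((D.f₂ e).prod (D.f₂ e')).prod (D.f₂ z))) fun h0 => by
          have := LinearMap.finrank_le_finrank_of_injective (LinearMap.ker_eq_bot.1 h0)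
          rw [Module.finrank_fintype_fun_eq_card, Fintype.card_fin, Module.finrank_prod, Module.finrank_prod,
            Module.finrank_self] at this
          omega
      obtain ⟨h12, hxz⟩ := Prod.ext_iff.1 (LinearMap.mem_ker.1 hx)
      obtain ⟨hxe, hxe'⟩ := Prod.ext_iff.1 h12
      change D.f₂ e x = 0 at hxe
      change D.f₂ e' x = 0 at hxe'
      change D.f₂ z x = 0 at hxz
      obtain ⟨x', hx'⟩ := D.exists_one₂ hx0
      set y := x' - D.f₂ x' e' • e - D.f₂ x' e • e' - (D.f₂ x' z / γ) • z
      have hye : D.f₂ e y = 0 := by simp [y, hee, hee', hez, D.symm e x']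
      have hye' : D.f₂ e' y = 0 := by simp [y, he'e, D.symm e' e, hee', he'z, D.symm e' x']
      have hyz : D.f₂ z y = 0 := by
        simp [y, D.symm z e, hez, D.symm z e', he'z, D.symm z x', ← hγdef, hz]
      have hxy : D.f₂ x y = 1 := by
        simp [y, hx', D.symm x e, hxe, D.symm x e', hxe', D.symm x z, hxz]
      obtain ⟨z₂, h1, h2', h3⟩ : ∃ z₂, D.f₂ e z₂ = 0 ∧ D.f₂ z z₂ = 0 ∧ D.f₂ z₂ z₂ ≠ 0 := by
        by_cases hxx : D.f₂ x x ≠ 0
        · exact ⟨x, hxe, hxz, hxx⟩
        by_cases hyy : D.f₂ y y ≠ 0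
        · exact ⟨y, hye, hyz, hyy⟩
        push Not at hxx hyy
        refine ⟨x + y, by rw [map_add, hxe, hye, add_zero], by rw [map_add, hxz, hyz, add_zero], ?_⟩
        simp only [map_add, LinearMap.add_apply, hxx, hyy, hxy, D.symm y x]
        intro h; exact h2 (by linear_combination h)
      have ha := step e hee hez z₂ h1 h2' w hD
      have hb := step e hee hez (-z₂) (by rw [map_neg, h1, neg_zero]) (by rw [map_neg, h2', neg_zero]) w hD
      have hs := dysmul (-(D.f₂ w e * D.f₂ z₂ z₂))⁻¹ _ (dyadd _ _ ha hb)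
      convert hs using 2
      simp only [map_neg, LinearMap.neg_apply, neg_neg]
      match_scalars <;> field_simp <;> ring
    by_cases hwe : D.f₂ w e ≠ 0
    · exact ⟨e, he, hee, hez, hpick e e' he hee hee' he'e hez he'z hwe⟩
    push Not at hwe
    by_cases hwe' : D.f₂ w e' ≠ 0
    · exact ⟨e', he'0, he'e, he'z, hpick e' e he'0 he'e (by rw [D.symm, hee']) hee he'z hez hwe'⟩
    push Not at hwe'
    refine ⟨e, he, hee, hez, ?_⟩
    obtain ⟨x, hx⟩ := D.exists_one₂ hw0
    set z₂ := x - D.f₂ x e • e' - (D.f₂ x z / γ) • z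
    have h1 : D.f₂ e z₂ = 0 := by simp [z₂, hee', hez, D.symm e x]
    have h2' : D.f₂ z z₂ = 0 := by simp [z₂, D.symm z e', he'z, D.symm z x, ← hγdef, hz]
    have h3 : D.f₂ w z₂ = 1 := by simp [z₂, hx, hwe', D.symm w z, hzw]
    have := dysmul (-1) _ (step e hee hez z₂ h1 h2' w hD)
    rwa [hwe, h3, zero_smul, zero_smul, zero_sub, one_smul, sub_zero, neg_one_smul, neg_neg] at this
  refine ⟨s, hs0, hss, fun c => ?_⟩
  have h := hsD.dy_conj hle (D.sieg s z) (sieg_isom h2 hss hsz)
  have hSs : D.sieg s z s = s := by rw [sieg_apply, hss, hsz]; simp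
  have hSz' : D.sieg s z z = z - γ • s := by rw [sieg_apply, D.symm z s, hsz]; simp [← hγdef]
  rw [hSs, hSz'] at h
  have h' := (h.add hu hsD.neg).smul h2 hle hu (-c / (2 * γ))
  convert h' using 1
  refine LinearMap.ext fun q => ?_
  simp only [LinearMap.smul_apply, LinearMap.add_apply, LinearMap.neg_apply, dy_apply, LinearMap.smulRight_apply,
    LinearMap.BilinForm.flip_apply, map_sub, map_smul, smul_eq_mul]
  match_scalars <;> field_simp <;> ring

/-- centres absorb pure combinations -/
theorem centres_combine (hsp : M ≤ Cfsg.spGL m F) {c d : Vec} (hc : c ∈ Symp.centres M) (hd : d ∈ Symp.centres M)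
    (hcd : B c d ≠ 0) (t : F) : c + t • d ∈ Symp.centres M := by
  have h := Symp.centres_map (hsp (hd (t / B c d))) (hd _) hc
  rwa [Symp.spTrv_apply, div_mul_cancel₀ t hcd] at h

/-- a new element of a radical gives the whole group -/
theorem spGL_le_of_radical (h2 : (2 : F) ≠ 0) (hsmall : 4 ≤ n ∨ 4 ≤ Fintype.card F) (hle : D.H ≤ M)
    (hsp : M ≤ Cfsg.spGL m F) {u : W₁} (hu : u ≠ 0) {x : GLm} (hx : x ∈ M) (hxR : x ∈ D.Rad u) (hxH : x ∉ D.H) :
    Cfsg.spGL m F ≤ M := by
  obtain ⟨S, hS, hns⟩ := exists_InS h2 hle hsp hu hx hxR hxH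
  obtain ⟨e₀, he₀, he₀0, hrank⟩ := exists_rank_one h2 hsmall hle hsp hu hS hns
  -- pure centres for singular axes
  have htau : ∀ e, (D.τ u e ∈ Symp.centres M) → ∀ u', u' ≠ 0 → D.τ u' e ∈ Symp.centres M := by
    intro e he u' hu'
    obtain ⟨g, hg, hgu⟩ := exists_moveto (D := D) hu' hu
    rw [← hgu e]
    exact Symp.centres_map (hsp (hle hg)) (hle hg) he
  have h0 : D.τ u e₀ ∈ Symp.centres M := fun c => by
    obtain ⟨g, hg, hgq⟩ := hrank c
    convert hg using 1
    refine gl_ext fun q => ?_
    rw [hgq, Symp.spTrv_apply, LinearMap.smul_apply, LinearMap.smulRight_apply, LinearMap.BilinForm.flip_apply, D.κ_spec,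
      smul_smul, map_smul]
  have h0' : ∀ u', D.τ u' e₀ ∈ Symp.centres M := fun u' => by
    by_cases hu' : u' = 0
    · have h := Symp.centres_smul (0 : F) h0
      rw [zero_smul] at h
      rwa [hu', map_zero, LinearMap.zero_apply]
    · exact htau _ h0 u' hu'
  -- singular vectors not orthogonal to `e₀`
  have hsing : ∀ e, D.f₂ e e = 0 → D.f₂ e₀ e ≠ 0 → ∀ u', D.τ u' e ∈ Symp.centres M := by
    intro e hee hne u'
    have hd : D.f₂ (e₀ - e) (e₀ - e) ≠ 0 := by
      simp only [map_sub, LinearMap.sub_apply, he₀0, hee, D.symm e e₀]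
      intro h
      exact mul_ne_zero h2 hne (by linear_combination -h)
    have hr : D.refl (e₀ - e) e₀ = e := by
      rw [refl_apply]
      have e1 : D.f₂ e₀ (e₀ - e) = - D.f₂ e₀ e := by rw [map_sub, he₀0, zero_sub]
      have e2 : D.f₂ (e₀ - e) (e₀ - e) = -2 * D.f₂ e₀ e := by
        simp only [map_sub, LinearMap.sub_apply, he₀0, hee, D.symm e e₀]; ring
      rw [e1, e2, smul_smul, show -D.f₂ e₀ e * (2 / (-2 * D.f₂ e₀ e)) = 1 by field_simp, one_smul, sub_sub_cancel]
    have h := Symp.centres_map (hsp (hle (D.krOne_mem _ (refl_isom hd)))) (hle (D.krOne_mem _ (refl_isom hd))) (h0' u')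
    rwa [krOne_pure, hr] at h
  -- hyperbolic planes through `e₀`
  have hplane : ∀ e e', (∀ u', D.τ u' e ∈ Symp.centres M) → (∀ u', D.τ u' e' ∈ Symp.centres M) →
      D.f₂ e e = 0 → D.f₂ e' e' = 0 → D.f₂ e e' ≠ 0 → ∀ (a b : F) u', D.τ u' (a • e + b • e') ∈ Symp.centres M := by
    intro e e' he he' hee he'e hne a b u'
    by_cases hu' : u' = 0
    · have h := Symp.centres_smul (0 : F) h0
      rw [zero_smul] at h
      rwa [hu', map_zero, LinearMap.zero_apply]
    by_cases hb : b = 0
    · rw [hb, zero_smul, add_zero, map_smul]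
      exact Symp.centres_smul a (he u')
    obtain ⟨a', ha'⟩ := D.exists_one₁ hu'
    have hd : D.τ a' e ∈ Symp.centres M := he a'
    -- move along `d` first
    have h1 : D.τ (a • u' + a') e + b • D.τ u' e' ∈ Symp.centres M :=
      centres_combine hsp (he _) (he' _) (by
        rw [D.pair, map_add, LinearMap.add_apply, map_smul, LinearMap.smul_apply, D.alt, ha', smul_zero, zero_add, one_mul]
        exact hne) b
    have h3 := centres_combine hsp h1 hd (by
      rw [map_add, LinearMap.add_apply, map_smul, LinearMap.smul_apply, D.pair, D.pair, hee, mul_zero, zero_add,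
        D.symm e' e, D.swap₁ a' u', ha', smul_eq_mul]
      exact mul_ne_zero hb (mul_ne_zero (neg_ne_zero.2 one_ne_zero) hne)) (-1)
    convert h3 using 1
    simp only [map_add, map_smul, LinearMap.add_apply, LinearMap.smul_apply]
    module
  have hall : ∀ y u', D.τ u' y ∈ Symp.centres M := by
    have hoff : ∀ e, (∀ u', D.τ u' e ∈ Symp.centres M) → D.f₂ e e = 0 → ∀ e', (∀ u', D.τ u' e' ∈ Symp.centres M) →
        D.f₂ e' e' = 0 → D.f₂ e e' ≠ 0 → ∀ y, y = (D.f₂ y e' / D.f₂ e e') • e + (D.f₂ y e / D.f₂ e e') • e' →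
        ∀ u', D.τ u' y ∈ Symp.centres M := fun e he hee e' he' he'e hne y hy u' => by
      rw [hy]; exact hplane e e' he he' hee he'e hne _ _ u'
    -- the vectors not orthogonal to `e₀`
    have hfar : ∀ y, D.f₂ e₀ y ≠ 0 → ∀ u', D.τ u' y ∈ Symp.centres M := by
      intro y hy u'
      set e' := y - (D.f₂ y y / (2 * D.f₂ e₀ y)) • e₀
      have h1 : D.f₂ e₀ e' = D.f₂ e₀ y := by simp [e', he₀0]
      have h3 : D.f₂ e' e' = 0 := by
        simp only [e', map_sub, map_smul, LinearMap.sub_apply, LinearMap.smul_apply, smul_eq_mul, he₀0, D.symm y e₀]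
        field_simp
        ring
      have h4 := hplane e₀ e' h0' (hsing e' h3 (by rwa [h1])) he₀0 h3 (by rwa [h1]) (D.f₂ y y / (2 * D.f₂ e₀ y)) 1 u'
      rwa [one_smul, add_sub_cancel] at h4
    intro y u'
    by_cases hy : D.f₂ e₀ y ≠ 0
    · exact hfar y hy u'
    push Not at hy
    obtain ⟨e', hee', he'e⟩ := exists_partner' h2 he₀ he₀0
    by_cases hy0 : y = 0
    · rw [hy0, map_zero]
      have h := Symp.centres_smul (0 : F) h0
      rwa [zero_smul] at h
    by_cases hye : ∀ z, D.f₂ e₀ z = 0 → D.f₂ e' z = 0 → D.f₂ y z = 0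
    · by_cases hye' : D.f₂ e' y = 0
      · exfalso
        refine hy0 (D.nd₂ _ fun z => ?_)
        have h := hye (z - D.f₂ z e' • e₀ - D.f₂ z e₀ • e') (by simp [he₀0, hee', D.symm e₀ z])
          (by simp [he'e, D.symm e' e₀, hee', D.symm e' z])
        simpa [D.symm y e₀, hy, D.symm y e', hye'] using h
      · -- a multiple of the first vector
        refine hoff e₀ h0' he₀0 e' (hsing e' he'e (by rw [hee']; exact one_ne_zero)) he'e
          (by rw [hee']; exact one_ne_zero) y (sub_eq_zero.1 (D.nd₂ _ fun z => ?_)) u'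
        have h := hye (z - D.f₂ z e' • e₀ - D.f₂ z e₀ • e') (by simp [he₀0, hee', D.symm e₀ z])
          (by simp [he'e, D.symm e' e₀, hee', D.symm e' z])
        simp only [map_sub, map_smul, smul_eq_mul] at h
        simp only [hee', div_one, map_sub, map_add, map_smul, LinearMap.sub_apply, LinearMap.add_apply,
          LinearMap.smul_apply, smul_eq_mul, D.symm y e₀, hy, D.symm e₀ z, D.symm e' z] at h ⊢
        linear_combination h
    push Not at hye
    obtain ⟨z₀, hz₀, hz₀', hyz⟩ := hye
    set z := ((1 - D.f₂ e' y) / D.f₂ y z₀) • z₀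
    set e := e' + z - (D.f₂ z z / 2) • e₀
    have h1 : D.f₂ e₀ e = 1 := by simp [e, z, hee', hz₀, he₀0]
    have h3 : D.f₂ e e = 0 := by
      have q1 : D.f₂ e₀ z = 0 := by simp [z, hz₀]
      have q2 : D.f₂ e' z = 0 := by simp [z, hz₀']
      simp only [e, map_sub, map_add, map_smul, LinearMap.sub_apply, LinearMap.add_apply, LinearMap.smul_apply,
        smul_eq_mul, he₀0, hee', he'e, q1, q2, D.symm e' e₀, D.symm z e₀, D.symm z e']
      field_simp
      ring
    have h4 : D.f₂ e y = 1 := by
      simp only [e, z, map_sub, map_add, map_smul, LinearMap.sub_apply, LinearMap.add_apply, LinearMap.smul_apply,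
        smul_eq_mul, hy, D.symm z₀ y]
      field_simp
      ring
    -- the plane through `e` and `y`
    set f := y - (D.f₂ y y / 2) • e
    have h5 : D.f₂ f f = 0 := by
      simp only [f, map_sub, map_smul, LinearMap.sub_apply, LinearMap.smul_apply, smul_eq_mul, h3, h4, D.symm y e]
      field_simp
      ring
    have hne2 : (∀ u', D.τ u' e ∈ Symp.centres M) := hsing e h3 (by rw [h1]; exact one_ne_zero)
    by_cases hf : D.f₂ e₀ f ≠ 0
    · have h6 := hplane e f hne2 (hsing f h5 hf) h3 h5 (by simp [f, h3, h4]) (D.f₂ y y / 2) 1 u'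
      rwa [one_smul, add_sub_cancel] at h6
    · -- `y` is singular
      push Not at hf
      simp only [f, map_sub, map_smul, hy, h1, smul_eq_mul, mul_one, zero_sub, neg_eq_zero] at hf
      have hyy : D.f₂ y y = 0 := (div_eq_zero_iff.1 hf).resolve_right h2
      -- carry `e` to `y` by a reflection
      have hd : D.f₂ (e - y) (e - y) ≠ 0 := by
        simp only [map_sub, LinearMap.sub_apply, h3, hyy, h4, D.symm y e]
        intro h; exact h2 (by linear_combination -h)
      have hr : D.refl (e - y) e = y := by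
        rw [refl_apply]
        have e1 : D.f₂ e (e - y) = -1 := by rw [map_sub, h3, h4, zero_sub]
        have e2 : D.f₂ (e - y) (e - y) = -2 := by
          simp only [map_sub, LinearMap.sub_apply, h3, hyy, h4, D.symm y e]; ring
        rw [e1, e2, smul_smul, show (-1 : F) * (2 / -2) = 1 by field_simp, one_smul, sub_sub_cancel]
      have h := Symp.centres_map (hsp (hle (D.krOne_mem _ (refl_isom hd)))) (hle (D.krOne_mem _ (refl_isom hd))) (hne2 u')
      rwa [krOne_pure, hr] at h
  -- orthogonal blocks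
  haveI : Invertible (2 : F) := invertibleOfNonzero h2
  obtain ⟨b, hb⟩ := LinearMap.BilinForm.exists_orthogonal_basis (show LinearMap.IsSymm D.f₂ from ⟨fun x y => by simpa using D.symm x y⟩)
  have hbo : ∀ i j, i ≠ j → D.f₂ (b i) (b j) = 0 := fun i j hij => hb hij
  have hbb : ∀ i, D.f₂ (b i) (b i) ≠ 0 := fun i h => b.ne_zero i (D.nd₂ _ fun y => by
    rw [← b.sum_repr y, map_sum]
    refine Finset.sum_eq_zero fun l _ => ?_
    rw [map_smul]
    rcases eq_or_ne i l with rfl | h'
    · rw [h, smul_zero]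
    · rw [hbo i l h', smul_zero])
  classical
  have hB : ∀ (a : Fin (Module.finrank F W₂) → W₁) (i) (a'), B (∑ l, D.τ (a l) (b l)) (D.τ a' (b i)) =
      D.f₂ (b i) (b i) * D.f₁ (a i) a' := fun a i a' => by
    rw [map_sum, LinearMap.sum_apply, Finset.sum_eq_single i (fun l _ hl => by rw [D.pair, hbo l i hl, mul_zero])
      (by simp), D.pair, mul_comm]
  have main : ∀ (N : ℕ) (a : Fin (Module.finrank F W₂) → W₁), (Finset.univ.filter fun i => a i ≠ 0).card ≤ N →
      ∑ i, D.τ (a i) (b i) ∈ Symp.centres M := by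
    intro N
    induction N with
    | zero =>
      intro a ha
      have h0a : ∀ i, a i = 0 := fun i => by
        by_contra hi
        have hpos := Finset.card_pos.2 ⟨i, (Finset.mem_filter (p := fun i => a i ≠ 0)).2 ⟨Finset.mem_univ _, hi⟩⟩
        omega
      simp only [h0a, map_zero, LinearMap.zero_apply, Finset.sum_const_zero]
      have h := Symp.centres_smul (0 : F) h0
      rwa [zero_smul] at h
    | succ N ih =>
      intro a ha
      by_cases hsupp : (Finset.univ.filter fun i => a i ≠ 0).card ≤ 1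
      · rw [Finset.card_le_one] at hsupp
        by_cases hex : ∃ i, a i ≠ 0
        · obtain ⟨i, hi⟩ := hex
          rw [Finset.sum_eq_single i (fun l _ hl => by
            have : a l = 0 := by_contra fun h => hl (hsupp l (by simp [h]) i (by simp [hi]))
            rw [this, map_zero, LinearMap.zero_apply]) (by simp)]
          exact hall _ _
        · push Not at hex
          simp only [hex, map_zero, LinearMap.zero_apply, Finset.sum_const_zero]
          have h := Symp.centres_smul (0 : F) h0
          rwa [zero_smul] at h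
      obtain ⟨i, hi, j, hj, hij⟩ := Finset.one_lt_card.1 (by omega : 1 < (Finset.univ.filter fun i => a i ≠ 0).card)
      simp only [Finset.mem_filter, Finset.mem_univ, true_and] at hi hj
      -- reduce to non-orthogonal coefficients
      have key : ∀ a : Fin (Module.finrank F W₂) → W₁, (Finset.univ.filter fun l => a l ≠ 0).card ≤ N + 1 →
          a i ≠ 0 → a j ≠ 0 → D.f₁ (a j) (a i) ≠ 0 → ∑ l, D.τ (a l) (b l) ∈ Symp.centres M := by
        intro a ha hi hj hne
        set x := ∑ l, D.τ (a l) (b l) with hxdef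
        set d := D.τ (a i) (b i + b j) with hddef
        set a' : Fin (Module.finrank F W₂) → W₁ := fun l => a l - if l = i ∨ l = j then a i else 0 with ha'
        have hx' : x - d = ∑ l, D.τ (a' l) (b l) := by
          simp only [hxdef, hddef, ha', map_sub, LinearMap.sub_apply, Finset.sum_sub_distrib]
          congr 1
          rw [Finset.sum_eq_add i j hij (fun l _ hl => by rw [if_neg (by tauto), map_zero, LinearMap.zero_apply])
            (by simp) (by simp), if_pos (Or.inl rfl), if_pos (Or.inr rfl), map_add]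
        have hcard : (Finset.univ.filter fun l => a' l ≠ 0).card ≤ N := by
          have hsub : (Finset.univ.filter fun l => a' l ≠ 0) ⊆ (Finset.univ.filter fun l => a l ≠ 0).erase i := by
            intro l hl
            simp only [Finset.mem_filter, Finset.mem_univ, true_and, Finset.mem_erase, ha'] at hl ⊢
            by_cases hli : l = i
            · exact absurd (by rw [hli, if_pos (Or.inl rfl), sub_self]) hl
            refine ⟨hli, fun h => ?_⟩
            by_cases hlj : l = j
            · exact hj (hlj ▸ h)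
            · rw [h, if_neg (by tauto), sub_zero] at hl
              exact hl rfl
          have := Finset.card_le_card hsub
          rw [Finset.card_erase_of_mem (by simp [hi])] at this
          omega
        have hc := ih a' hcard
        rw [← hx'] at hc
        have hd : d ∈ Symp.centres M := hall _ _
        have hBd : B (x - d) d ≠ 0 := by
          rw [map_sub, LinearMap.sub_apply, hddef, Symp.B_self, sub_zero, map_add, map_add, hxdef, hB, hB, D.alt,
            mul_zero, zero_add]
          exact mul_ne_zero (hbb j) hne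
        have := centres_combine hsp hc hd hBd 1
        rwa [one_smul, sub_add_cancel] at this
      by_cases hne : D.f₁ (a j) (a i) ≠ 0
      · exact key a ha hi hj hne
      push Not at hne
      obtain ⟨c₁, hc₁⟩ := D.exists_one₁ hi
      obtain ⟨c₂, hc₂⟩ := D.exists_one₁ hj
      obtain ⟨c, hc, hc'⟩ : ∃ c, D.f₁ (a i) c ≠ 0 ∧ D.f₁ (a j) c ≠ 0 := by
        have hi' : D.f₁ (a i) c₁ = -1 := by rw [D.swap₁, hc₁]
        have hj' : D.f₁ (a j) c₂ = -1 := by rw [D.swap₁, hc₂]
        by_cases h1 : D.f₁ (a j) c₁ ≠ 0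
        · exact ⟨c₁, by rw [hi']; exact neg_ne_zero.2 one_ne_zero, h1⟩
        by_cases h3 : D.f₁ (a i) c₂ ≠ 0
        · exact ⟨c₂, h3, by rw [hj']; exact neg_ne_zero.2 one_ne_zero⟩
        push Not at h1 h3
        exact ⟨c₁ + c₂, by rw [map_add, hi', h3, add_zero]; exact neg_ne_zero.2 one_ne_zero,
          by rw [map_add, h1, hj', zero_add]; exact neg_ne_zero.2 one_ne_zero⟩
      set a' : Fin (Module.finrank F W₂) → W₁ := Function.update a i (a i + c) with ha'
      have hai : a' i = a i + c := Function.update_self ..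
      have haj : a' j = a j := Function.update_of_ne hij.symm ..
      have hi0 : a' i ≠ 0 := fun h => hc' (by
        rw [hai, add_eq_zero_iff_neg_eq] at h
        rw [← h, map_neg, hne, neg_zero])
      have hcard : (Finset.univ.filter fun l => a' l ≠ 0).card ≤ N + 1 := by
        refine le_trans (le_of_eq (congrArg Finset.card (Finset.filter_congr fun l _ => ?_))) ha
        rcases eq_or_ne l i with rfl | h
        · exact iff_of_true hi0 hi
        · rw [ha', Function.update_of_ne h]
      have hx := key a' hcard hi0 (by rwa [haj]) (by rw [hai, haj, map_add, hne, zero_add]; exact hc')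
      have heq : ∑ l, D.τ (a' l) (b l) = (∑ l, D.τ (a l) (b l)) + D.τ c (b i) := by
        rw [← Finset.add_sum_erase _ _ (Finset.mem_univ i),
          ← Finset.add_sum_erase _ (fun l => D.τ (a l) (b l)) (Finset.mem_univ i), hai,
          Finset.sum_congr rfl fun l hl => show D.τ (a' l) (b l) = D.τ (a l) (b l) by
            rw [ha', Function.update_of_ne (Finset.ne_of_mem_erase hl)], map_add, LinearMap.add_apply]
        abel
      have hd : D.τ c (b i) ∈ Symp.centres M := hall _ _
      have hBd : B (∑ l, D.τ (a' l) (b l)) (D.τ c (b i)) ≠ 0 := by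
        rw [hB, hai, map_add, LinearMap.add_apply, D.alt, add_zero]
        exact mul_ne_zero (hbb i) hc
      have := centres_combine hsp hx hd hBd (-1)
      rwa [heq, neg_one_smul, add_neg_cancel_right] at this
  refine Symp.spGL_le_of_centres fun q => ?_
  set a : Fin (Module.finrank F W₂) → W₁ := fun i => (D.f₂ (b i) (b i))⁻¹ • D.κ' (b i) q with ha
  have hq : q = ∑ i, D.τ (a i) (b i) := by
    refine D.pair_ext fun x y => ?_
    have key : LinearMap.comp (B q) (D.τ x) = LinearMap.comp (B (∑ i, D.τ (a i) (b i))) (D.τ x) :=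
      b.ext fun i => by
        rw [LinearMap.comp_apply, LinearMap.comp_apply, hB, ha]
        simp only [map_smul, LinearMap.smul_apply, smul_eq_mul, D.κ'_spec]
        field_simp [hbb i]
    exact LinearMap.congr_fun key y
  rw [hq]
  exact main _ a le_rfl

end Data

end Cfsg.Agent.Forms.Max.SympTensor
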