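import Cfsg.Agent.Lib.Forms.Max.SympTensor.TwoField

/-!
# `W₁ ⊗ W₂` with `W₁` of dimension two and at least five scalars
-/

set_option autoImplicit false
set_option linter.unusedSectionVars false

namespace Cfsg.Agent.Forms.Max.SympTensor

open Matrix Cfsg.Agent.Forms.SympStd
open scoped MatrixGroups

variable {F : Type*} [Field F] {m n : ℕ}

local notation "Vec" => (Fin m ⊕ Fin m → F)
local notation "GLm" => GL (Fin m ⊕ Fin m) F
local notation "Mat" => Matrix (Fin m ⊕ Fin m) (Fin m ⊕ Fin m) F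
local notation "B" => sympB m F
local notation "W₁" => (Fin 2 → F)
local notation "W₂" => (Fin n → F)

theorem upper_pow {E : Type*} [Field E] {X : SL(2, E)} (h : X.1 1 0 = 0) (i : ℕ) :
    (X ^ i).1 1 0 = 0 ∧ (X ^ i).1 0 0 = X.1 0 0 ^ i := by
  induction i with
  | zero => simp
  | succ i ih =>
    rw [pow_succ, Matrix.SpecialLinearGroup.coe_mul, Matrix.mul_apply, Matrix.mul_apply, Fin.sum_univ_two,
      Fin.sum_univ_two, ih.1, ih.2, h, zero_mul, mul_zero, zero_add, mul_zero, add_zero, pow_succ]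
    exact ⟨rfl, rfl⟩

namespace Data

variable {D : Data F m 2 n} [Fintype F] {M : Subgroup (GL (Fin m ⊕ Fin m) F)}

/-- an eigenvector in `u ⊗ W₂` with non-zero rational eigenvalue -/
theorem Tight.exists_eigen (hM : D.Tight M) (p : ℕ) [Fact p.Prime] [CharP F p] (hp2 : p ≠ 2) (hex : D.Generic)
    (hA5 : Fintype.card F ≠ 3) {g : GLm} (hg : g ∈ M) (hgH : g ∉ D.H) {u : W₁} (hu : u ≠ 0) :
    ∃ (K : CompData F (Fin m ⊕ Fin m) (D.dis u) (D.cdis g u)) (l : F) (y : W₂),
      algebraMap F (AdjoinRoot K.π) l = K.lam ∧ l ≠ 0 ∧ y ≠ 0 ∧ D.τ u y = K.v ∧ D.central g u y = l • y := by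
  have h2 : (2 : F) ≠ 0 := Ring.two_ne_zero (by rwa [ringChar.eq F p])
  obtain ⟨K, x, hx⟩ := CompData.exists_of_not_nilpotent (D.dis_sq u) (D.cdis_sq g u)
    (hM.not_nilpotent p h2 hex hg hgH hu)
  obtain ⟨l, hl⟩ := hM.lam_rational p hp2 hex hA5 hg hu K
  have hy : D.τ u (D.κ u x) = K.v := by rw [← D.dis_mulVec, hx]
  refine ⟨K, l, D.κ u x, hl, fun e => K.lam_ne_zero (by rw [← hl, e, map_zero]), fun e => K.v_ne ?_, hy, ?_⟩
  · rw [← hy, e, map_zero]
  · refine sub_eq_zero.1 (D.tau_right hu ?_)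
    have hv : K.emb (1, 0) = K.v := by rw [K.emb_apply, map_zero, add_zero, Comp.ψ_one K.monic K.hπ]
    rw [map_sub, map_smul, ← D.cen_tau, hy, ← hv, K.C_emb, mul_zero, mul_one, ← hl,
      Algebra.algebraMap_eq_smul_one, show ((l • (1 : AdjoinRoot K.π), (0 : AdjoinRoot K.π))) =
        l • ((1 : AdjoinRoot K.π), (0 : AdjoinRoot K.π)) by rw [Prod.smul_mk, smul_zero], map_smul, sub_self]

/-- the central map has no kernel -/
theorem Tight.central_inj (hM : D.Tight M) (p : ℕ) [Fact p.Prime] [CharP F p] (hp2 : p ≠ 2) (hex : D.Generic)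
    (h5 : 4 ≤ Fintype.card F) {g : GLm} (hg : g ∈ M) (hgH : g ∉ D.H) {u : W₁} (hu : u ≠ 0) {y₀ : W₂}
    (hy₀ : D.central g u y₀ = 0) : y₀ = 0 := by
  classical
  by_contra hne
  have h2 : (2 : F) ≠ 0 := Ring.two_ne_zero (by rwa [ringChar.eq F p])
  obtain ⟨K, l, -, hl, hl0, -, -, -⟩ := hM.exists_eigen p hp2 hex (by omega) hg hgH hu
  haveI := K.charP_root p
  set E := AdjoinRoot K.π
  set φ := algebraMap F E with hφ
  -- a scalar whose square is not one
  obtain ⟨μ, hμ0, hμ⟩ : ∃ μ : F, μ ≠ 0 ∧ μ * μ ≠ 1 := by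
    by_contra hc
    push Not at hc
    have hsub : (Finset.univ : Finset F) ⊆ {0, 1, -1} := fun x _ => by
      by_cases hx : x = 0
      · simp [hx]
      · rcases mul_self_eq_one_iff.1 (hc x hx) with h | h <;> simp [h]
    have := (Finset.card_le_card hsub).trans Finset.card_le_three
    rw [Finset.card_univ] at this
    omega
  let d : SL(2, F) := ⟨!![μ, 0; 0, μ⁻¹], by simp [det_fin_two, hμ0]⟩
  have hdc : (Matrix.SpecialLinearGroup.map φ d : SL(2, E)).1 = !![φ μ, 0; 0, (φ μ)⁻¹] := by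
    show (d : Matrix (Fin 2) (Fin 2) F).map φ = _
    ext a b
    fin_cases a <;> fin_cases b <;> simp [d]
  have hd : Matrix.SpecialLinearGroup.map φ d ∈ K.image := by
    have htop := DicksonField.eq_top_of_uni_low (K := F) (K.image.comap (Matrix.SpecialLinearGroup.map φ))
      (fun c => by
        have hcl : (c / l) • K.lam = φ c := by
          rw [Algebra.smul_def, ← hl, ← map_mul, div_mul_cancel₀ c hl0]
        have e : Matrix.SpecialLinearGroup.map φ (Classical.GL2.uniSL c) = Classical.GL2.uniSL ((c / l) • K.lam) := by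
          rw [hcl]
          refine Subtype.ext (Matrix.ext fun a b => ?_)
          fin_cases a <;> fin_cases b <;> simp [Classical.GL2.coe_uniSL]
        rw [Subgroup.mem_comap, e]; exact K.uni_mem _)
      (fun c => by
        have e : Matrix.SpecialLinearGroup.map φ (Classical.GL2.lowSL c) = Classical.GL2.lowSL (φ c) := by
          refine Subtype.ext (Matrix.ext fun a b => ?_)
          fin_cases a <;> fin_cases b <;> simp [Classical.GL2.coe_lowSL]
        rw [Subgroup.mem_comap, e]; exact K.low_mem _)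
    exact htop.ge (Subgroup.mem_top d)
  obtain ⟨g₀, hg₀, hact₀⟩ := K.mem_image.1 hd
  -- the transvections and their conjugates among the unipotent elements
  have hfam : IsPGroup p ((D.fam u).subgroupOf K.upper) :=
    (isPGroup_fam p u).comap_of_injective _ Subtype.val_injective
  have hconj : ∀ t, g₀ * D.T u t * g₀⁻¹ ∈ K.upper := fun t => by
    refine ⟨mul_mem (mul_mem hg₀ (D.T_mem_pairGroup g u t)) (inv_mem hg₀), φ μ * (t • K.lam) * φ μ, ?_⟩
    have h := (hact₀.mul K (K.acts_of_e (D.T_coe u t))).mul K (hact₀.inv K)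
    suffices e : Matrix.SpecialLinearGroup.map φ d * Classical.GL2.uniSL (t • K.lam) *
        (Matrix.SpecialLinearGroup.map φ d)⁻¹ = Classical.GL2.uniSL (φ μ * (t • K.lam) * φ μ) by rwa [e] at h
    rw [mul_inv_eq_iff_eq_mul]
    refine Subtype.ext (Matrix.ext fun a b => ?_)
    fin_cases a <;> fin_cases b <;>
      simp [Matrix.SpecialLinearGroup.coe_mul, hdc, Classical.GL2.coe_uniSL, Matrix.mul_apply, Fin.sum_univ_two]
    rw [mul_inv_cancel_right₀ (show φ μ ≠ 0 from fun h => hμ0 (φ.injective (h.trans (map_zero φ).symm)))]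
  let ψ : Multiplicative F →* K.upper := MonoidHom.mk' (fun t => ⟨_, hconj t.toAdd⟩) fun s t => Subtype.ext (by
    show g₀ * D.T u (s * t).toAdd * g₀⁻¹ = g₀ * D.T u s.toAdd * g₀⁻¹ * (g₀ * D.T u t.toAdd * g₀⁻¹)
    rw [toAdd_mul, ← D.T_mul]; group)
  have hψ : IsPGroup p ψ.range := by
    rintro ⟨_, t, rfl⟩
    refine ⟨1, Subtype.ext ?_⟩
    rw [Subgroup.coe_pow, pow_one, ← map_pow, Subgroup.coe_one, show t ^ p = 1 from
      Multiplicative.toAdd.injective (by simp [CharP.cast_eq_zero]), map_one]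
  obtain ⟨S, hS⟩ := hfam.exists_le_sylow
  obtain ⟨S', hS'⟩ := hψ.exists_le_sylow
  obtain ⟨c, hc⟩ := MulAction.exists_smul_eq K.upper S' S
  set g₁ : GLm := (c : GLm) * g₀
  obtain ⟨hcG, sc, hsc⟩ := c.2
  set R : Subgroup GLm := (S : Subgroup K.upper).map K.upper.subtype
  have hR : IsPGroup p R := S.isPGroup'.map _
  have hRM : R ≤ M := by
    rintro _ ⟨x, -, rfl⟩
    exact hM.pairGroup_le hg u x.2.1
  have hTR : ∀ t, D.T u t ∈ R := fun t =>
    ⟨⟨_, T_mem_upper K t⟩, hS (Subgroup.mem_subgroupOf.2 ⟨t, rfl⟩), rfl⟩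
  have hg₁R : g₁ * D.T u 1 * g₁⁻¹ ∈ R := by
    refine ⟨c * ψ (.ofAdd 1) * c⁻¹, ?_, ?_⟩
    · show c * ψ (.ofAdd 1) * c⁻¹ ∈ (S : Subgroup K.upper)
      rw [← hc, Sylow.coe_subgroup_smul, Subgroup.mem_pointwise_smul_iff_inv_smul_mem]
      simp only [MulAut.smul_def, MulAut.conj_inv_apply]
      simpa [mul_assoc] using hS' ⟨.ofAdd 1, rfl⟩
    · show ((c : GLm) * (g₀ * D.T u 1 * g₀⁻¹) * (c : GLm)⁻¹) = g₁ * D.T u 1 * g₁⁻¹
      simp only [g₁]; group
  have hg₁G : g₁ ∈ D.pairGroup g u := mul_mem hcG hg₀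
  have hg₁H : g₁ ∈ D.H := hM.mem_of_conj p h2 hex (hM.pairGroup_le hg u hg₁G) hu
    (hM.mem_of_pgroup p h2 hex hR hRM hu (hTR 1) hg₁R)
  obtain ⟨hs₁, a, b, hab⟩ := hg₁H
  obtain ⟨ν, hν, hν1, -⟩ := D.exists_multiplier hs₁ hab
  have hconjT := D.conj_T hab hν hν1 u 1
  rw [hconjT] at hg₁R
  obtain ⟨-, hLst⟩ := hM.stab_of_pgroup p hp2 hex hR hRM hu hTR hg₁R
  obtain ⟨y₁, hy₁⟩ := D.exists_ne₂
  obtain ⟨δ, hδ⟩ : ∃ δ : F, a u = δ • u := by
    have hd' : D.f₁ (a u) u = 0 := by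
      obtain ⟨z, hz⟩ := hLst y₁
      have e := congrArg (D.κ u) hz
      rw [D.κ_pure, D.alt, zero_smul, D.T_pure, map_add, map_smul, LinearMap.add_apply, LinearMap.smul_apply,
        map_add, map_smul, D.κ_pure, D.κ_pure, D.alt, zero_smul, zero_add, smul_smul] at e
      rcases mul_eq_zero.1 ((smul_eq_zero.1 e.symm).resolve_right hy₁) with h | h
      · rw [D.swap₁, (mul_eq_zero.1 h).resolve_left (div_ne_zero one_ne_zero hν), neg_zero]
      · exact h
    exact D.prop_two hu hd'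
  rw [hδ, D.T_smul] at hconjT
  set κ₁ := 1 / ν * δ * δ
  -- the part of order prime to `p`
  have hact₁ := hsc.mul K hact₀
  set X₁ := Classical.GL2.uniSL sc * Matrix.SpecialLinearGroup.map φ d
  have hX10 : X₁.1 1 0 = 0 := by
    simp [X₁, hdc, Matrix.SpecialLinearGroup.coe_mul, Matrix.mul_apply, Fin.sum_univ_two, Classical.GL2.coe_uniSL]
  have hX00 : X₁.1 0 0 = φ μ := by
    simp [X₁, hdc, Matrix.SpecialLinearGroup.coe_mul, Matrix.mul_apply, Fin.sum_univ_two, Classical.GL2.coe_uniSL]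
  obtain ⟨i, j, hj, ho⟩ := Nat.exists_eq_pow_mul_and_not_dvd (orderOf_pos g₁).ne' p (Fact.out : p.Prime).ne_one
  set g₂ := g₁ ^ p ^ i
  have hg₂G : g₂ ∈ D.pairGroup g u := pow_mem hg₁G _
  have hg₂j : g₂ ^ j = 1 := by rw [← pow_mul, ← ho, pow_orderOf_eq_one]
  have hact₂ := hact₁.pow K (p ^ i)
  have hit : ∀ (r : ℕ) (t : F), g₁ ^ r * D.T u t * (g₁ ^ r)⁻¹ = D.T u (κ₁ ^ r * t) := by
    have hbase : ∀ t, g₁ * D.T u t * g₁⁻¹ = D.T u (κ₁ * t) := fun t => by
      rw [D.conj_T hab hν hν1, hδ, D.T_smul]; congr 1; simp only [κ₁]; ring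
    intro r
    induction r with
    | zero => simp
    | succ r ih =>
      intro t
      rw [pow_succ', _root_.mul_inv_rev, show ∀ A P Q R : GLm, A * P * Q * (R * A⁻¹) = A * (P * Q * R) * A⁻¹ from
        fun A P Q R => by group, ih, hbase]
      congr 1
      rw [pow_succ']
      ring
  -- a fixed vector with non-zero contraction
  have he := D.dis_sq u
  have hf := D.cdis_sq g u
  set C := Pair.cen (D.dis u) (D.cdis g u) with hC
  obtain ⟨N, hN3, hinj, hdec⟩ := exists_fitting C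
  obtain ⟨v, hv⟩ := D.exists_one₁ hu
  obtain ⟨x, q, hxq, hx⟩ := hdec (D.τ v y₀)
  have hec : D.dis u * C ^ N = C ^ N * D.dis u := ((Pair.comm_cen_left he hf).pow_right N).eq
  have hu0 : C ^ N *ᵥ D.τ u y₀ = 0 := by
    obtain ⟨N', rfl⟩ : ∃ N', N = N' + 1 := ⟨N - 1, by omega⟩
    rw [hC, D.cen_pow_tau, pow_succ, Module.End.mul_apply, hy₀, map_zero, map_zero]
  have hdx : D.dis u *ᵥ x = D.τ u y₀ := by
    have e : D.dis u *ᵥ x + C ^ N *ᵥ (D.dis u *ᵥ q) = D.τ u y₀ := by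
      rw [Matrix.mulVec_mulVec, ← hec, ← Matrix.mulVec_mulVec, ← Matrix.mulVec_add, ← hxq, D.dis_mulVec,
        D.κ_pure, hv, one_smul]
    have h0 : C ^ N *ᵥ (D.dis u *ᵥ q) = 0 := by
      refine hinj _ ?_
      have := congrArg (fun w => C ^ N *ᵥ w) e
      rw [hu0, Matrix.mulVec_add, Matrix.mulVec_mulVec _ (C ^ N) (D.dis u), ← hec, ← Matrix.mulVec_mulVec, hx,
        Matrix.mulVec_zero, zero_add] at this
      exact this
    rwa [h0, add_zero] at e
  have hfix : ∀ w, C ^ N *ᵥ w = 0 → (g₂ : Mat) *ᵥ w = w := by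
    intro w hw
    obtain ⟨Y, hY, hsq⟩ := Pair.sq_sub_one he hf hg₂G
    have hYg : Commute (Y * (g₂ : Mat)) C :=
      Commute.mul_left ((Pair.comm_of_mem he hf hY).2.2) (Pair.comm_cenAlg he hf hg₂G Pair.cen_mem).symm
    haveI := D.nonempty_index
    haveI : CharP Mat p := charP_of_injective_algebraMap (algebraMap F Mat).injective p
    obtain ⟨r, hr⟩ : ∃ r, 2 * N ≤ p ^ r := ⟨2 * N, (Nat.lt_pow_self (Fact.out : p.Prime).one_lt).le⟩
    have h0 : ((g₂ : Mat) - 1) ^ (p ^ r) *ᵥ w = 0 := by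
      obtain ⟨s, hs⟩ := Nat.exists_eq_add_of_le hr
      rw [hs, add_comm, pow_add, ← Matrix.mulVec_mulVec, pow_mul, hsq, mul_assoc,
        hYg.symm.mul_pow, ← (hYg.pow_pow N N).eq, ← Matrix.mulVec_mulVec, hw, Matrix.mulVec_zero,
        Matrix.mulVec_zero]
    rw [sub_pow_char_pow_of_commute (p := p) (n := r) (Commute.one_right (g₂ : Mat)), one_pow, Matrix.sub_mulVec, Matrix.one_mulVec,
      sub_eq_zero, ← Units.val_pow_eq_pow_val] at h0
    obtain ⟨e', he'⟩ := exists_pow_eq_self_of_coprime (x := g₂) (n := p ^ r) (by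
      refine Nat.Coprime.coprime_dvd_right (orderOf_dvd_of_pow_eq_one hg₂j) (Nat.Coprime.pow_left r ?_)
      exact (Fact.out : p.Prime).coprime_iff_not_dvd.2 hj)
    rw [← he']
    clear he'
    induction e' with
    | zero => simp
    | succ e' ih => rw [pow_succ, mulVec_mul_GL, h0, ih]
  have hκ2 : κ₁ ^ p ^ i = 1 := by
    have e := congrArg (fun z : GLm => (z : Mat) *ᵥ x) (hit (p ^ i) 1)
    have hxf : ((g₂⁻¹ : GLm) : Mat) *ᵥ x = x := by
      conv_lhs => rw [← hfix x hx]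
      rw [inv_mulVec_cancel]
    simp only [mulVec_mul_GL] at e
    rw [show ((g₁ ^ p ^ i)⁻¹ : GLm) = g₂⁻¹ from rfl, hxf, D.T_coe, D.T_coe, Matrix.add_mulVec, Matrix.add_mulVec,
      Matrix.one_mulVec, Matrix.smul_mulVec, Matrix.smul_mulVec, hdx, one_smul, mul_one, mulVec_add] at e
    rw [show ((g₁ ^ p ^ i : GLm) : Mat) = (g₂ : Mat) from rfl, hfix x hx, hfix _ hu0, add_right_inj] at e
    exact smul_left_injective F (D.tau_ne_zero hu hne) (by simpa using e.symm)
  have hcomm : g₂ * D.T u 1 = D.T u 1 * g₂ := by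
    have e := hit (p ^ i) 1
    rw [hκ2, one_mul, mul_inv_eq_iff_eq_mul] at e
    exact e
  have hXc := CompData.Acts.unique K (hact₂.mul K (K.acts_of_e (D.T_coe u 1)))
    (hcomm ▸ (K.acts_of_e (D.T_coe u 1)).mul K hact₂)
  obtain ⟨h10, h00⟩ := upper_pow hX10 (p ^ i)
  have hdet := Matrix.SpecialLinearGroup.det_coe (X₁ ^ p ^ i)
  rw [det_fin_two, h10, mul_zero, sub_zero] at hdet
  have e01 := congrFun (congrFun (congrArg Subtype.val hXc) 0) 1
  simp only [Matrix.SpecialLinearGroup.coe_mul, Matrix.mul_apply, Fin.sum_univ_two, Classical.GL2.coe_uniSL,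
    one_smul] at e01
  simp at e01
  have h11 : (X₁ ^ p ^ i).1 1 1 = (X₁ ^ p ^ i).1 0 0 := by
    refine mul_left_cancel₀ K.lam_ne_zero ?_
    rw [Matrix.SpecialLinearGroup.coe_pow] at *
    linear_combination -e01
  rw [h11, h00, hX00, ← pow_two, ← pow_mul, mul_comm, pow_mul, ← map_pow, ← map_pow] at hdet
  have : ((μ ^ 2) - 1) ^ p ^ i = 0 := by
    rw [sub_pow_char_pow, one_pow, sub_eq_zero]
    exact φ.injective (hdet.trans (map_one φ).symm)
  exact hμ (by rw [← pow_two]; exact sub_eq_zero.1 (eq_zero_of_pow_eq_zero this))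

/-- the central maps are scalar -/
theorem Tight.central_scalar (hM : D.Tight M) (p : ℕ) [Fact p.Prime] [CharP F p] (hp2 : p ≠ 2) (hex : D.Generic)
    (h5 : 4 ≤ Fintype.card F) {g : GLm} (hg : g ∈ M) (hgH : g ∉ D.H) {u : W₁} (hu : u ≠ 0) :
    ∃ l : F, l ≠ 0 ∧ ∀ y, D.central g u y = l • y := by
  have h2 : (2 : F) ≠ 0 := Ring.two_ne_zero (by rwa [ringChar.eq F p])
  obtain ⟨-, l, y₁, -, hl0, hy₁, -, hAy₁⟩ := hM.exists_eigen p hp2 hex (by omega) hg hgH hu
  set s := -2 / l with hs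
  set e := D.dis u with hedef
  set f := D.cdis g u with hfdef
  have he : e * e = 0 := D.dis_sq u
  have hf : f * f = 0 := D.cdis_sq g u
  set C := Pair.cen e f with hC
  have hefe : e * f * e = C * e := by rw [hC, Pair.cen, add_mul, mul_assoc f e e, he, mul_zero, add_zero]
  set h := g * D.T u 1 * g⁻¹ * D.T u s * (g * D.T u 1 * g⁻¹) with hhdef
  have hehe : ∀ (t r : F), e * ((1 + t • f) * (1 + r • e) * (1 + t • f)) * e =
      (2 * t) • (C * e) + (t * r * t) • (C * (C * e)) := by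
    intro t r
    simp only [mul_add, add_mul, mul_one, one_mul, Matrix.smul_mul, Matrix.mul_smul, smul_smul, ← mul_assoc, he,
      zero_mul, smul_zero, add_zero, zero_add]
    simp only [hefe]
    have hefe' : e * (f * e) = C * e := by rw [← mul_assoc, hefe]
    have hff : ∀ X : Mat, f * (f * X) = 0 := fun X => by rw [← mul_assoc, hf, zero_mul]
    simp only [mul_assoc, he, hefe', hff, mul_zero, smul_zero, add_zero, zero_add, hf, zero_mul]
    module
  have hhc : (h : Mat) = (1 + (1 : F) • f) * (1 + s • e) * (1 + (1 : F) • f) := by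
    rw [hhdef, Units.val_mul, Units.val_mul _ (D.T u s), D.conj_coe, D.T_coe]
  have hhi : ((h⁻¹ : GLm) : Mat) = (1 + (-1 : F) • f) * (1 + (-s) • e) * (1 + (-1 : F) • f) := by
    have hneg : ∀ t, (D.T u t)⁻¹ = D.T u (-t) := fun t =>
      inv_eq_of_mul_eq_one_right (by rw [D.T_mul, add_neg_cancel, D.T_zero])
    have : h⁻¹ = g * D.T u (-1) * g⁻¹ * D.T u (-s) * (g * D.T u (-1) * g⁻¹) := by
      rw [hhdef, ← hneg, ← hneg]; group
    rw [this, Units.val_mul, Units.val_mul _ (D.T u (-s)), D.conj_coe, D.T_coe]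
  set A := D.central g u
  let P : W₂ → W₂ := fun y => (2 : F) • A y + s • A (A y)
  have hP : ∀ y, e *ᵥ ((h : Mat) *ᵥ D.τ u y) = D.τ u (P y) ∧ e *ᵥ (((h⁻¹ : GLm) : Mat) *ᵥ D.τ u y) = D.τ u (-P y) := by
    intro y
    obtain ⟨v, hv⟩ := D.exists_one₁ hu
    have hv' : D.τ u y = e *ᵥ D.τ v y := by rw [hedef, D.dis_mulVec, D.κ_pure, hv, one_smul]
    have hce : ∀ y, C *ᵥ (e *ᵥ D.τ v y) = D.τ u (A y) := fun y => by
      rw [hedef, D.dis_mulVec, D.κ_pure, hv, one_smul]; exact D.cen_tau g u y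
    have hcce : ∀ z, C *ᵥ D.τ u z = D.τ u (A z) := fun z => D.cen_tau g u z
    rw [hv', hhc, hhi]
    simp only [Matrix.mulVec_mulVec, ← mul_assoc]
    rw [show ∀ (X Y Z : Mat), e * X * Y * Z * e = e * (X * Y * Z) * e from fun X Y Z => by simp only [mul_assoc],
      show ∀ (X Y Z : Mat), e * X * Y * Z * e = e * (X * Y * Z) * e from fun X Y Z => by simp only [mul_assoc],
      hehe, hehe]
    simp only [Matrix.add_mulVec, Matrix.smul_mulVec, ← Matrix.mulVec_mulVec, hce, hcce,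
      P, map_add, map_smul, map_neg, neg_mul, mul_neg, one_mul, mul_one, neg_neg]
    refine ⟨?_, ?_⟩ <;> first | trivial | module
  have hPy₁ : P y₁ = 0 := by
    simp only [P, hAy₁, map_smul, smul_smul, ← add_smul]
    rw [show 2 * l + s * (l * l) = 0 by rw [hs]; field_simp; ring, zero_smul]
  have hA'' : ∀ y, D.central h u y = -P (P y) := by
    intro y
    rw [D.central_apply, D.cdis_mulVec]
    have e1 := (hP y).2
    rw [hedef, D.dis_mulVec] at e1
    rw [e1]
    refine sub_eq_zero.1 (D.tau_right hu ?_)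
    rw [map_sub, ← D.dis_mulVec, ← hedef, (hP _).1, sub_eq_zero]
    simp [P, map_neg, map_add, smul_add]
    abel
  have hA₁ : D.central h u y₁ = 0 := by
    rw [hA'', hPy₁]; simp [P]
  have hhM : h ∈ M := by
    have hgT := mul_mem (mul_mem hg (hM.le (D.T_mem u 1))) (inv_mem hg)
    exact mul_mem (mul_mem hgT (hM.le (D.T_mem u s))) hgT
  have hhH : h ∈ D.H := by
    by_contra hhH
    exact hy₁ (hM.central_inj p hp2 hex h5 hhM hhH hu hA₁)
  obtain ⟨hhs, a, b, hab⟩ := hhH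
  obtain ⟨μ, hμ, hμ1, -⟩ := D.exists_multiplier hhs hab
  have hau : D.f₁ (a u) u = 0 := by
    rw [D.central_of_H hhs hab hμ hμ1, smul_eq_zero, or_iff_left hy₁] at hA₁
    rcases mul_eq_zero.1 hA₁ with h0 | h0
    · rw [D.swap₁, (div_eq_zero_iff.1 h0).resolve_right hμ, neg_zero]
    · exact h0
  have hP0 : ∀ y, P y = 0 := fun y => D.tau_right hu (by
    rw [← (hP y).1, hedef, D.dis_mulVec, hab, D.κ_pure, hau, zero_smul, map_zero])
  refine ⟨l, hl0, fun y => sub_eq_zero.1 (hM.central_inj p hp2 hex h5 hg hgH hu ?_)⟩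
  have := hP0 y
  simp only [P] at this
  rw [map_sub, map_smul]
  have e2 : s • (A (A y) - l • A y) = 0 := by
    rw [smul_sub, smul_smul, show s * l = -2 by rw [hs]; field_simp, neg_smul, sub_neg_eq_add, add_comm]
    exact this
  exact (smul_eq_zero.1 e2).resolve_left (div_ne_zero (neg_ne_zero.2 h2) hl0)

/-- with two-dimensional alternating factor and more than three scalars there is nothing outside the stabiliser -/
theorem Tight.le_of_two (hM : D.Tight M) (p : ℕ) [Fact p.Prime] [CharP F p] (hp2 : p ≠ 2) (hex : D.Generic)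
    (h5 : 4 ≤ Fintype.card F) : M ≤ D.H := by
  intro g hg
  by_contra hgH
  have h2 : (2 : F) ≠ 0 := Ring.two_ne_zero (by rwa [ringChar.eq F p])
  have hgs := Symp.mem_spGL_iff.1 (hM.sp hg)
  obtain ⟨u, hu⟩ := D.exists_ne₁
  obtain ⟨v, hv⟩ := D.exists_one₁ hu
  let ψ : W₁ → W₂ → W₂ := fun w y => D.κ w ((g : Mat) *ᵥ D.τ u y)
  -- every contraction of `g (u ⊗ W₂)` is a similitude
  have hsim : ∀ w, w ≠ 0 → ∃ c : F, c ≠ 0 ∧ ∀ y y', D.f₂ (ψ w y) (ψ w y') = c * D.f₂ y y' := by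
    intro w hw
    obtain ⟨hh, hhH, hhw⟩ := exists_moveto (D := D) hu hw
    have hg' : g * hh ∈ M := mul_mem hg (hM.le hhH)
    have hg'H : g * hh ∉ D.H := fun h => hgH (by simpa using mul_mem h (inv_mem hhH))
    obtain ⟨l, hl0, hl⟩ := hM.central_scalar p hp2 hex h5 hg' hg'H hw
    let Z : W₂ →ₗ[F] W₂ := (D.κ w).comp ((Matrix.toLin' ((((g * hh)⁻¹ : GLm)) : Mat)).comp (D.τ w))
    have hZ : ∀ y y', D.f₂ (Z y) y' = - D.f₂ y (ψ w y') := fun y y' => by
      show D.f₂ (D.κ w ((((g * hh)⁻¹ : GLm) : Mat) *ᵥ D.τ w y)) y' = _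
      rw [D.κ_spec, ← Symp.mem_spGL_iff.1 (hM.sp hg'), mulVec_inv_cancel, mulVec_mul_GL, hhw, D.symm y,
        D.κ_spec, Symp.B_swap]
    have hψZ : ∀ y, ψ w (Z y) = l • y := fun y => by
      rw [← hl y, D.central_apply, D.cdis_mulVec, mulVec_mul_GL, hhw]
      rfl
    have hZi : Function.Injective Z := (injective_iff_map_eq_zero Z).2 fun y hy => by
      have := hψZ y
      rw [hy] at this
      simp only [ψ, map_zero, Matrix.mulVec_zero] at this
      exact (smul_eq_zero.1 this.symm).resolve_left hl0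
    refine ⟨-l, neg_ne_zero.2 hl0, fun q q' => ?_⟩
    obtain ⟨y, rfl⟩ := LinearMap.injective_iff_surjective.1 hZi q
    rw [hψZ, map_smul, LinearMap.smul_apply, smul_eq_mul, hZ]
    ring
  have hv0 : v ≠ 0 := fun e => by rw [e, map_zero, LinearMap.zero_apply] at hv; exact zero_ne_one hv
  have huv : u + v ≠ 0 := fun e => by
    have := congrArg (fun q => D.f₁ q u) e
    simp [D.alt, hv] at this
  obtain ⟨cu, hcu, hu'⟩ := hsim u hu
  obtain ⟨cv, -, hv'⟩ := hsim v hv0
  obtain ⟨cs, -, hs'⟩ := hsim (u + v) huv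
  have hiso : ∀ y y', D.f₂ (ψ u y) (ψ v y') = D.f₂ (ψ v y) (ψ u y') := fun y y' => by
    have e0 : B ((g : Mat) *ᵥ D.τ u y) ((g : Mat) *ᵥ D.τ u y') = 0 := by rw [hgs, D.pair, D.alt, zero_mul]
    rw [D.decompV hv ((g : Mat) *ᵥ D.τ u y), D.decompV hv ((g : Mat) *ᵥ D.τ u y')] at e0
    simp only [map_sub, LinearMap.sub_apply, D.pair, D.alt, D.swap₁ v u, hv, zero_mul] at e0
    linear_combination -e0
  set t := (cs - cu - cv) / 2 / cu
  have hψv : ∀ y, ψ v y = t • ψ u y := by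
    intro y
    refine sub_eq_zero.1 (D.nd₂ _ fun z => ?_)
    let Ψ : W₂ →ₗ[F] W₂ := (D.κ u).comp ((Matrix.toLin' (g : Mat)).comp (D.τ u))
    have hΨ : ∀ q, Ψ q = ψ u q := fun q => rfl
    have hΨi : Function.Injective Ψ := (injective_iff_map_eq_zero Ψ).2 fun q hq => D.nd₂ q fun q' => by
      have := hu' q q'
      rw [← hΨ, hq, map_zero, LinearMap.zero_apply] at this
      exact (mul_eq_zero.1 this.symm).resolve_left hcu
    obtain ⟨y', rfl⟩ := LinearMap.injective_iff_surjective.1 hΨi z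
    rw [hΨ, map_sub, LinearMap.sub_apply, map_smul, LinearMap.smul_apply, hu', smul_eq_mul]
    have e := hs' y y'
    simp only [ψ, D.κ_add, map_add, LinearMap.add_apply] at e
    have a1 := hu' y y'
    have a2 := hv' y y'
    have a3 := hiso y y'
    simp only [ψ] at a1 a2 a3 ⊢
    simp only [t]
    field_simp
    linear_combination e - a1 - a2 - a3
  have hw : v - t • u ≠ 0 := fun e => by
    have := congrArg (fun q => D.f₁ q u) e
    simp [D.alt, hv] at this
  obtain ⟨c, hc, hw'⟩ := hsim _ hw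
  obtain ⟨y, hy⟩ := D.exists_ne₂
  obtain ⟨z, hz⟩ := D.exists_one₂ hy
  have h0 : ψ (v - t • u) y = 0 := by
    have := hψv y
    simp only [ψ] at this ⊢
    rw [sub_eq_add_neg, ← neg_smul, D.κ_add, D.κ_smul, this, neg_smul, add_neg_cancel]
  have := hw' y z
  rw [h0, map_zero, LinearMap.zero_apply, hz, mul_one] at this
  exact hc this.symm

end Data

end Cfsg.Agent.Forms.Max.SympTensor
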