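import Cfsg.Agent.Lib.Forms.Max.SympTensor.High
import Cfsg.Agent.Lib.Forms.Max.SympTensor.Two
import Cfsg.Agent.Lib.Forms.Max.SympTensor.TwoPlane
import Cfsg.Agent.Lib.Forms.Max.SympTensor.Four
import Cfsg.Agent.Lib.Forms.Max.SympTensor.Spread
import Cfsg.Agent.Lib.Forms.Max.Factor
import Cfsg.Agent.Aschbacher.Un.Coordinates

/-!
# `Sp(W₁) ⊗ O(W₂)` is maximal in the symplectic group
-/

set_option autoImplicit false
set_option linter.unusedSectionVars false

namespace Cfsg.Agent.Forms.Max.SympTensor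

open Matrix Cfsg.Agent.Forms.SympStd Cfsg.Agent.Aschbacher
open scoped Kronecker

variable {F : Type*} [Field F] [Fintype F] {m k n : ℕ}

local notation "Vec" => (Fin m ⊕ Fin m → F)
local notation "GLm" => GL (Fin m ⊕ Fin m) F
local notation "Mat" => Matrix (Fin m ⊕ Fin m) (Fin m ⊕ Fin m) F
local notation "W₁" => (Fin k → F)
local notation "W₂" => (Fin n → F)

namespace Data

variable {D : Data F m k n}

theorem proper (h2 : (2 : F) ≠ 0) : ¬ Cfsg.spGL m F ≤ D.H := by
  intro hle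
  obtain ⟨u, hu⟩ := D.exists_ne₁
  obtain ⟨v, hv⟩ := D.exists_one₁ hu
  obtain ⟨y₀, hy₀⟩ := D.exists_ne₂
  set g : GLm := spTrv (D.τ u y₀) (1 : F) with hg
  have hgq : ∀ q, (g : Mat) *ᵥ q = q + D.τ u (D.f₂ (D.κ u q) y₀ • y₀) := fun q => by
    rw [hg, Symp.spTrv_apply, one_mul, ← D.κ_spec, map_smul]
  have hR : g ∈ D.Rad u := D.mem_Rad.2 ⟨spTrv_mem _ _, fun y => by rw [hgq, D.κ_pure, D.alt]; simp,
    fun q hq => by rw [hgq, hq, add_sub_cancel_left]; exact D.tau_mem_L u _⟩
  obtain ⟨a, -, -, ha⟩ := D.shape_Rad hu (hle (spTrv_mem _ _)) hR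
  obtain ⟨z, hz, hzy⟩ : ∃ z : W₂, z ≠ 0 ∧ D.f₂ z y₀ = 0 := exists_zero_pair (D.f₂.flip y₀) (by
    rw [Module.finrank_self, Module.finrank_fintype_fun_eq_card, Fintype.card_fin]
    have := D.three_le
    omega)
  have e1 := ha v z
  rw [hgq, D.κ_pure, hv, one_smul, hzy, zero_smul, map_zero, add_zero] at e1
  have hav : a v = v := sub_eq_zero.1 (D.tau_left hz (by rw [map_sub, LinearMap.sub_apply, ← e1, sub_self]))
  obtain ⟨y, hy⟩ := D.exists_one₂ hy₀
  have e2 := ha v y
  rw [hgq, D.κ_pure, hv, one_smul, hav, D.symm y y₀, hy, one_smul, add_eq_left] at e2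
  exact hy₀ (D.tau_right hu e2)

/-- `Sp(W₁) ⊗ O(W₂)` is maximal -/
theorem maximal (p : ℕ) [Fact p.Prime] [CharP F p] (hp2 : p ≠ 2) (hsmall : 4 ≤ n ∨ 4 ≤ Fintype.card F)
    (hk : 3 ≤ k ∨ 5 ≤ n ∨ (4 ≤ Fintype.card F ∧ n ≠ 4)) : Cfsg.Geo.IsMaximalIn (Cfsg.spGL m F) D.H := by
  have h2 : (2 : F) ≠ 0 := Ring.two_ne_zero (by rwa [ringChar.eq F p])
  refine isMaximalIn_of D.H_le (proper h2) fun M hle hsp g hg hgH => ?_
  by_cases hT : ∀ u : W₁, u ≠ 0 → M ⊓ D.Rad u ≤ D.H
  · have hM : D.Tight M := ⟨hle, hsp, hT⟩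
    rcases Nat.lt_or_ge k 3 with hk3 | hk3
    · obtain rfl : k = 2 := by have := D.two_le; omega
      rcases hk.resolve_left (by omega) with hn5 | ⟨hq, hn4⟩
      · exact absurd (hM.le_of_two_five p hp2 hn5 hg) hgH
      · exact absurd (hM.le_of_two p hp2 (Or.inl fun e => hn4 e.2) hq hg) hgH
    · exact absurd (hM.le_of_high p hp2 hk3 hg) hgH
  · push Not at hT
    obtain ⟨u, hu, hle'⟩ := hT
    obtain ⟨x, hx, hxH⟩ := SetLike.not_le_iff_exists.1 hle'
    exact spGL_le_of_radical h2 hsmall hle hsp hu (Subgroup.mem_inf.1 hx).1 (Subgroup.mem_inf.1 hx).2 hxH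

/-- `Sp(W₁) ⊗ O₄⁻(W₂)` with `W₁` of dimension two is maximal -/
theorem maximal_four {D : Data F m 2 4} (p : ℕ) [Fact p.Prime] [CharP F p] (hp2 : p ≠ 2) (hnp : D.NoPlane) :
    Cfsg.Geo.IsMaximalIn (Cfsg.spGL m F) D.H := by
  have h2 : (2 : F) ≠ 0 := Ring.two_ne_zero (by rwa [ringChar.eq F p])
  refine isMaximalIn_of D.H_le (proper h2) fun M hle hsp g hg hgH => ?_
  by_cases hT : ∀ u : Fin 2 → F, u ≠ 0 → M ⊓ D.Rad u ≤ D.H
  · have hM : D.Tight M := ⟨hle, hsp, hT⟩
    rcases Nat.lt_or_ge (Fintype.card F) 4 with h4 | h4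
    · have h3 : Fintype.card F = 3 := by
        have h1 : 1 < Fintype.card F := Fintype.one_lt_card
        rcases (show Fintype.card F = 2 ∨ Fintype.card F = 3 by omega) with h | h
        · have h0 := Nat.cast_card_eq_zero F
          rw [h, Nat.cast_ofNat] at h0
          exact absurd h0 h2
        · exact h
      exact absurd (hM.le_of_two_four p hp2 hnp h3 hg) hgH
    · exact absurd (hM.le_of_two p hp2 (Or.inr hnp) h4 hg) hgH
  · push Not at hT
    obtain ⟨u, hu, hle'⟩ := hT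
    obtain ⟨x, hx, hxH⟩ := SetLike.not_le_iff_exists.1 hle'
    exact spGL_le_of_radical h2 (Or.inl le_rfl) hle hsp hu (Subgroup.mem_inf.1 hx).1 (Subgroup.mem_inf.1 hx).2 hxH

end Data

/-- the decomposition attached to a tensor form structure -/
theorem exists_data {e : (Fin m ⊕ Fin m) ≃ Fin k × Fin n} {P : GLm} {f₁ : W₁ → W₁ → F} {f₂ : W₂ → W₂ → F}
    (hk : 2 ≤ k) (hn : 3 ≤ n) (hf₁ : Cfsg.Geo.IsSymplecticForm f₁) (hf₂ : Cfsg.Geo.IsSymmetricForm f₂)
    (hT : Cfsg.Geo.IsTensorFormStructure id (Cfsg.sympForm m F) f₁ f₂ e P) :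
    ∃ D : Data F m k n, (∀ x y, D.f₂ x y = f₂ x y) ∧
      Cfsg.Geo.tensorProductSubgroup k n e P ⊓ Cfsg.spGL m F = D.H := by
  obtain ⟨c, hc, hcf⟩ := hT
  have hg₁ : ∀ x y, Cfsg.Geo.formOfGram id (Cfsg.Geo.gramMatrix f₁) x y = f₁ x y := fun x y =>
    Factor.formOfGram_gram (RingHom.id F) hf₁.bilinear.add_left hf₁.bilinear.smul_left hf₁.bilinear.add_right
      hf₁.bilinear.smul_right x y
  have hg₂ : ∀ x y, Cfsg.Geo.formOfGram id (Cfsg.Geo.gramMatrix f₂) x y = f₂ x y := fun x y =>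
    Factor.formOfGram_gram (RingHom.id F) hf₂.bilinear.add_left hf₂.bilinear.smul_left hf₂.bilinear.add_right
      hf₂.bilinear.smul_right x y
  let B₁ : LinearMap.BilinForm F W₁ := c • LinearMap.mk₂ F f₁ hf₁.bilinear.add_left hf₁.bilinear.smul_left
    hf₁.bilinear.add_right hf₁.bilinear.smul_right
  let B₂ : LinearMap.BilinForm F W₂ := LinearMap.mk₂ F f₂ hf₂.bilinear.add_left hf₂.bilinear.smul_left
    hf₂.bilinear.add_right hf₂.bilinear.smul_right
  have hB₁ : ∀ x y, B₁ x y = c * f₁ x y := fun _ _ => rfl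
  have hB₂ : ∀ x y, B₂ x y = f₂ x y := fun _ _ => rfl
  let D : Data F m k n :=
    { τ := Factor.pureVec e P
      f₁ := B₁
      f₂ := B₂
      alt := fun x => by rw [hB₁, hf₁.alternating, mul_zero]
      nd₁ := fun x hx => by
        by_contra hne
        obtain ⟨-, y, hy⟩ := hf₁.nondegenerate x hne
        exact mul_ne_zero hc hy (by rw [← hB₁]; exact hx y)
      symm := fun x y => by rw [hB₂, hB₂, hf₂.symm]
      nd₂ := fun x hx => by
        by_contra hne
        obtain ⟨-, y, hy⟩ := hf₂.nondegenerate x hne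
        exact hy (by rw [← hB₂]; exact hx y)
      pair := fun x y x' y' => by
        rw [sympB_apply, Factor.pureVec_apply, Factor.pureVec_apply, hcf, hB₁, hB₂, mul_assoc, ← hg₁, ← hg₂]
        exact congrArg (c * ·) (Factor.formOfGram_pure (RingHom.id F) _ _ x x' y y')
      total := fun v => by
        set w : Fin k × Fin n → F := (((P⁻¹ : GLm) : Mat) *ᵥ v) ∘ e.symm
        have hv : v = ∑ a : Fin k × Fin n, w a • Factor.pureVec e P (Pi.single a.1 1) (Pi.single a.2 1) := by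
          simp only [Factor.pureVec_apply, ← Matrix.mulVec_smul, ← Matrix.mulVec_sum]
          conv_lhs => rw [← mulVec_inv_cancel P v]
          congr 1
          funext i
          rw [Finset.sum_apply, Finset.sum_eq_single (e i)]
          · simp [w]
          · intro a _ ha
            rcases Classical.em ((e i).1 = a.1) with h | h
            · have h' : (e i).2 ≠ a.2 := fun h' => ha (Prod.ext h.symm h'.symm)
              simp [Pi.single_apply, h']
            · simp [Pi.single_apply, h]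
          · simp
        rw [hv]
        exact Submodule.sum_mem _ fun a _ => Submodule.smul_mem _ _ (Submodule.subset_span ⟨(_, _), rfl⟩)
      two_le := hk
      three_le := hn }
  refine ⟨D, hB₂, le_antisymm ?_ ?_⟩
  · rintro g ⟨hg, hgs⟩
    obtain ⟨a, b, hab⟩ := Factor.mul_pureVec hg
    exact D.mem_H.2 ⟨hgs, Matrix.toLin' (a : Matrix (Fin k) (Fin k) F), Matrix.toLin' (b : Matrix (Fin n) (Fin n) F),
      fun x y => by
        rw [Matrix.toLin'_apply, Matrix.toLin'_apply]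
        exact hab x y⟩
  · rintro g ⟨hgs, a, b, hab⟩
    refine ⟨?_, hgs⟩
    have ha : IsUnit (LinearMap.toMatrix' a) := Matrix.mulVec_injective_iff_isUnit.1 fun x x' h => by
      simp only [LinearMap.toMatrix'_mulVec] at h
      by_contra hne
      exact D.a_injective hab (sub_ne_zero.2 hne) (by rw [map_sub, h, sub_self])
    have hb : IsUnit (LinearMap.toMatrix' b) := Matrix.mulVec_injective_iff_isUnit.1 fun x x' h => by
      simp only [LinearMap.toMatrix'_mulVec] at h
      by_contra hne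
      exact D.b_injective hab (sub_ne_zero.2 hne) (by rw [map_sub, h, sub_self])
    set K : GL (Fin k × Fin n) F := kronUnit (ha.unit, hb.unit) with hK
    have hKmem : K ∈ Cfsg.Geo.kroneckerSubgroup k n F := ⟨ha.unit, hb.unit, rfl⟩
    set g' : GLm := MulAut.conj P (Cfsg.Geo.glReindex e.symm K) with hg'
    have hg'mem : g' ∈ Cfsg.Geo.tensorProductSubgroup k n e P :=
      Subgroup.mem_map_of_mem (MulAut.conj P).toMonoidHom (Subgroup.mem_map_of_mem (Cfsg.Geo.glReindex e.symm).toMonoidHom hKmem)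
    have hco : glCoord e P g' = K := by
      rw [glCoord, hg', MulAut.conj_apply]
      rw [show P⁻¹ * (P * Cfsg.Geo.glReindex e.symm K * P⁻¹) * P = Cfsg.Geo.glReindex e.symm K by group]
      refine Units.ext ?_
      rw [coe_glReindex, coe_glReindex]
      simp
    have : g = g' := D.gl_ext_pure fun x y => by
      rw [hab]
      show Factor.pureVec e P (a x) (b y) = (g' : Mat) *ᵥ Factor.pureVec e P x y
      rw [Factor.pureVec_apply, Factor.pureVec_apply, ← glCoord_mulVec e P g', hco]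
      congr 2
      funext ⟨i, j⟩
      show (a x) i * (b y) j = _
      rw [← LinearMap.toMatrix'_mulVec a x, ← LinearMap.toMatrix'_mulVec b y]
      simp only [hK, kronUnit, Matrix.mulVec, dotProduct, Fintype.sum_prod_type, Finset.sum_mul_sum]
      exact Finset.sum_congr rfl fun i' _ => Finset.sum_congr rfl fun j' _ => by
        show _ = (LinearMap.toMatrix' a i i' * LinearMap.toMatrix' b j j') * (x i' * y j')
        ring
    rw [this]
    exact hg'mem

/-- the stabiliser of a symplectic-orthogonal tensor decomposition is maximal -/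
theorem maximal {e : (Fin m ⊕ Fin m) ≃ Fin k × Fin n} {P : GLm} {f₁ : W₁ → W₁ → F} {f₂ : W₂ → W₂ → F}
    (hn : 3 ≤ n) (hodd : Odd (Fintype.card F)) (hf₁ : Cfsg.Geo.IsSymplecticForm f₁)
    (hf₂ : Cfsg.Geo.IsSymmetricForm f₂)
    (hT : Cfsg.Geo.IsTensorFormStructure id (Cfsg.sympForm m F) f₁ f₂ e P) (hm : 1 ≤ m)
    (hsmall : 4 ≤ n ∨ 4 ≤ Fintype.card F) (hk : 3 ≤ k ∨ 5 ≤ n ∨ (4 ≤ Fintype.card F ∧ n ≠ 4)) :
    Cfsg.Geo.IsMaximalIn (Cfsg.spGL m F) (Cfsg.Geo.tensorProductSubgroup k n e P ⊓ Cfsg.spGL m F) := by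
  have hcard : k * n = 2 * m := by
    have := Fintype.card_congr e
    simp at this
    omega
  have hk2 : 2 ≤ k := by
    by_contra hk'
    rcases Nat.eq_zero_or_pos k with h | h
    · subst h; omega
    obtain rfl : k = 1 := by omega
    set x : Fin 1 → F := fun _ => 1
    obtain ⟨-, y, hy⟩ := hf₁.nondegenerate x (fun h => one_ne_zero (α := F) (congrFun h 0))
    refine hy ?_
    rw [show y = y 0 • x from funext fun i => by simp [x, Subsingleton.elim i 0], hf₁.bilinear.smul_right,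
      hf₁.alternating, mul_zero]
  obtain ⟨p, hp⟩ := CharP.exists F
  haveI : Fact p.Prime := ⟨(CharP.char_is_prime_or_zero F p).resolve_right (CharP.char_ne_zero_of_finite F p)⟩
  have hp2 : p ≠ 2 := fun h => by
    subst h
    have h0 := FiniteField.even_card_of_char_two (ringChar.eq F 2)
    rw [Nat.odd_iff] at hodd
    omega
  obtain ⟨D, -, hD⟩ := exists_data hk2 hn hf₁ hf₂ hT
  rw [hD]
  exact Data.maximal p hp2 hsmall hk

/-- the stabiliser of a decomposition into a plane and a four-space of minus type is maximal -/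
theorem maximal_minus {e : (Fin m ⊕ Fin m) ≃ Fin 2 × Fin 4} {P : GLm} {f₁ : (Fin 2 → F) → (Fin 2 → F) → F}
    {f₂ : (Fin 4 → F) → (Fin 4 → F) → F} (hodd : Odd (Fintype.card F)) (hf₁ : Cfsg.Geo.IsSymplecticForm f₁)
    (hf₂ : Cfsg.Geo.IsSymmetricForm f₂)
    (hminus : ¬ Cfsg.Geo.IsPlusTypeOn (fun v : Fin 4 → F => f₂ v v) ⊤)
    (hT : Cfsg.Geo.IsTensorFormStructure id (Cfsg.sympForm m F) f₁ f₂ e P) :
    Cfsg.Geo.IsMaximalIn (Cfsg.spGL m F) (Cfsg.Geo.tensorProductSubgroup 2 4 e P ⊓ Cfsg.spGL m F) := by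
  obtain ⟨p, hp⟩ := CharP.exists F
  haveI : Fact p.Prime := ⟨(CharP.char_is_prime_or_zero F p).resolve_right (CharP.char_ne_zero_of_finite F p)⟩
  have hp2 : p ≠ 2 := fun h => by
    subst h
    have h0 := FiniteField.even_card_of_char_two (ringChar.eq F 2)
    rw [Nat.odd_iff] at hodd
    omega
  obtain ⟨D, hDf, hD⟩ := exists_data le_rfl (by norm_num) hf₁ hf₂ hT
  rw [hD]
  refine Data.maximal_four p hp2 fun R hR => ?_
  by_contra hc
  obtain ⟨x, y, hxy⟩ : ∃ x y : R, LinearIndependent F ![x, y] := by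
    obtain ⟨s, hs⟩ := exists_linearIndependent_of_le_finrank (R := F) (M := R) (n := 2) (by omega)
    exact ⟨s 0, s 1, by convert hs using 1; funext i; fin_cases i <;> rfl⟩
  refine hminus ⟨Submodule.span F (Set.range (R.subtype ∘ ![x, y])), le_top, fun w hw => ?_, ?_⟩
  · have hwR : w ∈ R := (Submodule.span_le (p := R)).2 (by rintro _ ⟨i, rfl⟩; exact (![x, y] i).2) hw
    show f₂ w w = 0
    rw [← hDf]
    exact hR w hwR w hwR
  · rw [finrank_span_eq_card (hxy.map' _ (Submodule.ker_subtype _)), finrank_top]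
    simp

end Cfsg.Agent.Forms.Max.SympTensor
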