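import Cfsg.Agent.Lib.Forms.Max.SympTensor.Conj
import Cfsg.Agent.Lib.Forms.Max.SympTensor.Comp

/-!
# `W₁ ⊗ W₂`: the pairs formed by a transvection and a conjugate of it
-/

set_option autoImplicit false
set_option linter.unusedSectionVars false

namespace Cfsg.Agent.Forms.Max.SympTensor

open Matrix Cfsg.Agent.Forms.SympStd

variable {F : Type*} [Field F] {m k n : ℕ}

local notation "Vec" => (Fin m ⊕ Fin m → F)
local notation "GLm" => GL (Fin m ⊕ Fin m) F
local notation "Mat" => Matrix (Fin m ⊕ Fin m) (Fin m ⊕ Fin m) F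
local notation "B" => sympB m F
local notation "W₁" => (Fin k → F)
local notation "W₂" => (Fin n → F)

namespace Data

variable (D : Data F m k n)

/-- the displacement of a transvection -/
noncomputable def dis (u : Fin k → F) : Matrix (Fin m ⊕ Fin m) (Fin m ⊕ Fin m) F :=
  LinearMap.toMatrix' ((D.τ u).comp (D.κ u))

theorem dis_mulVec (u : W₁) (v : Vec) : D.dis u *ᵥ v = D.τ u (D.κ u v) := by
  rw [dis, LinearMap.toMatrix'_mulVec]; rfl

theorem dis_sq (u : W₁) : D.dis u * D.dis u = 0 :=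
  Matrix.ext_iff_mulVec.2 fun v => by
    rw [← Matrix.mulVec_mulVec, D.dis_mulVec, D.dis_mulVec, D.κ_pure, D.alt, zero_smul, map_zero,
      Matrix.zero_mulVec]

variable [Fintype F]

theorem T_coe (u : W₁) (t : F) : (D.T u t : Mat) = 1 + t • D.dis u :=
  Matrix.ext_iff_mulVec.2 fun v => by
    rw [D.T_apply, Matrix.add_mulVec, Matrix.one_mulVec, Matrix.smul_mulVec, D.dis_mulVec]

/-- the displacement of a conjugate -/
noncomputable def cdis (g : GL (Fin m ⊕ Fin m) F) (u : Fin k → F) : Matrix (Fin m ⊕ Fin m) (Fin m ⊕ Fin m) F :=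
  (g : Matrix (Fin m ⊕ Fin m) (Fin m ⊕ Fin m) F) * D.dis u *
    ((g⁻¹ : GL (Fin m ⊕ Fin m) F) : Matrix (Fin m ⊕ Fin m) (Fin m ⊕ Fin m) F)

theorem cdis_mulVec (g : GLm) (u : W₁) (v : Vec) :
    D.cdis g u *ᵥ v = (g : Mat) *ᵥ D.τ u (D.κ u (((g⁻¹ : GLm) : Mat) *ᵥ v)) := by
  rw [cdis, ← Matrix.mulVec_mulVec, ← Matrix.mulVec_mulVec, D.dis_mulVec]

theorem cdis_sq (g : GLm) (u : W₁) : D.cdis g u * D.cdis g u = 0 := by
  simp only [cdis, mul_assoc, Units.inv_mul_cancel_left]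
  rw [← mul_assoc (D.dis u), D.dis_sq, zero_mul, mul_zero]

theorem conj_coe (g : GLm) (u : W₁) (t : F) :
    ((g * D.T u t * g⁻¹ : GLm) : Mat) = 1 + t • D.cdis g u := by
  rw [Units.val_mul, Units.val_mul, D.T_coe, mul_add, add_mul, mul_one, Units.mul_inv, Matrix.mul_smul,
    Matrix.smul_mul, cdis]

/-- the group generated by a transvection family and a conjugate of it -/
def pairGroup (g : GL (Fin m ⊕ Fin m) F) (u : Fin k → F) : Subgroup (GL (Fin m ⊕ Fin m) F) :=
  Subgroup.closure (Pair.gens F (D.dis u) (D.cdis g u))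

theorem T_mem_pairGroup (g : GLm) (u : W₁) (t : F) : D.T u t ∈ D.pairGroup g u :=
  Subgroup.subset_closure ⟨t, Or.inl (D.T_coe u t)⟩

theorem conj_mem_pairGroup (g : GLm) (u : W₁) (t : F) : g * D.T u t * g⁻¹ ∈ D.pairGroup g u :=
  Subgroup.subset_closure ⟨t, Or.inr (D.conj_coe g u t)⟩

include D in
theorem nonempty_index : Nonempty (Fin m ⊕ Fin m) := by
  have h := D.card_eq
  have h1 : 2 * 3 ≤ k * n := Nat.mul_le_mul D.two_le D.three_le
  exact ⟨Sum.inl ⟨0, by omega⟩⟩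

variable {D} {M : Subgroup (GL (Fin m ⊕ Fin m) F)}

theorem Tight.pairGroup_le (hM : D.Tight M) {g : GLm} (hg : g ∈ M) (u : W₁) : D.pairGroup g u ≤ M := by
  refine (Subgroup.closure_le _).2 ?_
  rintro x ⟨t, hx | hx⟩
  · rw [show x = D.T u t from Units.ext (hx.trans (D.T_coe u t).symm)]
    exact hM.le (D.T_mem u t)
  · rw [show x = g * D.T u t * g⁻¹ from Units.ext (hx.trans (D.conj_coe g u t).symm)]
    exact mul_mem (mul_mem hg (hM.le (D.T_mem u t))) (inv_mem hg)

/-- the central element of a pair is not nilpotent -/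
theorem Tight.not_nilpotent (hM : D.Tight M) (p : ℕ) [Fact p.Prime] [CharP F p] (h2 : (2 : F) ≠ 0)
    (hex : D.Generic) {g : GLm} (hg : g ∈ M) (hgH : g ∉ D.H) {u : W₁} (hu : u ≠ 0) :
    ¬ IsNilpotent (Pair.cen (D.dis u) (D.cdis g u)) := by
  intro hn
  haveI := D.nonempty_index
  haveI : CharP Mat p := charP_of_injective_algebraMap (algebraMap F Mat).injective p
  have hP := Pair.isPGroup_of_nilpotent (F := F) (D.dis_sq u) (D.cdis_sq g u) p hn
  exact hgH (hM.mem_of_conj p h2 hex hg hu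
    (hM.mem_of_pgroup p h2 hex hP (hM.pairGroup_le hg u) hu (D.T_mem_pairGroup g u 1)
      (D.conj_mem_pairGroup g u 1)))

end Data

end Cfsg.Agent.Forms.Max.SympTensor
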