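import Cfsg.Agent.Lib.Forms.Max.SympTensor.Fix

/-!
# `W₁ ⊗ W₂`: a new element of a radical gives a non-scalar central one
-/

set_option autoImplicit false
set_option linter.unusedSectionVars false

namespace Cfsg.Agent.Forms.Max.SympTensor

open Matrix Cfsg.Agent.Forms.SympStd

variable {F : Type*} [Field F] {m k n : ℕ}

local notation "Vec" => (Fin m ⊕ Fin m → F)
local notation "GLm" => GL (Fin m ⊕ Fin m) F
local notation "Mat" => Matrix (Fin m ⊕ Fin m) (Fin m ⊕ Fin m) F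
local notation "B" => sympB m F
local notation "W₁" => (Fin k → F)
local notation "W₂" => (Fin n → F)

namespace Data

variable (D : Data F m k n) [Fintype F] (M : Subgroup (GL (Fin m ⊕ Fin m) F))

/-- a central element of the radical of `u` with parameter `S` lies in the group -/
def InS (u : Fin k → F) (S : (Fin n → F) →ₗ[F] (Fin n → F)) : Prop :=
  ∃ g ∈ M, ∀ q, (g : Matrix (Fin m ⊕ Fin m) (Fin m ⊕ Fin m) F) *ᵥ q = q + D.τ u (S (D.κ u q))

variable {D M}

/-- the reflection in a non-singular vector -/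
noncomputable def refl (D : Data F m k n) (y : Fin n → F) : (Fin n → F) →ₗ[F] (Fin n → F) :=
  LinearMap.id - (D.f₂.flip y).smulRight ((2 / D.f₂ y y) • y)

theorem refl_apply (y z : W₂) : D.refl y z = z - D.f₂ z y • (2 / D.f₂ y y) • y := rfl

theorem refl_isom {y : W₂} (hy : D.f₂ y y ≠ 0) (z z' : W₂) : D.f₂ (D.refl y z) (D.refl y z') = D.f₂ z z' := by
  rw [refl_apply, refl_apply]
  simp only [map_sub, map_smul, LinearMap.sub_apply, LinearMap.smul_apply, smul_eq_mul, D.symm y z']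
  field_simp
  ring

theorem refl_refl {y : W₂} (hy : D.f₂ y y ≠ 0) (z : W₂) : D.refl y (D.refl y z) = z := by
  rw [refl_apply, refl_apply, map_sub, map_smul, LinearMap.sub_apply, LinearMap.smul_apply, map_smul,
    LinearMap.smul_apply, smul_eq_mul, smul_eq_mul, div_mul_cancel₀ _ hy]
  module

/-- `1 ⊗ b` for an isometry `b` -/
noncomputable def krOne (D : Data F m k n) (b : (Fin n → F) →ₗ[F] (Fin n → F))
    (hb : ∀ y y', D.f₂ (b y) (b y') = D.f₂ y y') : GL (Fin m ⊕ Fin m) F :=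
  D.kr LinearMap.id b fun x y x' y' => by rw [hb]; rfl

theorem krOne_mem (b : W₂ →ₗ[F] W₂) (hb : ∀ y y', D.f₂ (b y) (b y') = D.f₂ y y') : D.krOne b hb ∈ D.H :=
  D.kr_mem _ _ _

theorem krOne_pure (b : W₂ →ₗ[F] W₂) (hb : ∀ y y', D.f₂ (b y) (b y') = D.f₂ y y') (x : W₁) (y : W₂) :
    (D.krOne b hb : Mat) *ᵥ D.τ x y = D.τ x (b y) := by
  rw [krOne, D.kr_pure]; rfl

theorem isom_surjective {b : W₂ →ₗ[F] W₂} (hb : ∀ y y', D.f₂ (b y) (b y') = D.f₂ y y') : Function.Surjective b :=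
  LinearMap.injective_iff_surjective.1 ((injective_iff_map_eq_zero b).2 fun y hy => D.nd₂ y fun z => by
    rw [← hb, hy, map_zero, LinearMap.zero_apply])

theorem κ_krOne (b : W₂ →ₗ[F] W₂) (hb : ∀ y y', D.f₂ (b y) (b y') = D.f₂ y y') (w : W₁) (q : Vec) :
    D.κ w ((D.krOne b hb : Mat) *ᵥ q) = b (D.κ w q) := by
  refine D.κ_eq fun y => ?_
  obtain ⟨y, rfl⟩ := isom_surjective hb y
  rw [hb, D.κ_spec, ← krOne_pure b hb, Symp.mem_spGL_iff.1 (D.krOne_mem b hb).1]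

theorem κ_fix {g : GLm} (hg : g ∈ Cfsg.spGL m F) {u : W₁} (h : ∀ y, (g : Mat) *ᵥ D.τ u y = D.τ u y) (q : Vec) :
    D.κ u ((g : Mat) *ᵥ q) = D.κ u q :=
  D.κ_eq fun y => by rw [D.κ_spec, ← Symp.mem_spGL_iff.1 hg q, h]

/-- elements trivial on the annihilator of `u ⊗ W₂` are central -/
theorem central_form {g : GLm} (hg : g ∈ Cfsg.spGL m F) {u v : W₁} (hv : D.f₁ v u = 1)
    (h : ∀ w, D.κ u w = 0 → (g : Mat) *ᵥ w = w) :
    ∃ S : W₂ →ₗ[F] W₂, (∀ q, (g : Mat) *ᵥ q = q + D.τ u (S (D.κ u q))) ∧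
      ∀ y y', D.f₂ (S y) y' = D.f₂ y (S y') := by
  have huv : D.f₁ u (-v) = 1 := by rw [map_neg, D.swap₁ v u, hv, neg_neg]
  let S : W₂ →ₗ[F] W₂ := (D.κ (-v)).comp ((Matrix.toLin' (g : Mat) - LinearMap.id).comp (D.τ v))
  have hker : ∀ q, D.κ u (q - D.τ v (D.κ u q)) = 0 := fun q => by
    rw [map_sub, D.κ_pure, hv, one_smul, sub_self]
  have hd : ∀ q, (g : Mat) *ᵥ q = q + ((g : Mat) *ᵥ D.τ v (D.κ u q) - D.τ v (D.κ u q)) := fun q => by
    have e := h _ (hker q)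
    rw [mulVec_sub] at e
    linear_combination (norm := module) e
  have hL : ∀ y, (g : Mat) *ᵥ D.τ v y - D.τ v y = D.τ u (S y) := by
    intro y
    set d := (g : Mat) *ᵥ D.τ v y - D.τ v y with hddef
    have hperp : ∀ w, D.κ u w = 0 → B d w = 0 := fun w hw => by
      rw [hddef, map_sub, LinearMap.sub_apply, sub_eq_zero]
      conv_lhs => rw [← h w hw]
      rw [Symp.mem_spGL_iff.1 hg]
    refine D.pair_ext fun x z => ?_
    clear_value d
    have hx : B d (D.τ (x - D.f₁ x u • v) z) = 0 := hperp _ (by rw [D.κ_pure]; simp [hv])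
    rw [map_sub, LinearMap.sub_apply, map_sub, map_smul, LinearMap.smul_apply, map_smul, sub_eq_zero] at hx
    rw [hx, show S y = D.κ (-v) d by rw [hddef]; rfl]
    show D.f₁ x u • B d (D.τ v z) = B (D.τ u (D.κ (-v) d)) (D.τ x z)
    rw [D.pair, D.κ_spec, map_neg, LinearMap.neg_apply, map_neg, D.swap₁ x u, smul_eq_mul]
    ring
  refine ⟨S, fun q => by rw [hd, hL], fun y y' => ?_⟩
  have e := Symp.mem_spGL_iff.1 hg (D.τ v y) (D.τ v y')
  rw [show (g : Mat) *ᵥ D.τ v y = D.τ v y + D.τ u (S y) by rw [← hL, add_sub_cancel],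
    show (g : Mat) *ᵥ D.τ v y' = D.τ v y' + D.τ u (S y') by rw [← hL, add_sub_cancel]] at e
  simp only [map_add, LinearMap.add_apply, D.pair, D.alt, D.swap₁ v u, hv] at e
  linear_combination -e

theorem InS.symm (hsp : M ≤ Cfsg.spGL m F) {u : W₁} (hu : u ≠ 0) {S : W₂ →ₗ[F] W₂} (hS : D.InS M u S)
    (y y' : W₂) : D.f₂ (S y) y' = D.f₂ y (S y') := by
  obtain ⟨g, hg, h⟩ := hS
  obtain ⟨v, hv⟩ := D.exists_one₁ hu
  obtain ⟨S', h', hs'⟩ := central_form (hsp hg) hv fun w hw => by rw [h, hw, map_zero, map_zero, add_zero]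
  have hSS : ∀ z, S z = S' z := fun z => by
    have e := h' (D.τ v z)
    rw [h, add_right_inj, D.κ_pure, hv, one_smul] at e
    exact sub_eq_zero.1 (D.tau_right hu (by rw [map_sub, e, sub_self]))
  rw [hSS, hSS, hs']

/-- two elements of the radical have a central commutator -/
theorem InS.of_comm (hsp : M ≤ Cfsg.spGL m F) {u v : W₁} (hv : D.f₁ v u = 1) {g h : GLm} (hg : g ∈ M)
    (hh : h ∈ M) (hgR : g ∈ D.Rad u) (hhR : h ∈ D.Rad u) {S : W₂ →ₗ[F] W₂}
    (hS : ∀ y, ((g * h : GLm) : Mat) *ᵥ D.τ v y - ((h * g : GLm) : Mat) *ᵥ D.τ v y = D.τ u (S y)) :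
    D.InS M u S := by
  set c := g * h * (h * g)⁻¹ with hcdef
  have hc : c ∈ M := mul_mem (mul_mem hg hh) (inv_mem (mul_mem hh hg))
  have hmul : ∀ q, (c : Mat) *ᵥ (((h * g : GLm) : Mat) *ᵥ q) = ((g * h : GLm) : Mat) *ᵥ q := fun q => by
    rw [← mulVec_mul_GL, hcdef, inv_mul_cancel_right]
  have hhg : h * g ∈ D.Rad u := mul_mem hhR hgR
  have hfix : ∀ w, D.κ u w = 0 → (c : Mat) *ᵥ w = w := by
    intro w hw
    set q := (((h * g)⁻¹ : GLm) : Mat) *ᵥ w
    have hq : D.κ u q = 0 := by rw [κ_fix (inv_mem hhg).1 (inv_mem hhg).2.1, hw]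
    obtain ⟨lg, hlg⟩ := hgR.2.2 q hq
    obtain ⟨lh, hlh⟩ := hhR.2.2 q hq
    have e1 : ((g * h : GLm) : Mat) *ᵥ q = q + D.τ u lg + D.τ u lh := by
      rw [mulVec_mul_GL, show (h : Mat) *ᵥ q = q + D.τ u lh by rw [hlh, add_sub_cancel], mulVec_add, hgR.2.1,
        hlg, add_sub_cancel]
    have e2 : ((h * g : GLm) : Mat) *ᵥ q = q + D.τ u lh + D.τ u lg := by
      rw [mulVec_mul_GL, show (g : Mat) *ᵥ q = q + D.τ u lg by rw [hlg, add_sub_cancel], mulVec_add, hhR.2.1,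
        hlh, add_sub_cancel]
    rw [show w = ((h * g : GLm) : Mat) *ᵥ q from (mulVec_inv_cancel _ _).symm, hmul, e1, e2]
    abel
  obtain ⟨S', hS', -⟩ := central_form (hsp hc) hv hfix
  refine ⟨c, hc, fun q => ?_⟩
  rw [hS']
  congr 2
  set y := D.κ u q
  have e := hS' (((h * g : GLm) : Mat) *ᵥ D.τ v y)
  rw [hmul, κ_fix hhg.1 hhg.2.1, D.κ_pure, hv, one_smul] at e
  have e2 := hS y
  rw [e, add_sub_cancel_left] at e2
  exact sub_eq_zero.1 (D.tau_right (u := u) (fun h => by rw [h, map_zero] at hv; exact zero_ne_one hv)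
    (by rw [map_sub, e2, sub_self]))

/-- non-scalar maps -/
def NonScalar (S : (Fin n → F) →ₗ[F] (Fin n → F)) : Prop := ¬ ∃ c : F, ∀ y, S y = c • y

/-- the anticommutator of a non-zero skew map with some conjugate of it is not scalar -/
theorem exists_refl_anticomm (h2 : (2 : F) ≠ 0) {J : W₂ →ₗ[F] W₂} (hJ : ∀ y z, D.f₂ (J y) z = - D.f₂ y (J z))
    (hJ0 : J ≠ 0) {c : F} (hc : ∀ z, J (J z) = c • z) :
    ∃ y, D.f₂ y y ≠ 0 ∧
      NonScalar (J.comp ((D.refl y).comp (J.comp (D.refl y))) + ((D.refl y).comp (J.comp (D.refl y))).comp J) := by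
  obtain ⟨x, hx⟩ : ∃ x, J x ≠ 0 := by
    by_contra h
    push Not at h
    exact hJ0 (LinearMap.ext h)
  obtain ⟨y₀, hy₀⟩ : ∃ y, D.f₂ y y ≠ 0 := by
    obtain ⟨a, ha⟩ := D.exists_ne₂
    obtain ⟨b, hb⟩ := D.exists_one₂ ha
    by_contra h
    push Not at h
    have := h (a + b)
    simp only [map_add, LinearMap.add_apply, h a, h b, D.symm b a, hb] at this
    exact h2 (by linear_combination this)
  obtain ⟨y, hy, hJy⟩ : ∃ y, D.f₂ y y ≠ 0 ∧ J y ≠ 0 := by
    by_cases hx' : D.f₂ x x ≠ 0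
    · exact ⟨x, hx', hx⟩
    by_cases hy0 : J y₀ ≠ 0
    · exact ⟨y₀, hy₀, hy0⟩
    push Not at hx' hy0
    by_cases h1 : D.f₂ (x + y₀) (x + y₀) ≠ 0
    · exact ⟨x + y₀, h1, by rwa [map_add, hy0, add_zero]⟩
    push Not at h1
    refine ⟨x - y₀, fun h => ?_, by rwa [map_sub, hy0, sub_zero]⟩
    simp only [map_add, map_sub, LinearMap.add_apply, LinearMap.sub_apply, D.symm y₀ x, hx'] at h1 h
    exact mul_ne_zero h2 hy₀ (by linear_combination h1 + h)
  refine ⟨y, hy, fun ⟨d, hd⟩ => ?_⟩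
  set γ := D.f₂ y y
  set a := J y with ha
  have hay : D.f₂ a y = 0 := by
    have := hJ y y
    rw [D.symm y, ← ha] at this
    exact (mul_eq_zero.1 (show (2 : F) * D.f₂ a y = 0 by linear_combination this)).resolve_left h2
  have hJa : J a = c • y := hc y
  have key : ∀ z, J (D.refl y (J (D.refl y z))) + D.refl y (J (D.refl y (J z))) =
      (2 * c) • z + (4 / γ) • (D.f₂ z a • a - (c * D.f₂ z y) • y) := by
    intro z
    have e1 : D.f₂ (J z) y = - D.f₂ z a := hJ z y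
    have e2 : D.f₂ (c • z) y = c * D.f₂ z y := by rw [map_smul, LinearMap.smul_apply, smul_eq_mul]
    simp only [refl_apply, map_sub, map_smul, ← ha, hJa, hc, LinearMap.sub_apply, LinearMap.smul_apply,
      smul_eq_mul, hay, e1]
    match_scalars <;> ring
  -- a vector orthogonal to both `y` and `a`
  obtain ⟨z, hz0, hz⟩ : ∃ z : W₂, z ≠ 0 ∧ (D.f₂.flip y).prod (D.f₂.flip a) z = 0 := by
    obtain ⟨z, hz, hz0⟩ := Submodule.exists_mem_ne_zero_of_ne_bot
      (p := LinearMap.ker ((D.f₂.flip y).prod (D.f₂.flip a))) fun e => by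
        have := LinearMap.finrank_le_finrank_of_injective (LinearMap.ker_eq_bot.1 e)
        rw [Module.finrank_fintype_fun_eq_card, Fintype.card_fin, Module.finrank_prod, Module.finrank_self] at this
        have := D.three_le
        omega
    exact ⟨z, hz0, hz⟩
  obtain ⟨hzy, hza⟩ := Prod.ext_iff.1 hz
  change D.f₂ z y = 0 at hzy
  change D.f₂ z a = 0 at hza
  have e1 := hd z
  simp only [LinearMap.add_apply, LinearMap.comp_apply, key, hzy, hza, mul_zero, zero_smul, sub_zero, smul_zero,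
    add_zero] at e1
  obtain rfl : 2 * c = d := smul_left_injective F hz0 e1
  have e2 : ∀ z, D.f₂ z a • a - (c * D.f₂ z y) • y = 0 := fun z => by
    have := hd z
    simp only [LinearMap.add_apply, LinearMap.comp_apply, key, add_eq_left] at this
    refine (smul_eq_zero.1 this).resolve_left (div_ne_zero ?_ hy)
    rw [show (4 : F) = 2 * 2 by norm_num]
    exact mul_ne_zero h2 h2
  have e3 := e2 y
  rw [D.symm y a, hay, zero_smul, zero_sub, neg_eq_zero, smul_eq_zero] at e3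
  have hc0 : c = 0 := by
    rcases e3 with h | h
    · exact (mul_eq_zero.1 h).resolve_right hy
    · exact absurd (show D.f₂ y y = 0 by rw [h, map_zero]) hy
  obtain ⟨b, hb⟩ := D.exists_one₂ hJy
  have e4 := e2 b
  rw [hc0, zero_mul, zero_smul, sub_zero, D.symm b a, hb, one_smul] at e4
  exact hJy e4

/-- a new element of a radical yields a non-scalar central element -/
theorem exists_InS (h2 : (2 : F) ≠ 0) (hle : D.H ≤ M) (hsp : M ≤ Cfsg.spGL m F) {u : W₁} (hu : u ≠ 0) {x : GLm}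
    (hx : x ∈ M) (hxR : x ∈ D.Rad u) (hxH : x ∉ D.H) :
    ∃ S, D.InS M u S ∧ NonScalar S := by
  obtain ⟨v, hv⟩ := D.exists_one₁ hu
  have huv : D.f₁ u (-v) = 1 := by rw [map_neg, D.swap₁ v u, hv, neg_neg]
  have hxs := Symp.mem_spGL_iff.1 hxR.1
  -- the action on the annihilator
  let φ : W₁ → W₂ →ₗ[F] W₂ := fun w => (D.κ (-v)).comp ((Matrix.toLin' (x : Mat) - LinearMap.id).comp (D.τ w))
  have hφ : ∀ w, D.f₁ w u = 0 → ∀ y, (x : Mat) *ᵥ D.τ w y = D.τ w y + D.τ u (φ w y) := by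
    intro w hw y
    obtain ⟨l, hl⟩ := hxR.2.2 (D.τ w y) (by rw [D.κ_pure, hw, zero_smul])
    have e : φ w y = l := by
      show D.κ (-v) ((x : Mat) *ᵥ D.τ w y - D.τ w y) = l
      rw [← hl, D.κ_pure, huv, one_smul]
    rw [e, hl, add_sub_cancel]
  let N : W₂ →ₗ[F] Vec := (Matrix.toLin' (x : Mat) - LinearMap.id).comp (D.τ v)
  have hN : ∀ y, N y = (x : Mat) *ᵥ D.τ v y - D.τ v y := fun _ => rfl
  have hNu : ∀ y, D.κ u (N y) = 0 := fun y => by
    rw [hN, map_sub, κ_fix hxR.1 hxR.2.1, sub_self]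
  have hadj : ∀ w, D.f₁ w u = 0 → ∀ y y', D.f₂ (D.κ w (N y)) y' = - D.f₂ y (φ w y') := by
    intro w hw y y'
    have e := hxs (D.τ v y) (D.τ w y')
    rw [hφ w hw, show (x : Mat) *ᵥ D.τ v y = D.τ v y + N y by rw [hN, add_sub_cancel]] at e
    simp only [map_add, LinearMap.add_apply] at e
    rw [← D.κ_spec u (N y), hNu, map_zero, LinearMap.zero_apply, add_zero, ← D.κ_spec w (N y), D.pair, D.pair,
      hv, one_mul] at e
    linear_combination e
  -- commutators with the Siegel elements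
  have hcomm : ∀ w, D.f₁ w u = 0 → D.InS M u (φ w - (D.κ w).comp N) := by
    intro w hw
    refine InS.of_comm hsp hv hx (hle (D.R_mem u w hw)) hxR (D.R_mem_Rad u w hw) fun y => ?_
    have e1 : ((x * D.R u w hw : GLm) : Mat) *ᵥ D.τ v y =
        D.τ v y + N y + (D.τ w y + D.τ u (φ w y)) + D.f₁ v w • D.τ u y := by
      rw [mulVec_mul_GL, D.R_pure, hv, one_smul, map_add, map_add, map_smul, LinearMap.add_apply,
        LinearMap.add_apply, LinearMap.smul_apply, mulVec_add, mulVec_add, mulVec_smul, hφ w hw, hxR.2.1]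
      rw [hN, add_sub_cancel]
      abel
    have e2 : ((D.R u w hw * x : GLm) : Mat) *ᵥ D.τ v y =
        D.τ v y + (D.τ w y + D.f₁ v w • D.τ u y) + (N y + D.τ u (D.κ w (N y))) := by
      rw [mulVec_mul_GL, show (x : Mat) *ᵥ D.τ v y = D.τ v y + N y by rw [hN, add_sub_cancel], mulVec_add, D.R_pure,
        D.R_apply _ _ hw (N y), hNu, map_zero, zero_add, hv, one_smul]
      simp only [map_add, map_smul, LinearMap.add_apply, LinearMap.smul_apply]
    rw [e1, e2, LinearMap.sub_apply, LinearMap.comp_apply, map_sub]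
    abel
  by_cases hsym : ∃ w, D.f₁ w u = 0 ∧
      NonScalar (φ w - (D.κ w).comp N)
  · obtain ⟨w, hw, hns⟩ := hsym
    exact ⟨_, hcomm w hw, hns⟩
  have hscal : ∀ w, D.f₁ w u = 0 → ∃ s : F, ∀ y, φ w y - D.κ w (N y) = (2 * s) • y := fun w hw => by
    by_contra h
    refine hsym ⟨w, hw, fun ⟨c, hc⟩ => h ⟨c / 2, fun y => ?_⟩⟩
    rw [mul_div_cancel₀ c h2]
    exact hc y
  by_cases hall : ∀ w, D.f₁ w u = 0 → ∃ s : F, ∀ y, φ w y = s • y
  · -- remove the scalar part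
    obtain ⟨y₀, hy₀⟩ := D.exists_ne₂
    obtain ⟨z₀, hz₀⟩ := D.exists_one₂ hy₀
    let σ : W₁ →ₗ[F] F :=
      ((D.f₂.flip z₀).comp (D.κ (-v))).comp ((Matrix.toLin' (x : Mat) - LinearMap.id).comp (D.τ.flip y₀))
    set w₀ := D.dual₁.symm σ
    have hw₀ : ∀ w, D.f₁ w₀ w = σ w := fun w => LinearMap.congr_fun (D.dual₁.apply_symm_apply σ) w
    have hw₀u : D.f₁ w₀ u = 0 := by
      rw [hw₀]
      show D.f₂ (D.κ (-v) ((x : Mat) *ᵥ D.τ u y₀ - D.τ u y₀)) z₀ = 0
      rw [hxR.2.1, sub_self, map_zero, map_zero]; rfl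
    set x' := x * D.R u w₀ hw₀u
    have hx'M : x' ∈ M := mul_mem hx (hle (D.R_mem u w₀ hw₀u))
    have hx'H : x' ∉ D.H := fun h => hxH (by simpa [x'] using mul_mem h (inv_mem (D.R_mem u w₀ hw₀u)))
    have hfix : ∀ q, D.κ u q = 0 → (x' : Mat) *ᵥ q = q := by
      intro q hq
      let P : Vec →ₗ[F] Vec := LinearMap.id - (D.τ v).comp (D.κ u)
      have h0 : (Matrix.toLin' (x' : Mat)).comp P = P := D.ext_pure fun w y => by
        show (x' : Mat) *ᵥ (D.τ w y - D.τ v (D.κ u (D.τ w y))) = D.τ w y - D.τ v (D.κ u (D.τ w y))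
        have hw1 : D.f₁ (w - D.f₁ w u • v) u = 0 := by simp [hv]
        rw [D.κ_pure, map_smul, show D.τ w y - D.f₁ w u • D.τ v y = D.τ (w - D.f₁ w u • v) y by simp]
        set w₁ := w - D.f₁ w u • v
        obtain ⟨s, hs⟩ := hall w₁ hw1
        have hσ : σ w₁ = s := by
          show D.f₂ (D.κ (-v) ((x : Mat) *ᵥ D.τ w₁ y₀ - D.τ w₁ y₀)) z₀ = s
          rw [hφ w₁ hw1, add_sub_cancel_left, hs, D.κ_pure, huv, one_smul, map_smul, LinearMap.smul_apply, hz₀,
            smul_eq_mul, mul_one]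
        rw [mulVec_mul_GL, D.R_pure, hw1, zero_smul, zero_add, map_add, map_smul, LinearMap.add_apply,
          LinearMap.smul_apply, mulVec_add, mulVec_smul, hφ w₁ hw1, hxR.2.1, hs, map_smul, D.swap₁ w₀ w₁, hw₀, hσ]
        module
      have e := LinearMap.congr_fun h0 q
      have hP : P q = q := by show q - D.τ v (D.κ u q) = q; rw [hq, map_zero, sub_zero]
      rw [LinearMap.comp_apply, hP] at e
      exact e
    obtain ⟨S, hS, -⟩ := central_form (hsp hx'M) hv hfix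
    refine ⟨S, ⟨x', hx'M, hS⟩, fun ⟨c, hc⟩ => hx'H ?_⟩
    have : x' = D.T u c := gl_ext fun q => by rw [hS, hc, map_smul, D.T_apply]
    rw [this]; exact D.T_mem u c
  -- a skew part survives
  push Not at hall
  obtain ⟨w, hw, hns⟩ := hall
  set p := w - D.f₁ v w • u with hpdef
  have hpu : D.f₁ p u = 0 := by simp [hpdef, hw, D.alt]
  have hvp : D.f₁ v p = 0 := by simp [hpdef, hv]
  have hφp : ∀ y, φ p y = φ w y := fun y => by
    show D.κ (-v) ((x : Mat) *ᵥ D.τ p y - D.τ p y) = D.κ (-v) ((x : Mat) *ᵥ D.τ w y - D.τ w y)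
    congr 1
    simp [hpdef, map_sub, mulVec_sub, mulVec_smul, hxR.2.1]
  have hp0 : p ≠ 0 := fun e => by
    obtain ⟨y, hy⟩ := hns 0
    rw [← hφp, zero_smul] at hy
    exact hy (by simp [φ, e])
  set K := φ p with hKdef
  obtain ⟨s, hs⟩ := hscal p hpu
  set J := K - s • LinearMap.id with hJdef
  have hKJ : ∀ y, K y = s • y + J y := fun y => by simp [hJdef]
  have hJskew : ∀ y z, D.f₂ (J y) z = - D.f₂ y (J z) := fun y z => by
    have e := congrArg (fun q => D.f₂ q z) (hs y)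
    simp only [map_sub, LinearMap.sub_apply, map_smul, LinearMap.smul_apply, smul_eq_mul,
      hadj p hpu y z] at e
    change D.f₂ (K y) z - - D.f₂ y (K z) = _ at e
    rw [hKJ y, hKJ z, map_add, LinearMap.add_apply, map_add, map_smul, map_smul, LinearMap.smul_apply,
      smul_eq_mul] at e
    linear_combination e
  have hJ0 : J ≠ 0 := fun e => by
    obtain ⟨y, hy⟩ := hns s
    rw [← hφp, hKJ, e] at hy
    simp at hy
  obtain ⟨p', hp'u, hp'v, hpp'⟩ : ∃ p', D.f₁ p' u = 0 ∧ D.f₁ p' v = 0 ∧ D.f₁ p p' = 1 := by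
    obtain ⟨q, hq⟩ := D.exists_one₁ hp0
    refine ⟨-(q - D.f₁ q u • v + D.f₁ q v • u), by simp [hv, D.alt], by simp [D.alt, D.swap₁ v u, hv], ?_⟩
    simp [hpu, D.swap₁ v p, hvp, D.swap₁ q p, hq]
  have hpk : ∀ (g : GLm), g ∈ D.Rad u → ∀ q, D.κ u q = 0 → D.κ p ((g : Mat) *ᵥ q) = D.κ p q := by
    intro g hg q hq
    obtain ⟨l, hl⟩ := hg.2.2 q hq
    rw [show (g : Mat) *ᵥ q = q + D.τ u l by rw [hl, add_sub_cancel], map_add, D.κ_pure, D.swap₁ p u, hpu,
      neg_zero, zero_smul, add_zero]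
  -- the first element
  set g₁ := D.T p 1 * x * (D.T p 1)⁻¹ * x⁻¹ with hg₁def
  have hTu : ∀ y, (D.T p 1 : Mat) *ᵥ D.τ u y = D.τ u y := fun y => by
    rw [D.T_pure, D.swap₁ p u, hpu]; simp
  have hTp : ∀ t q, (D.T p t : Mat) *ᵥ q = q + t • D.τ p (D.κ p q) := fun t q => D.T_apply p t q
  have hg₁ : ∀ q, D.κ u q = 0 → (g₁ : Mat) *ᵥ q = q - D.τ u (K (D.κ p q)) := by
    intro q hq
    set q₀ := ((x⁻¹ : GLm) : Mat) *ᵥ q
    have hq₀ : D.κ u q₀ = 0 := by rw [κ_fix (inv_mem hxR).1 (inv_mem hxR).2.1, hq]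
    have hκ : D.κ p q₀ = D.κ p q := hpk _ (inv_mem hxR) q hq
    rw [hg₁def, mulVec_mul_GL, mulVec_mul_GL, mulVec_mul_GL,
      show ((D.T p 1)⁻¹ : GLm) = D.T p (-1) from inv_eq_of_mul_eq_one_right (by rw [D.T_mul, add_neg_cancel, D.T_zero]),
      hTp (-1), mulVec_add, mulVec_smul, hφ p hpu, mulVec_inv_cancel, ← hKdef, hκ]
    simp only [mulVec_add, mulVec_smul, hTu, hTp 1 q, hTp 1 (D.τ p _), D.κ_pure, D.alt, zero_smul, map_zero,
      smul_zero, add_zero]
    module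
  have hg₁M : g₁ ∈ M := mul_mem (mul_mem (mul_mem (hle (D.T_mem p 1)) hx) (inv_mem (hle (D.T_mem p 1)))) (inv_mem hx)
  have hg₁R : g₁ ∈ D.Rad u := by
    refine D.mem_Rad.2 ⟨hsp hg₁M, fun y => ?_, fun q hq => ?_⟩
    · rw [hg₁ _ (by rw [D.κ_pure, D.alt, zero_smul]), D.κ_pure, D.swap₁ p u, hpu, neg_zero, zero_smul, map_zero,
        map_zero, sub_zero]
    · rw [hg₁ q hq, sub_sub_cancel_left]
      exact neg_mem (D.tau_mem_L u _)
  clear_value g₁
  -- pairing the moves with the action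
  have adj2 : ∀ (g : GLm) (p : W₁) (K : W₂ →ₗ[F] W₂), g ∈ D.Rad u →
      (∀ q, D.κ u q = 0 → (g : Mat) *ᵥ q = q - D.τ u (K (D.κ p q))) →
      ∀ w, D.f₁ w u = 0 → ∀ y y', D.f₂ (D.κ w ((g : Mat) *ᵥ D.τ v y - D.τ v y)) y' =
        D.f₁ w p * D.f₂ y (K y') := by
    intro g p K hg hgq w hw y y'
    have e := Symp.mem_spGL_iff.1 hg.1 (D.τ v y) (D.τ w y')
    have e' : B ((g : Mat) *ᵥ D.τ v y) (D.τ u (K y')) = D.f₂ y (K y') := by
      rw [← D.κ_spec, κ_fix hg.1 hg.2.1, D.κ_pure, hv, one_smul]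
    rw [hgq (D.τ w y') (by rw [D.κ_pure, hw, zero_smul]), D.κ_pure, map_smul, map_smul, map_sub, map_smul, e',
      smul_eq_mul, D.pair] at e
    rw [D.κ_spec, map_sub, LinearMap.sub_apply, D.pair]
    linear_combination e
  -- the second element
  have main : ∀ b : W₂ →ₗ[F] W₂, ∀ hb : (∀ y y', D.f₂ (b y) (b y') = D.f₂ y y'), ∀ bi : W₂ →ₗ[F] W₂,
      (∀ y, b (bi y) = y) → D.InS M u (J.comp (b.comp (J.comp bi)) + (b.comp (J.comp bi)).comp J - (2 * s * s) • LinearMap.id) := by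
    intro b hb bi hbi
    set J' := b.comp (J.comp bi) with hJ'def
    set K' := s • LinearMap.id + J' with hK'def
    set a := D.T (p' - p) 1
    have ha : a ∈ D.H := D.T_mem _ _
    set kb := D.krOne b hb * a
    have hkb : kb ∈ D.H := mul_mem (D.krOne_mem b hb) ha
    have hau : D.f₁ u (p' - p) = 0 := by rw [map_sub, D.swap₁ p' u, D.swap₁ p u, hp'u, hpu]; simp
    have hku : ∀ y, (kb : Mat) *ᵥ D.τ u y = D.τ u (b y) := fun y => by
      rw [mulVec_mul_GL, D.T_pure, hau, mul_zero, zero_smul, add_zero, krOne_pure]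
    have hκp : ∀ q, D.κ p' ((kb : Mat) *ᵥ q) = b (D.κ p q) := fun q => by
      rw [mulVec_mul_GL, κ_krOne]
      congr 1
      refine D.κ_eq fun y => ?_
      have hmove : (a : Mat) *ᵥ D.τ p y = D.τ p' y := by
        rw [D.T_pure, map_sub, D.alt, hpp']; simp
      rw [← hmove, Symp.mem_spGL_iff.1 ha.1, D.κ_spec]
    set g₂ := kb * g₁ * kb⁻¹
    have hu' : ∀ q, D.κ u q = 0 → D.κ u (((kb⁻¹ : GLm) : Mat) *ᵥ q) = 0 := fun q hq => D.κ_eq fun y => by
      rw [map_zero, LinearMap.zero_apply, ← Symp.mem_spGL_iff.1 hkb.1, mulVec_inv_cancel, hku, ← D.κ_spec, hq,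
        map_zero, LinearMap.zero_apply]
    have hg₂ : ∀ q, D.κ u q = 0 → (g₂ : Mat) *ᵥ q = q - D.τ u (K' (D.κ p' q)) := by
      intro q hq
      have hb' : b (D.κ p (((kb⁻¹ : GLm) : Mat) *ᵥ q)) = D.κ p' q := by rw [← hκp, mulVec_inv_cancel]
      have hbinj : Function.Injective b := LinearMap.injective_iff_surjective.2 (isom_surjective hb)
      have hbi' : bi (D.κ p' q) = D.κ p (((kb⁻¹ : GLm) : Mat) *ᵥ q) := hbinj (by rw [hbi, hb'])
      rw [mulVec_mul_GL, mulVec_mul_GL, hg₁ _ (hu' q hq), mulVec_sub, hku, mulVec_inv_cancel, hKJ]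
      congr 2
      simp [hK'def, hJ'def, hbi']
      rw [← Matrix.coe_units_inv, hb']
    have hg₂M : g₂ ∈ M := mul_mem (mul_mem (hle hkb) hg₁M) (inv_mem (hle hkb))
    have hg₂R : g₂ ∈ D.Rad u := by
      refine D.mem_Rad.2 ⟨hsp hg₂M, fun y => ?_, fun q hq => ?_⟩
      · rw [hg₂ _ (by rw [D.κ_pure, D.alt, zero_smul]), D.κ_pure, D.swap₁ p' u, hp'u, neg_zero, zero_smul,
          map_zero, map_zero, sub_zero]
      · rw [hg₂ q hq, sub_sub_cancel_left]
        exact neg_mem (D.tau_mem_L u _)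
    clear_value g₂
    have hJ'skew : ∀ y z, D.f₂ (J' y) z = - D.f₂ y (J' z) := fun y z => by
      show D.f₂ (b (J (bi y))) z = - D.f₂ y (b (J (bi z)))
      conv_lhs => rw [← hbi z]
      conv_rhs => rw [← hbi y]
      rw [hb, hb, hJskew]
    refine InS.of_comm hsp hv hg₁M hg₂M hg₁R hg₂R fun y => ?_
    set N₁ := (g₁ : Mat) *ᵥ D.τ v y - D.τ v y
    set N₂ := (g₂ : Mat) *ᵥ D.τ v y - D.τ v y
    have hN₁ : D.κ u N₁ = 0 := by rw [map_sub, κ_fix hg₁R.1 hg₁R.2.1, sub_self]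
    have hN₂ : D.κ u N₂ = 0 := by rw [map_sub, κ_fix hg₂R.1 hg₂R.2.1, sub_self]
    have hpN₂ : D.κ p N₂ = s • y - J' y := sub_eq_zero.1 (D.nd₂ _ fun z => by
      rw [map_sub, LinearMap.sub_apply, adj2 g₂ p' K' hg₂R hg₂ p hpu, hpp', one_mul]
      simp [hK'def, hJ'skew y z])
    have hpN₁ : D.κ p' N₁ = -(s • y - J y) := sub_eq_zero.1 (D.nd₂ _ fun z => by
      rw [map_sub, LinearMap.sub_apply, adj2 g₁ p K hg₁R hg₁ p' hp'u, D.swap₁ p p', hpp', hKJ]
      simp [hJskew y z])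
    rw [mulVec_mul_GL, mulVec_mul_GL,
      show (g₂ : Mat) *ᵥ D.τ v y = D.τ v y + N₂ by simp [N₂],
      show (g₁ : Mat) *ᵥ D.τ v y = D.τ v y + N₁ by simp [N₁], mulVec_add, mulVec_add, hg₁ _ hN₂, hg₂ _ hN₁,
      show (g₂ : Mat) *ᵥ D.τ v y = D.τ v y + N₂ by simp [N₂],
      show (g₁ : Mat) *ᵥ D.τ v y = D.τ v y + N₁ by simp [N₁], hpN₂, hpN₁, hKJ]
    simp only [hK'def, LinearMap.add_apply, LinearMap.sub_apply, LinearMap.smul_apply, LinearMap.id_apply,
      LinearMap.comp_apply, map_add, map_sub, map_neg, map_smul]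
    module
  have lift : ∀ (X : W₂ →ₗ[F] W₂) (c : F), NonScalar X → NonScalar (X - c • LinearMap.id) := fun X c hX ⟨d, hd⟩ =>
    hX ⟨d + c, fun y => by
      have e := hd y
      rw [LinearMap.sub_apply, LinearMap.smul_apply, LinearMap.id_apply, sub_eq_iff_eq_add] at e
      rw [e, add_smul]⟩
  by_cases hJJ : NonScalar (J.comp (LinearMap.id.comp (J.comp LinearMap.id)) + (LinearMap.id.comp (J.comp LinearMap.id)).comp J)
  · exact ⟨_, main LinearMap.id (fun _ _ => rfl) LinearMap.id (fun _ => rfl), lift _ _ hJJ⟩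
  unfold NonScalar at hJJ
  push Not at hJJ
  obtain ⟨c, hc⟩ := hJJ
  obtain ⟨y, hy, hns⟩ := exists_refl_anticomm h2 hJskew hJ0 (c := c / 2) fun z => by
    have := hc z
    simp at this
    rw [div_eq_inv_mul, ← smul_smul, ← this, ← two_smul F (J (J z)), smul_smul, inv_mul_cancel₀ h2, one_smul]
  exact ⟨_, main (D.refl y) (refl_isom hy) (D.refl y) (refl_refl hy), lift _ _ hns⟩

end Data

end Cfsg.Agent.Forms.Max.SympTensor
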