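import Cfsg.Agent.Lib.Forms.Max.SympTensor.Pairs

/-!
# `W₁ ⊗ W₂` with `W₁` of dimension two: pairs and unipotent elements
-/

set_option autoImplicit false
set_option linter.unusedSectionVars false

namespace Cfsg.Agent.Forms.Max.SympTensor

open Matrix Cfsg.Agent.Forms.SympStd

variable {F : Type*} [Field F] {m n : ℕ}

local notation "Vec" => (Fin m ⊕ Fin m → F)
local notation "GLm" => GL (Fin m ⊕ Fin m) F
local notation "Mat" => Matrix (Fin m ⊕ Fin m) (Fin m ⊕ Fin m) F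
local notation "B" => sympB m F
local notation "W₁" => (Fin 2 → F)
local notation "W₂" => (Fin n → F)

/-- powers of a matrix and eigenvectors -/
theorem pow_mulVec_eigen {ι : Type} [Fintype ι] [DecidableEq ι] {N : Matrix ι ι F} {x : ι → F} {c : F}
    (h : N *ᵥ x = c • x) (j : ℕ) : (N ^ j) *ᵥ x = c ^ j • x := by
  induction j with
  | zero => simp
  | succ j ih => rw [pow_succ', ← Matrix.mulVec_mulVec, ih, Matrix.mulVec_smul, h, smul_smul, pow_succ]

/-- the Fitting decomposition at a large exponent -/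
theorem exists_fitting {ι : Type} [Fintype ι] [DecidableEq ι] (N : Matrix ι ι F) :
    ∃ j, 3 ≤ j ∧ (∀ x, N ^ j *ᵥ (N ^ j *ᵥ x) = 0 → N ^ j *ᵥ x = 0) ∧
      ∀ x, ∃ p q, x = p + N ^ j *ᵥ q ∧ N ^ j *ᵥ p = 0 := by
  obtain ⟨j₀, hj₀⟩ := Filter.eventually_atTop.1 (Matrix.toLin' N).eventually_isCompl_ker_pow_range_pow
  refine ⟨max j₀ 3, le_max_right _ _, ?_, ?_⟩ <;>
    (have hc := hj₀ (max j₀ 3) (le_max_left _ _); rw [← Matrix.toLin'_pow] at hc; intro x)
  · intro hx
    exact (Submodule.eq_bot_iff _).1 hc.inf_eq_bot _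
      ⟨LinearMap.mem_ker.2 (by rw [Matrix.toLin'_apply]; exact hx), x, Matrix.toLin'_apply _ _⟩
  · obtain ⟨p, hp, q, ⟨q', rfl⟩, hpq⟩ := Submodule.mem_sup.1 (hc.sup_eq_top ▸ Submodule.mem_top (x := x))
    refine ⟨p, q', ?_, ?_⟩
    · rw [← hpq, Matrix.toLin'_apply]
    · rwa [LinearMap.mem_ker, Matrix.toLin'_apply] at hp

namespace Data

variable (D : Data F m 2 n)

theorem decomp₁ {u v : W₁} (hv : D.f₁ v u = 1) (x : W₁) : x = D.f₁ x u • v - D.f₁ x v • u := by
  have hind : LinearIndependent F ![u, v] := by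
    rw [LinearIndependent.pair_iff]
    intro s t hst
    have e1 := congrArg (fun q => D.f₁ q u) hst
    have e2 := congrArg (fun q => D.f₁ q v) hst
    simp only [map_add, map_smul, LinearMap.add_apply, LinearMap.smul_apply, smul_eq_mul, D.alt, hv, mul_zero,
      mul_one, zero_add, map_zero, LinearMap.zero_apply] at e1
    simp only [map_add, map_smul, LinearMap.add_apply, LinearMap.smul_apply, smul_eq_mul, D.alt, D.swap₁ v u, hv,
      mul_zero, add_zero, map_zero, LinearMap.zero_apply, mul_neg, mul_one, neg_eq_zero] at e2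
    exact ⟨e2, e1⟩
  have hspan : Submodule.span F (Set.range ![u, v]) = ⊤ :=
    hind.span_eq_top_of_card_eq_finrank (by simp)
  refine sub_eq_zero.1 (D.nd₁ _ fun y => ?_)
  have hy : y ∈ Submodule.span F (Set.range ![u, v]) := hspan ▸ Submodule.mem_top
  obtain ⟨c, rfl⟩ := (Submodule.mem_span_range_iff_exists_fun F).1 hy
  simp [Fin.sum_univ_two, D.alt, hv, D.swap₁ v u]
  ring

theorem decompV {u v : W₁} (hv : D.f₁ v u = 1) (q : Vec) :
    q = D.τ v (D.κ u q) - D.τ u (D.κ v q) := by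
  have h := LinearMap.congr_fun (D.ext_pure (L := LinearMap.id)
    (L' := (D.τ v).comp (D.κ u) - (D.τ u).comp (D.κ v)) fun x y => by
      rw [LinearMap.id_apply, LinearMap.sub_apply, LinearMap.comp_apply, LinearMap.comp_apply, D.κ_pure,
        D.κ_pure]
      conv_lhs => rw [D.decomp₁ hv x]
      simp only [map_sub, map_smul, LinearMap.sub_apply, LinearMap.smul_apply]) q
  exact h

theorem mem_L_of_κ {u : W₁} (hu : u ≠ 0) {q : Vec} (hq : D.κ u q = 0) : D.τ u (-(D.κ ((D.exists_one₁ hu).choose) q)) = q := by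
  conv_rhs => rw [D.decompV (D.exists_one₁ hu).choose_spec q, hq, map_zero, zero_sub]
  rw [map_neg]

theorem prop_two {u x : W₁} (hu : u ≠ 0) (h : D.f₁ x u = 0) : ∃ c : F, x = c • u := by
  obtain ⟨v, hv⟩ := D.exists_one₁ hu
  exact ⟨- D.f₁ x v, by
    conv_lhs => rw [D.decomp₁ hv x, h, zero_smul, zero_sub]
    rw [neg_smul]⟩

variable [Fintype F]

/-- the action of the central element on `u ⊗ W₂` -/
noncomputable def central (g : GL (Fin m ⊕ Fin m) F) (u : Fin 2 → F) : (Fin n → F) →ₗ[F] (Fin n → F) :=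
  (D.κ u).comp ((Matrix.toLin' (D.cdis g u)).comp (D.τ u))

theorem central_apply (g : GLm) (u : W₁) (y : W₂) :
    D.central g u y = D.κ u (D.cdis g u *ᵥ D.τ u y) := rfl

theorem cen_tau (g : GLm) (u : W₁) (y : W₂) :
    Pair.cen (D.dis u) (D.cdis g u) *ᵥ D.τ u y = D.τ u (D.central g u y) := by
  rw [Pair.cen, Matrix.add_mulVec, ← Matrix.mulVec_mulVec, ← Matrix.mulVec_mulVec, D.dis_mulVec u (D.τ u y),
    D.κ_pure, D.alt, zero_smul, map_zero, Matrix.mulVec_zero, add_zero, D.dis_mulVec, D.central_apply]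

theorem cen_pow_tau (g : GLm) (u : W₁) (j : ℕ) (y : W₂) :
    Pair.cen (D.dis u) (D.cdis g u) ^ j *ᵥ D.τ u y = D.τ u ((D.central g u ^ j) y) := by
  induction j with
  | zero => simp
  | succ j ih => rw [pow_succ', ← Matrix.mulVec_mulVec, ih, D.cen_tau, pow_succ', Module.End.mul_apply]

theorem dis_skew (u : W₁) (p q : Vec) : B (D.dis u *ᵥ p) q = - B p (D.dis u *ᵥ q) := by
  rw [D.dis_mulVec, D.dis_mulVec, Symp.B_swap, ← D.κ_spec, ← D.κ_spec, D.symm]

theorem cdis_skew {g : GLm} (hg : g ∈ Cfsg.spGL m F) (u : W₁) (p q : Vec) :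
    B (D.cdis g u *ᵥ p) q = - B p (D.cdis g u *ᵥ q) := by
  have e := D.dis_skew u (((g⁻¹ : GLm) : Mat) *ᵥ p) (((g⁻¹ : GLm) : Mat) *ᵥ q)
  rw [D.dis_mulVec, D.dis_mulVec, ← Symp.mem_spGL_iff.1 hg, ← Symp.mem_spGL_iff.1 hg (((g⁻¹ : GLm) : Mat) *ᵥ p),
    mulVec_inv_cancel, mulVec_inv_cancel] at e
  rwa [D.cdis_mulVec, D.cdis_mulVec]

theorem central_symm {g : GLm} (hg : g ∈ Cfsg.spGL m F) (u : W₁) (y y' : W₂) :
    D.f₂ (D.central g u y) y' = D.f₂ y (D.central g u y') := by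
  rw [D.symm y, D.central_apply, D.central_apply, D.κ_spec, D.κ_spec, D.cdis_skew hg, Symp.B_swap, neg_neg]

theorem central_pow_symm {g : GLm} (hg : g ∈ Cfsg.spGL m F) (u : W₁) (j : ℕ) (y y' : W₂) :
    D.f₂ ((D.central g u ^ j) y) y' = D.f₂ y ((D.central g u ^ j) y') := by
  induction j generalizing y y' with
  | zero => simp
  | succ j ih =>
    rw [pow_succ', Module.End.mul_apply, D.central_symm hg, ih, ← Module.End.mul_apply, ← pow_succ, pow_succ',
      Module.End.mul_apply]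

/-- the central element of a pair inside the stabiliser -/
theorem central_of_H {h : GLm} (hs : h ∈ Cfsg.spGL m F) {a : W₁ →ₗ[F] W₁} {b : W₂ →ₗ[F] W₂}
    (hab : ∀ x y, (h : Mat) *ᵥ D.τ x y = D.τ (a x) (b y)) {μ : F} (hμ : μ ≠ 0)
    (ha : ∀ x x', D.f₁ (a x) (a x') = μ * D.f₁ x x') (u : W₁) (y : W₂) :
    D.central h u y = (D.f₁ u (a u) / μ * D.f₁ (a u) u) • y := by
  have hc := congrArg (fun q : GLm => (q : Mat) *ᵥ D.τ u y) (D.conj_T hab hμ ha u 1)
  simp only [D.conj_coe, D.T_coe, Matrix.add_mulVec, one_smul, add_right_inj, Matrix.smul_mulVec,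
    D.dis_mulVec, D.κ_pure, map_smul, smul_smul] at hc
  rw [D.central_apply, hc, map_smul, D.κ_pure, smul_smul]
  congr 1
  ring

variable {D} {M : Subgroup (GL (Fin m ⊕ Fin m) F)}

/-- `p`-groups containing a transvection family fix its centre -/
theorem Tight.stab_of_pgroup (hM : D.Tight M) (p : ℕ) [Fact p.Prime] [CharP F p] (hp2 : p ≠ 2) (hex : D.Generic)
    {R : Subgroup GLm} (hR : IsPGroup p R) (hRM : R ≤ M) {u : W₁} (hu : u ≠ 0)
    (hT : ∀ t, D.T u t ∈ R) {h : GLm} (hh : h ∈ R) :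
    h ∈ D.H ∧ ∀ y, (h : Mat) *ᵥ D.τ u y ∈ D.L u := by
  have h2 : (2 : F) ≠ 0 := Ring.two_ne_zero (by rwa [ringChar.eq F p])
  have hH := hM.mem_of_pgroup p h2 hex hR hRM hu (hT 1) hh
  refine ⟨hH, ?_⟩
  obtain ⟨hs, a, b, hab⟩ := hH
  obtain ⟨μ, hμ, ha, -⟩ := D.exists_multiplier hs hab
  have hle : D.pairGroup h u ≤ R := by
    refine (Subgroup.closure_le _).2 ?_
    rintro x ⟨t, hx | hx⟩
    · rw [show x = D.T u t from Units.ext (hx.trans (D.T_coe u t).symm)]
      exact hT t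
    · rw [show x = h * D.T u t * h⁻¹ from Units.ext (hx.trans (D.conj_coe h u t).symm)]
      exact mul_mem (mul_mem hh (hT t)) (inv_mem hh)
  have hn : IsNilpotent (Pair.cen (D.dis u) (D.cdis h u)) := by
    by_contra hn
    obtain ⟨K, -⟩ := CompData.exists_of_not_nilpotent (D.dis_sq u) (D.cdis_sq h u) hn
    obtain ⟨z, hz, hz2, hz1⟩ := K.exists_involution p hp2
    obtain ⟨r, hr⟩ := (IsPGroup.iff_orderOf.1 hR) ⟨z, hle hz⟩
    rw [← Subgroup.orderOf_coe] at hr
    have ho := orderOf_eq_prime (p := 2) (by rw [sq]; exact hz2) hz1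
    rw [ho] at hr
    exact hp2 ((Nat.prime_dvd_prime_iff_eq Nat.prime_two Fact.out).1
      (Nat.prime_two.dvd_of_dvd_pow (dvd_of_eq hr))).symm
  obtain ⟨j, hj⟩ := hn
  obtain ⟨y₀, hy₀⟩ := D.exists_ne₂
  set c := D.f₁ u (a u) / μ * D.f₁ (a u) u
  have e := pow_mulVec_eigen (N := Pair.cen (D.dis u) (D.cdis h u)) (x := D.τ u y₀) (c := c)
    (by rw [D.cen_tau, D.central_of_H hs hab hμ ha, map_smul]) j
  rw [hj, Matrix.zero_mulVec, eq_comm] at e
  have hc : c = 0 := eq_zero_of_pow_eq_zero ((smul_eq_zero.1 e).resolve_right (D.tau_ne_zero hu hy₀))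
  have hau : D.f₁ (a u) u = 0 := by
    rcases mul_eq_zero.1 hc with h0 | h0
    · rw [D.swap₁, (div_eq_zero_iff.1 h0).resolve_right hμ, neg_zero]
    · exact h0
  obtain ⟨s, hs'⟩ := D.prop_two hu hau
  intro y
  rw [hab, hs', map_smul, LinearMap.smul_apply, ← map_smul]
  exact D.tau_mem_L u _

/-- a unipotent element `1 ⊗ b` of a pair is trivial where the central element is invertible -/
theorem Tight.fix_range (hM : D.Tight M) (p : ℕ) [Fact p.Prime] [CharP F p] (hp2 : p ≠ 2) {g : GLm}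
    (hg : g ∈ M) {u : W₁} (hu : u ≠ 0) {h : GLm} (hh : h ∈ D.pairGroup g u) {b : W₂ →ₗ[F] W₂}
    (hb : ∀ x y, (h : Mat) *ᵥ D.τ x y = D.τ x (b y)) {r : ℕ} (hr : h ^ p ^ r = 1) {j : ℕ} (hj : 3 ≤ j)
    (hinj : ∀ x, Pair.cen (D.dis u) (D.cdis g u) ^ j *ᵥ (Pair.cen (D.dis u) (D.cdis g u) ^ j *ᵥ x) = 0 →
      Pair.cen (D.dis u) (D.cdis g u) ^ j *ᵥ x = 0)
    (q : Vec) : (h : Mat) *ᵥ (Pair.cen (D.dis u) (D.cdis g u) ^ j *ᵥ q) =
      Pair.cen (D.dis u) (D.cdis g u) ^ j *ᵥ q := by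
  set e := D.dis u with hedef
  set f := D.cdis g u with hfdef
  set C := Pair.cen e f with hC
  have he : e * e = 0 := D.dis_sq u
  have hf : f * f = 0 := D.cdis_sq g u
  obtain ⟨v, hv⟩ := D.exists_one₁ hu
  obtain ⟨a', b', c', d', ha', hb', hc', hd', h1, h3⟩ := Pair.quad_of_mem he hf hh
  obtain ⟨ae, -, -⟩ := Pair.comm_of_mem he hf ha'
  obtain ⟨be, -, -⟩ := Pair.comm_of_mem he hf hb'
  obtain ⟨ce, cf, cC⟩ := Pair.comm_of_mem he hf hc'
  obtain ⟨de, df, dC⟩ := Pair.comm_of_mem he hf hd'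
  have eC : e * C = C * e := (Pair.comm_cen_left he hf).eq
  have fC : f * C = C * f := (Pair.comm_cen_right he hf).eq
  have hefe : e * f * e = C * e := by rw [hC, Pair.cen, add_mul, mul_assoc f e e, he, mul_zero, add_zero]
  have hhe : (h : Mat) * e = e * (h : Mat) := Matrix.ext_iff_mulVec.2 fun w => by
    have hhs := Symp.mem_spGL_iff.1 (hM.sp (hM.pairGroup_le hg u hh))
    rw [← Matrix.mulVec_mulVec, ← Matrix.mulVec_mulVec, hedef, D.dis_mulVec, D.dis_mulVec, hb]
    congr 1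
    have hbs : Function.Surjective b := LinearMap.injective_iff_surjective.1 ((injective_iff_map_eq_zero b).2
      fun z hz => by_contra fun hne => D.b_injective (a := LinearMap.id) hb hne hz)
    refine (D.κ_eq fun z => ?_).symm
    obtain ⟨z, rfl⟩ := hbs z
    obtain ⟨μ, -, hμ1, hμ2⟩ := D.exists_multiplier (hM.sp (hM.pairGroup_le hg u hh)) (a := LinearMap.id) hb
    have hμ : μ = 1 := by
      have := hμ1 v u
      rw [LinearMap.id_apply, LinearMap.id_apply, hv, mul_one] at this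
      exact this.symm
    rw [hμ2, hμ, inv_one, one_mul, ← hb, hhs, D.κ_spec]
  have key : c' * (f * e) - c' * (e * f) + d' * (C * e) = 0 := by
    have l : (h : Mat) * e = e + C * a' * e + c' * (f * e) + d' * (C * e) := by
      rw [h1]
      simp only [add_mul, one_mul, mul_assoc, he, mul_zero, add_zero]
      rw [← mul_assoc e f e, hefe]
    have r' : e * (h : Mat) = e + C * a' * e + c' * (e * f) := by
      rw [h1]
      simp only [mul_add, mul_one]
      rw [show e * (C * a') = C * a' * e by rw [← mul_assoc, eC, mul_assoc, ← ae.eq, mul_assoc],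
        show e * (b' * e) = 0 by rw [← mul_assoc, ← be.eq, mul_assoc, he, mul_zero],
        show e * (c' * f) = c' * (e * f) by rw [← mul_assoc, ← ce.eq, mul_assoc],
        show e * (d' * (e * f)) = 0 by rw [← mul_assoc, ← de.eq, mul_assoc, ← mul_assoc e e, he, zero_mul, mul_zero],
        add_zero, add_zero]
    rw [hhe, r'] at l
    linear_combination (norm := noncomm_ring) -l
  have hcCe : c' * (C * e) = 0 := by
    have := congrArg (· * e) key
    simp only [sub_mul, add_mul, zero_mul, mul_assoc, he, mul_zero, zero_sub, add_zero, neg_eq_zero] at this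
    rwa [← mul_assoc e f e, hefe] at this
  have hcC2 : c' * (C * C) = 0 := by
    conv_lhs => arg 2; arg 2; rw [hC, Pair.cen]
    rw [mul_add, mul_add, ← mul_assoc C e f, ← mul_assoc c' (C * e) f, hcCe, zero_mul, zero_add,
      ← mul_assoc C f e, ← fC, mul_assoc f C e, ← mul_assoc c' f, cf.eq, mul_assoc, hcCe, mul_zero]
  have hdCe : d' * (C * (C * (C * e))) = 0 := by
    have := congrArg (fun X => X * (C * C)) key
    simp only [sub_mul, add_mul, zero_mul] at this
    rw [show c' * (f * e) * (C * C) = 0 from ?_, show c' * (e * f) * (C * C) = 0 from ?_, sub_zero, zero_add] at this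
    · rw [← this, mul_assoc, mul_assoc, ← mul_assoc e C C, eC, mul_assoc C e C, eC]
    all_goals
      rw [mul_assoc, show ∀ X Y : Mat, X * C = C * X → Y * C = C * Y → X * Y * (C * C) = C * C * (X * Y) from
        fun X Y hX hY => by
          rw [mul_assoc X Y, ← mul_assoc Y C, hY, mul_assoc C Y, hY, ← mul_assoc X C, hX, mul_assoc C X,
            ← mul_assoc X C, hX, mul_assoc C X, mul_assoc], ← mul_assoc c', hcC2, zero_mul]
    exacts [eC, fC, fC, eC]
  -- the formulas on the range of `C ^ 3`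
  have h3r : ∀ x, (∃ z, x = C ^ 3 *ᵥ z) → (h : Mat) *ᵥ x = x + (C * a') *ᵥ x + (b' * e) *ᵥ x ∧
      ((h⁻¹ : GLm) : Mat) *ᵥ x = x + (C * a') *ᵥ x - (b' * e) *ᵥ x := by
    rintro x ⟨z, rfl⟩
    have c3 : c' * f * C ^ 3 = 0 := by
      rw [show C ^ 3 = C * C * C by rw [pow_succ, pow_two], cf.eq, mul_assoc, ← mul_assoc c' (C * C), hcC2,
        zero_mul, mul_zero]
    have e3 : e * C ^ 3 = C * (C * (C * e)) := by
      rw [((Pair.comm_cen_left he hf).pow_right 3).eq, show C ^ 3 = C * C * C by rw [pow_succ, pow_two]]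
      simp only [mul_assoc]
    have de3 : d' * (e * C ^ 3) = 0 := by rw [e3, hdCe]
    have d3 : d' * (e * f) * C ^ 3 = 0 := by
      rw [mul_assoc, mul_assoc e f, ((Pair.comm_cen_right he hf).pow_right 3).eq, ← mul_assoc e, ← mul_assoc d',
        de3, zero_mul]
    have d3' : d' * C * C ^ 3 = 0 := by
      rw [show C = e * f + f * e from rfl, mul_add, add_mul]
      change d' * (e * f) * C ^ 3 + d' * (f * e) * C ^ 3 = 0
      rw [d3, zero_add, ← mul_assoc d', df.eq, mul_assoc, mul_assoc, de3, mul_zero]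
    constructor
    · rw [h1]
      simp only [add_mul, one_mul, Matrix.add_mulVec, Matrix.mulVec_mulVec, c3, d3, Matrix.zero_mulVec, add_zero]
      rfl
    · rw [h3, ← hC]
      simp only [add_mul, sub_mul, one_mul, Matrix.add_mulVec, Matrix.sub_mulVec, Matrix.mulVec_mulVec, d3', c3, d3,
        Matrix.zero_mulVec, sub_zero, add_zero]
  -- `b` is trivial on the range of the cube of the central map
  set A := D.central g u
  have hY : ∀ y, b ((A ^ 3) y) = (A ^ 3) y := by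
    intro y
    set x := D.τ u ((A ^ 3) y) with hx
    have hxr : ∃ z, x = C ^ 3 *ᵥ z := ⟨D.τ u y, (D.cen_pow_tau g u 3 y).symm⟩
    have hex0 : (b' * e) *ᵥ x = 0 := by
      rw [← Matrix.mulVec_mulVec, hedef, D.dis_mulVec, hx, D.κ_pure, D.alt, zero_smul, map_zero, Matrix.mulVec_zero]
    obtain ⟨e1, e2⟩ := h3r x hxr
    rw [hex0, add_zero] at e1
    rw [hex0, sub_zero, ← e1] at e2
    have hsq : ((h ^ 2 : GLm) : Mat) *ᵥ x = x := by
      rw [pow_two, mulVec_mul_GL, ← e2, mulVec_inv_cancel]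
    have hfix : (h : Mat) *ᵥ x = x := by
      have hodd : Odd (p ^ r) := ((Fact.out : p.Prime).odd_of_ne_two hp2).pow
      obtain ⟨i, hi⟩ := hodd
      have hp' : ∀ l : ℕ, (((h ^ 2) ^ l : GLm) : Mat) *ᵥ x = x := fun l => by
        induction l with
        | zero => simp
        | succ l ih => rw [pow_succ, mulVec_mul_GL, hsq, ih]
      have e0 : ((h ^ p ^ r : GLm) : Mat) *ᵥ x = x := by rw [hr]; simp
      rwa [hi, pow_succ', pow_mul, mulVec_mul_GL, hp'] at e0
    rw [hx, hb] at hfix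
    exact sub_eq_zero.1 (D.tau_right hu (by rw [map_sub, hfix, sub_self]))
  set x := C ^ j *ᵥ q with hxdef
  obtain ⟨i, rfl⟩ : ∃ i, j = i + 3 := ⟨j - 3, by omega⟩
  have hyx : ∃ y, D.κ u x = (A ^ 3) y := by
    refine ⟨(A ^ i) (D.κ u q), ?_⟩
    rw [← Module.End.mul_apply, ← pow_add, add_comm 3 i]
    refine sub_eq_zero.1 (D.tau_right hu ?_)
    rw [map_sub, ← D.dis_mulVec, ← D.cen_pow_tau, ← D.dis_mulVec, sub_eq_zero, hxdef, Matrix.mulVec_mulVec,
      Matrix.mulVec_mulVec, ((Pair.comm_cen_left he hf).pow_right _).eq]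
  obtain ⟨y₁, hy₁⟩ := hyx
  set z := D.κ v x
  have hdiff : (h : Mat) *ᵥ x - x = D.τ u (-(b z - z)) := by
    conv_lhs => rw [D.decompV hv x, hy₁]
    rw [mulVec_sub, hb, hb, hY]
    simp only [map_sub, map_neg]
    abel
  have hperp : (A ^ 3) (-(b z - z)) = 0 := D.nd₂ _ fun w => by
    rw [D.central_pow_symm (hM.sp hg), map_neg, LinearMap.neg_apply, map_sub, LinearMap.sub_apply]
    obtain ⟨μ, -, hμ1, hμ2⟩ := D.exists_multiplier (hM.sp (hM.pairGroup_le hg u hh)) (a := LinearMap.id) hb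
    have hμ : μ = 1 := by
      have := hμ1 v u
      rw [LinearMap.id_apply, LinearMap.id_apply, hv, mul_one] at this
      exact this.symm
    have e := hμ2 z ((A ^ 3) w)
    rw [hY, hμ, inv_one, one_mul] at e
    rw [e, sub_self, neg_zero]
  obtain ⟨q', hq'⟩ : ∃ q', (h : Mat) *ᵥ x - x = C ^ (i + 3) *ᵥ q' := by
    refine ⟨(h : Mat) *ᵥ q - q, ?_⟩
    rw [hxdef, Matrix.mulVec_sub, Matrix.mulVec_mulVec, Matrix.mulVec_mulVec,
      ((Pair.comm_cenAlg he hf hh (pow_mem (Pair.cen_mem) (i + 3))).symm).eq]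
  have hz0 : C ^ (i + 3) *ᵥ (C ^ (i + 3) *ᵥ q') = 0 := by
    rw [← hq', hdiff, pow_add, ← Matrix.mulVec_mulVec, D.cen_pow_tau g u 3, hperp, map_zero, Matrix.mulVec_zero]
  exact sub_eq_zero.1 (hq'.trans (hinj q' hz0))

end Data

end Cfsg.Agent.Forms.Max.SympTensor
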