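import Cfsg.Agent.Lib.Forms.Max.SympTensor.TwoBasic

/-!
# `W₁ ⊗ W₂` with `W₁` of dimension two: the eigenvalues of the central elements are rational
-/

set_option autoImplicit false
set_option linter.unusedSectionVars false

namespace Cfsg.Agent.Forms.Max.SympTensor

open Matrix Cfsg.Agent.Forms.SympStd MulAction
open scoped OnePoint
open scoped MatrixGroups

variable {F : Type*} [Field F] {m n : ℕ}

local notation "Vec" => (Fin m ⊕ Fin m → F)
local notation "GLm" => GL (Fin m ⊕ Fin m) F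
local notation "Mat" => Matrix (Fin m ⊕ Fin m) (Fin m ⊕ Fin m) F
local notation "W₁" => (Fin 2 → F)
local notation "W₂" => (Fin n → F)

theorem uniSL_pow {E : Type*} [Field E] (s : E) (j : ℕ) :
    Classical.GL2.uniSL s ^ j = Classical.GL2.uniSL ((j : E) * s) := by
  induction j with
  | zero => rw [pow_zero, Nat.cast_zero, zero_mul, Classical.GL2.uniSL_zero]
  | succ j ih => rw [pow_succ, ih, Classical.GL2.uniSL_mul, Nat.cast_succ, add_mul, one_mul]

theorem uniSL_inj {E : Type*} [Field E] {s t : E} (h : Classical.GL2.uniSL s = Classical.GL2.uniSL t) : s = t := by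
  simpa [Classical.GL2.coe_uniSL] using congrFun (congrFun (congrArg Subtype.val h) 0) 1

namespace CompData

variable [Fintype F] {ι : Type} [Fintype ι] [DecidableEq ι] {e f : Matrix ι ι F} (K : CompData F ι e f)

/-- the elements acting unipotently on the component -/
def upper : Subgroup (Matrix ι ι F)ˣ where
  carrier := {g | g ∈ Subgroup.closure (Pair.gens F e f) ∧ ∃ s, K.Acts g (Classical.GL2.uniSL s)}
  one_mem' := ⟨one_mem _, 0, by rw [Classical.GL2.uniSL_zero]; exact K.acts_one⟩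
  mul_mem' := fun ⟨hg, s, h1⟩ ⟨hg', t, h2⟩ =>
    ⟨mul_mem hg hg', s + t, by rw [← Classical.GL2.uniSL_mul]; exact h1.mul K h2⟩
  inv_mem' := fun ⟨hg, s, h1⟩ =>
    ⟨inv_mem hg, -s, by rw [← Classical.GL2.uniSL_inv]; exact h1.inv K⟩

theorem mem_upper {g : (Matrix ι ι F)ˣ} :
    g ∈ K.upper ↔ g ∈ Subgroup.closure (Pair.gens F e f) ∧ ∃ s, K.Acts g (Classical.GL2.uniSL s) := Iff.rfl

theorem acts_range (s t : AdjoinRoot K.π) (j : ℕ) :
    Pair.cen e f ^ j *ᵥ K.emb ((K.lam⁻¹) ^ j * s, (K.lam⁻¹) ^ j * t) = K.emb (s, t) := by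
  induction j generalizing s t with
  | zero => simp
  | succ j ih =>
    rw [pow_succ, ← Matrix.mulVec_mulVec, K.C_emb]
    rw [show K.lam * ((K.lam⁻¹) ^ (j + 1) * s) = (K.lam⁻¹) ^ j * s by
        rw [pow_succ', ← mul_assoc, ← mul_assoc, mul_inv_cancel₀ K.lam_ne_zero, one_mul],
      show K.lam * ((K.lam⁻¹) ^ (j + 1) * t) = (K.lam⁻¹) ^ j * t by
        rw [pow_succ', ← mul_assoc, ← mul_assoc, mul_inv_cancel₀ K.lam_ne_zero, one_mul], ih]

end CompData

namespace Data

variable {D : Data F m 2 n} [Fintype F] {M : Subgroup (GL (Fin m ⊕ Fin m) F)}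

/-- the transvection family as a subgroup -/
def fam (D : Data F m 2 n) (u : Fin 2 → F) : Subgroup (GL (Fin m ⊕ Fin m) F) where
  carrier := {g | ∃ t, g = D.T u t}
  one_mem' := ⟨0, (D.T_zero u).symm⟩
  mul_mem' := fun ⟨s, hs⟩ ⟨t, ht⟩ => ⟨s + t, by rw [hs, ht, D.T_mul]⟩
  inv_mem' := fun ⟨s, hs⟩ => ⟨-s, by
    rw [hs]; exact inv_eq_of_mul_eq_one_right (by rw [D.T_mul, add_neg_cancel, D.T_zero])⟩

theorem isPGroup_fam (p : ℕ) [Fact p.Prime] [CharP F p] (u : W₁) : IsPGroup p (D.fam u) := by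
  rintro ⟨_, t, rfl⟩
  exact ⟨1, Subtype.ext (by rw [Subgroup.coe_pow, pow_one, D.T_pow, CharP.cast_eq_zero, zero_mul, D.T_zero]; rfl)⟩

theorem T_mem_upper {g : GLm} {u : W₁} (K : CompData F (Fin m ⊕ Fin m) (D.dis u) (D.cdis g u)) (t : F) :
    D.T u t ∈ K.upper :=
  ⟨D.T_mem_pairGroup g u t, _, K.acts_of_e (D.T_coe u t)⟩

/-- the unipotent elements on a component are multiples of the eigenvalue -/
theorem Tight.upper_param (hM : D.Tight M) (p : ℕ) [Fact p.Prime] [CharP F p] (hp2 : p ≠ 2) (hex : D.Generic)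
    {g : GLm} (hg : g ∈ M) {u : W₁} (hu : u ≠ 0) (K : CompData F (Fin m ⊕ Fin m) (D.dis u) (D.cdis g u))
    {h : GLm} (hh : h ∈ K.upper) {s : AdjoinRoot K.π} (hs : K.Acts h (Classical.GL2.uniSL s)) :
    ∃ t : F, s = t • K.lam := by
  haveI := K.charP_root p
  have h2 : (2 : F) ≠ 0 := Ring.two_ne_zero (by rwa [ringChar.eq F p])
  -- the `p`-part
  obtain ⟨a, j, hj, ho⟩ := Nat.exists_eq_pow_mul_and_not_dvd (orderOf_pos h).ne' p (Fact.out : p.Prime).ne_one
  obtain ⟨l, hl0, hl1⟩ := Nat.chineseRemainder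
    (((Fact.out : p.Prime).coprime_iff_not_dvd.2 hj).symm) (0 : ℕ) (1 : ℕ)
  set h' := h ^ l
  have hh' : h' ∈ K.upper := pow_mem hh _
  have hs' : K.Acts h' (Classical.GL2.uniSL s) := by
    have e := hs.pow K l
    rwa [uniSL_pow, show (l : AdjoinRoot K.π) = ((1 : ℕ) : AdjoinRoot K.π) from
      (CharP.natCast_eq_natCast (AdjoinRoot K.π) p).2 hl1, Nat.cast_one, one_mul] at e
  have hp' : h' ^ p ^ a = 1 := by
    obtain ⟨i, rfl⟩ := (Nat.modEq_zero_iff_dvd.1 hl0)
    show (h ^ (j * i)) ^ p ^ a = 1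
    rw [← pow_mul, show j * i * p ^ a = p ^ a * j * i by ring, pow_mul, ← ho, pow_orderOf_eq_one, one_pow]
  -- conjugate it into a Sylow subgroup containing the transvections
  have hfam : IsPGroup p ((D.fam u).subgroupOf K.upper) :=
    (isPGroup_fam p u).comap_of_injective _ Subtype.val_injective
  obtain ⟨S, hS⟩ := hfam.exists_le_sylow
  have hz : IsPGroup p (Subgroup.zpowers (⟨h', hh'⟩ : K.upper)) :=
    IsPGroup.of_card (n := (Nat.dvd_prime_pow (Fact.out : p.Prime)).1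
      (orderOf_dvd_of_pow_eq_one (n := p ^ a) (x := (⟨h', hh'⟩ : K.upper)) (Subtype.ext hp')) |>.choose)
      (by
        rw [Nat.card_zpowers]
        exact ((Nat.dvd_prime_pow (Fact.out : p.Prime)).1
          (orderOf_dvd_of_pow_eq_one (n := p ^ a) (x := (⟨h', hh'⟩ : K.upper)) (Subtype.ext hp'))).choose_spec.2)
  obtain ⟨S', hS'⟩ := hz.exists_le_sylow
  obtain ⟨c, hc⟩ := exists_smul_eq K.upper S' S
  set h₁ : K.upper := c * ⟨h', hh'⟩ * c⁻¹
  have h₁S : h₁ ∈ (S : Subgroup K.upper) := by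
    rw [← hc, Sylow.coe_subgroup_smul, Subgroup.mem_pointwise_smul_iff_inv_smul_mem]
    simp only [h₁, MulAut.smul_def, MulAut.conj_inv_apply]
    simpa [mul_assoc] using hS' (Subgroup.mem_zpowers (⟨h', hh'⟩ : K.upper))
  obtain ⟨-, sc, hsc⟩ := c.2
  have hs₁ : K.Acts (h₁ : GLm) (Classical.GL2.uniSL s) := by
    have e := (hsc.mul K hs').mul K (hsc.inv K)
    rwa [Classical.GL2.uniSL_inv, Classical.GL2.uniSL_mul, Classical.GL2.uniSL_mul,
      show sc + s + -sc = s by abel] at e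
  set R : Subgroup GLm := (S : Subgroup K.upper).map K.upper.subtype
  have hR : IsPGroup p R := S.isPGroup'.map _
  have hRM : R ≤ M := by
    rintro _ ⟨x, -, rfl⟩
    exact hM.pairGroup_le hg u x.2.1
  have hTR : ∀ t, D.T u t ∈ R := fun t =>
    ⟨⟨_, T_mem_upper K t⟩, hS (Subgroup.mem_subgroupOf.2 ⟨t, rfl⟩), rfl⟩
  have h₁R : (h₁ : GLm) ∈ R := ⟨h₁, h₁S, rfl⟩
  obtain ⟨hH, hL⟩ := hM.stab_of_pgroup p hp2 hex hR hRM hu hTR h₁R
  obtain ⟨hsp, α, β, hαβ⟩ := hH
  obtain ⟨r, hr⟩ := hR ⟨_, h₁R⟩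
  replace hr : (h₁ : GLm) ^ p ^ r = 1 := congrArg Subtype.val hr
  -- normalise the first factor
  obtain ⟨δ, hδ⟩ := D.eq_smul_of_L hu (u' := α u) fun y => by
    have hbs : Function.Surjective β := LinearMap.injective_iff_surjective.1 ((injective_iff_map_eq_zero β).2
      fun z hz => by_contra fun hne => D.b_injective hαβ hne hz)
    obtain ⟨z, rfl⟩ := hbs y
    rw [← hαβ]; exact hL z
  have hδ0 : δ ≠ 0 := fun e => D.a_injective hαβ hu (by rw [hδ, e, zero_smul])
  have hab := D.rescale hαβ (inv_ne_zero hδ0)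
  rw [inv_inv] at hab
  set a' := δ⁻¹ • α
  set b' := δ • β
  have hau : a' u = u := by rw [LinearMap.smul_apply, hδ, smul_smul, inv_mul_cancel₀ hδ0, one_smul]
  obtain ⟨μ, hμ, hμ1, -⟩ := D.exists_multiplier hsp hab
  obtain ⟨v, hv⟩ := D.exists_one₁ hu
  obtain ⟨y₀, hy₀⟩ := D.exists_ne₂
  have hμone : μ = 1 := by
    have hcomm := D.conj_T hab hμ hμ1 u 1
    rw [hau] at hcomm
    have hit : ∀ i : ℕ, (h₁ : GLm) ^ i * D.T u 1 * ((h₁ : GLm) ^ i)⁻¹ = D.T u ((μ⁻¹) ^ i) := by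
      intro i
      induction i with
      | zero => simp
      | succ i ih =>
        rw [pow_succ', _root_.mul_inv_rev, show ∀ A P Q R : GLm, A * P * Q * (R * A⁻¹) = A * (P * Q * R) * A⁻¹ from
          fun A P Q R => by group, ih, D.conj_T hab hμ hμ1, hau, pow_succ, div_eq_mul_inv]
    have e := hit (p ^ r)
    rw [hr, one_mul, inv_one, mul_one] at e
    have e2 := D.T_inj hu e
    have e3 : (μ⁻¹ - 1) ^ p ^ r = 0 := by rw [sub_pow_char_pow, ← e2, one_pow, sub_self]
    exact inv_eq_one.1 (sub_eq_zero.1 (eq_zero_of_pow_eq_zero e3))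
  subst hμone
  set t := D.f₁ (a' v) v
  have hab' : ∀ x y, ((h₁ : GLm) * D.T u t : Mat) *ᵥ D.τ x y = D.τ x (b' y) := by
    intro x y
    have hav : a' v = v - t • u := by
      have e := hμ1 v u
      rw [hau, hv, one_mul] at e
      conv_lhs => rw [D.decomp₁ hv (a' v), e, one_smul]
    rw [← Units.val_mul, mulVec_mul_GL, D.T_pure, hab]
    suffices hx : a' (x + (t * D.f₁ x u) • u) = x by rw [hx]
    have hax : a' x = D.f₁ x u • (v - t • u) - D.f₁ x v • u := by
      conv_lhs => rw [D.decomp₁ hv x, map_sub, map_smul, map_smul, hav, hau]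
    rw [map_add, map_smul, hau, hax]
    conv_rhs => rw [D.decomp₁ hv x]
    module
  set h₂ : GLm := (h₁ : GLm) * D.T u t
  have h₂mem : h₂ ∈ D.pairGroup g u := mul_mem h₁.2.1 (D.T_mem_pairGroup g u t)
  obtain ⟨r₂, hr₂⟩ := hR ⟨h₂, mul_mem h₁R (hTR t)⟩
  replace hr₂ : h₂ ^ p ^ r₂ = 1 := congrArg Subtype.val hr₂
  obtain ⟨N, hN, hinj, -⟩ := exists_fitting (Pair.cen (D.dis u) (D.cdis g u))
  have hfix : K.Acts h₂ 1 := fun x y => by
    have := hM.fix_range p hp2 hg hu h₂mem (b := b') hab' hr₂ hN hinj (K.emb ((K.lam⁻¹) ^ N * x, (K.lam⁻¹) ^ N * y))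
    rw [K.acts_range] at this
    simpa using this
  have hact : K.Acts h₂ (Classical.GL2.uniSL s * Classical.GL2.uniSL (t • K.lam)) := hs₁.mul K (K.acts_of_e (D.T_coe u t))
  have e := CompData.Acts.unique K hact hfix
  rw [Classical.GL2.uniSL_mul, ← Classical.GL2.uniSL_zero] at e
  exact ⟨-t, by rw [neg_smul]; exact eq_neg_of_add_eq_zero_left (uniSL_inj e)⟩

/-- the eigenvalues are rational -/
theorem Tight.lam_rational (hM : D.Tight M) (p : ℕ) [Fact p.Prime] [CharP F p] (hp2 : p ≠ 2) (hex : D.Generic)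
    (hA5 : Fintype.card F ≠ 3) {g : GLm} (hg : g ∈ M) {u : W₁} (hu : u ≠ 0)
    (K : CompData F (Fin m ⊕ Fin m) (D.dis u) (D.cdis g u)) :
    ∃ l : F, algebraMap F (AdjoinRoot K.π) l = K.lam := by
  classical
  haveI := K.charP_root p
  set E := AdjoinRoot K.π
  have hl0 := K.lam_ne_zero
  have h2 : (2 : E) ≠ 0 := Ring.two_ne_zero (by rwa [ringChar.eq E p])
  have hT := DicksonAction.twoPt (F := E) p
  set H := K.image.map (KleinPSL.pi E) with hHdef
  have hpi1 : ∀ a : E, KleinPSL.pi E (Classical.GL2.uniSL a) = 1 → a = 0 := fun a h => by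
    rcases KleinPSL.pi_eq_one.1 h with h | h <;>
      simpa [Classical.GL2.coe_uniSL] using congrFun (congrFun (congrArg Subtype.val h) 0) 1
  set U := KleinPSL.pi E (Classical.GL2.uniSL K.lam) with hUdef
  set L := KleinPSL.pi E (Classical.GL2.lowSL (1 : E)) with hLdef
  have hU1 : U ≠ 1 := fun e => hl0 (hpi1 _ e)
  have hL1 : L ≠ 1 := fun e => by
    rcases KleinPSL.pi_eq_one.1 e with h | h <;>
      exact one_ne_zero (α := E) (by simpa [Classical.GL2.coe_lowSL] using congrFun (congrFun (congrArg Subtype.val h) 1) 0)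
  have hord : ∀ X : SL(2, E), (X : Matrix (Fin 2) (Fin 2) E).trace = 2 → KleinPSL.pi E X ≠ 1 →
      orderOf (KleinPSL.pi E X) = p := fun X ht hX =>
    (DicksonAction.orderOf_iff p X hX).2 (by rw [ht]; norm_num)
  have hoU : orderOf U = p := hord _ (by simp [Classical.GL2.coe_uniSL, trace_fin_two]; norm_num) hU1
  have hoL : orderOf L = p := hord _ (by simp [Classical.GL2.coe_lowSL, trace_fin_two]; norm_num) hL1
  have hUp : U ^ p = 1 := by rw [← hoU, pow_orderOf_eq_one]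
  have hLp : L ^ p = 1 := by rw [← hoL, pow_orderOf_eq_one]
  have huni : ∀ t : F, KleinPSL.pi E (Classical.GL2.uniSL (t • K.lam)) ∈ H := fun t => ⟨_, K.uni_mem t, rfl⟩
  have hlow : ∀ t : F, KleinPSL.pi E (Classical.GL2.lowSL (algebraMap F E t)) ∈ H := fun t => ⟨_, K.low_mem t, rfl⟩
  have hUH : U ∈ H := by have := huni 1; rwa [one_smul] at this
  have hLH : L ∈ H := by have := hlow 1; rwa [map_one] at this
  have hUL : U * L ≠ L * U := fun e => by
    rw [hUdef, hLdef, ← map_mul, ← map_mul, KleinPSL.pi_eq_iff] at e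
    rcases e with e | e
    · have := congrFun (congrFun (congrArg Subtype.val e) 0) 0
      simp [Classical.GL2.coe_uniSL, Classical.GL2.coe_lowSL, Matrix.mul_apply, Fin.sum_univ_two] at this
      exact hl0 this
    · have h01 := congrFun (congrFun (congrArg Subtype.val e) 0) 1
      simp [Classical.GL2.coe_uniSL, Classical.GL2.coe_lowSL, Matrix.mul_apply, Fin.sum_univ_two] at h01
      exact mul_ne_zero h2 hl0 (by linear_combination h01)
  have hTH := hT.subgroup H
  rcases DicksonModular.classify_modular hTH (u := (⟨U, hUH⟩ : H))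
      (by rw [← Subgroup.orderOf_coe]; exact hoU) with ⟨x, -, hfix⟩ | ⟨c, -, -, ⟨e⟩⟩ | ⟨hp3, ⟨e⟩⟩ | ⟨x, hx, hcard, -⟩
  · exact absurd (DicksonMax.comm_of_fix p (hfix ⟨U, hUH⟩) (hfix ⟨L, hLH⟩) hUp hLp) hUL
  · exact absurd (DicksonMax.comm_of_dihedral H (g := (c : Matrix.ProjectiveSpecialLinearGroup (Fin 2) E))
      (Or.inr ⟨by rw [Subgroup.orderOf_coe]; exact e⟩) hUH hLH
      (DicksonMax.sq_ne_one (Fact.out) hp2 hUp hU1) (DicksonMax.sq_ne_one (Fact.out) hp2 hLp hL1)) hUL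
  · exfalso
    let φ : Multiplicative F →* H := MonoidHom.mk' (fun t => ⟨_, huni t.toAdd⟩) fun s t => Subtype.ext (by
      show KleinPSL.pi E _ = KleinPSL.pi E _ * KleinPSL.pi E _
      rw [← map_mul, Classical.GL2.uniSL_mul, ← add_smul, toAdd_mul])
    have hinj : Function.Injective φ := (injective_iff_map_eq_one φ).2 fun a h =>
      Multiplicative.toAdd.injective ((smul_eq_zero.1 (hpi1 _ (congrArg Subtype.val h))).resolve_right hl0)
    have hd := Subgroup.card_dvd_of_injective φ hinj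
    rw [Nat.card_congr e.toEquiv, Nat.card_congr Multiplicative.toAdd, Nat.card_eq_fintype_card,
      nat_card_alternatingGroup, Nat.card_fin] at hd
    obtain ⟨⟨k, hk0⟩, -, hk⟩ := FiniteField.card F p
    rw [hp3] at hk
    rcases k with _ | _ | k
    · exact lt_irrefl _ hk0
    · exact hA5 (by simpa using hk)
    · rw [hk] at hd
      have h9 : 9 ∣ (60 : ℕ) := (Dvd.intro_left _ (by ring : 3 ^ k * 9 = 3 ^ (k + 2))).trans (by
        have : Nat.factorial 5 / 2 = 60 := rfl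
        rw [this] at hd; exact hd)
      omega
  -- the point at infinity
  set U' : H := ⟨U, hUH⟩
  have hU'fix : U' • (∞ : OnePoint (AlgebraicClosure E)) = ∞ := by
    show U • (∞ : OnePoint (AlgebraicClosure E)) = ∞
    rw [hUdef, DicksonAction.smul_infty_iff]
    simp [Classical.GL2.coe_uniSL]
  have hU'pow : U' ^ p = 1 := Subtype.ext (by rw [Subgroup.coe_pow]; exact hUp)
  have hinf : hTH.pSub (∞ : OnePoint (AlgebraicClosure E)) ≠ ⊥ := fun e => by
    have hmem : U' ∈ hTH.pSub (∞ : OnePoint (AlgebraicClosure E)) := ⟨hU'fix, hU'pow⟩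
    rw [e, Subgroup.mem_bot] at hmem
    exact hU1 (congrArg Subtype.val hmem)
  have horb := hTH.orbit_pSub hx hinf
  obtain ⟨γ, hγ⟩ := horb
  have hcard' : (orbit H (∞ : OnePoint (AlgebraicClosure E))).ncard =
      Nat.card (hTH.pSub (∞ : OnePoint (AlgebraicClosure E))) + 1 := by
    rw [← hγ, DicksonModular.natCard_pSub_smul hTH x γ, orbit_smul, hcard]
  have hne : ∀ t : F, t ≠ 0 →
      (⟨_, hlow t⟩ : H) • (∞ : OnePoint (AlgebraicClosure E)) ≠ ∞ := fun t ht h => by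
    change KleinPSL.pi E (Classical.GL2.lowSL (algebraMap F E t)) • (∞ : OnePoint (AlgebraicClosure E)) = ∞ at h
    rw [DicksonAction.smul_infty_iff] at h
    simp [Classical.GL2.coe_lowSL] at h
    exact ht h
  obtain ⟨W, hW, hWeq⟩ := DicksonModular.transitive_of_card hTH hcard'
    (mem_orbit (∞ : OnePoint (AlgebraicClosure E)) (⟨_, hlow 1⟩ : H))
    (mem_orbit (∞ : OnePoint (AlgebraicClosure E)) (⟨_, hlow (-1)⟩ : H))
    (hne 1 one_ne_zero) (hne (-1) (neg_ne_zero.2 one_ne_zero))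
  obtain ⟨Y, hY, hWY⟩ := W.2
  have hYfix : (Y : Matrix (Fin 2) (Fin 2) E) 1 0 = 0 := by
    rw [← DicksonAction.smul_infty_iff, hWY]
    exact hW.1
  -- compare the images of infinity
  have h10 : ((Classical.GL2.lowSL (algebraMap F E (-1)))⁻¹ * Y * Classical.GL2.lowSL (algebraMap F E 1) : SL(2, E)).1 1 0 = 0 := by
    rw [← DicksonAction.smul_infty_iff, map_mul, map_mul, map_inv, hWY, mul_smul, mul_smul, inv_smul_eq_iff]
    exact hWeq
  have hdet : Y.1 0 0 * Y.1 1 1 = 1 := by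
    have := Matrix.SpecialLinearGroup.det_coe Y
    rwa [det_fin_two, hYfix, mul_zero, sub_zero] at this
  simp [Matrix.mul_apply, Fin.sum_univ_two, Matrix.adjugate_fin_two, Classical.GL2.coe_lowSL, Matrix.vecMul, dotProduct, hYfix] at h10
  obtain ⟨ε, hε, h00, h11⟩ : ∃ ε : E, ε * ε = 1 ∧ Y.1 0 0 = ε ∧ Y.1 1 1 = ε := by
    by_cases h1 : (W : H) = 1
    · have : KleinPSL.pi E Y = 1 := by rw [hWY, h1]; rfl
      rcases KleinPSL.pi_eq_one.1 this with e | e
      · exact ⟨1, one_mul 1, by rw [e]; rfl, by rw [e]; rfl⟩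
      · exact ⟨-1, by ring, by rw [e]; simp, by rw [e]; simp⟩
    · have hY1 : KleinPSL.pi E Y ≠ 1 := by rw [hWY]; exact fun e => h1 (Subtype.ext e)
      have ho : orderOf (KleinPSL.pi E Y) = p := by
        rw [hWY]
        exact orderOf_eq_prime (by simpa using congrArg Subtype.val hW.2) fun e => h1 (Subtype.ext e)
      have htr := (DicksonAction.orderOf_iff p Y hY1).1 ho
      rw [trace_fin_two] at htr
      have hsq : (Y.1 0 0 - Y.1 1 1) * (Y.1 0 0 - Y.1 1 1) = 0 := by linear_combination htr - 4 * hdet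
      have he := sub_eq_zero.1 (mul_self_eq_zero.1 hsq)
      exact ⟨Y.1 1 1, by rw [he] at hdet; exact hdet, he, rfl⟩
  have hε0 : ε ≠ 0 := fun e => by rw [e, mul_zero] at hε; exact zero_ne_one hε
  rw [h00, h11] at h10
  obtain ⟨g₁, hg₁, hact⟩ := K.mem_image.1 hY
  -- remove the sign
  set s := Y.1 0 1 * ε
  have hYpow : ∀ i : ℕ, (Y ^ i).1 = ε ^ i • (Classical.GL2.uniSL ((i : E) * s) : SL(2, E)).1 := by
    intro i
    have hY' : Y.1 = ε • (Classical.GL2.uniSL s : SL(2, E)).1 := by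
      ext a b
      fin_cases a <;> fin_cases b <;> simp [Classical.GL2.coe_uniSL, h00, h11, hYfix, s]
      linear_combination -(Y.1 0 1) * hε
    rw [Matrix.SpecialLinearGroup.coe_pow, hY', smul_pow, ← Matrix.SpecialLinearGroup.coe_pow, uniSL_pow]
  have hodd : Odd p := (Fact.out : p.Prime).odd_of_ne_two hp2
  obtain ⟨i, hi⟩ := hodd
  have hY2 : Y ^ (p + 1) = Classical.GL2.uniSL s := by
    refine Subtype.ext ?_
    rw [hYpow, show ε ^ (p + 1) = 1 by rw [hi, show 2 * i + 1 + 1 = 2 * (i + 1) by ring, pow_mul, sq, hε, one_pow],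
      one_smul, Nat.cast_succ, CharP.cast_eq_zero, zero_add, one_mul]
  have hs : K.Acts (g₁ ^ (p + 1)) (Classical.GL2.uniSL s) := hY2 ▸ hact.pow K _
  obtain ⟨t, ht⟩ := hM.upper_param p hp2 hex hg hu K ⟨pow_mem hg₁ _, s, hs⟩ hs
  have hs2 : s = -2 := by
    have : s = Y.1 0 1 * ε := rfl
    linear_combination this + ε * h10 - 2 * hε
  have ht0 : t ≠ 0 := fun e => h2 (by rw [e, zero_smul, hs2, neg_eq_zero] at ht; exact ht)
  refine ⟨-2 / t, ?_⟩
  rw [map_div₀, map_neg, map_ofNat, div_eq_iff (fun e => ht0 ((algebraMap F E).injective (e.trans (map_zero _).symm)))]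
  rw [hs2, Algebra.smul_def] at ht
  rw [ht, mul_comm]

end Data

end Cfsg.Agent.Forms.Max.SympTensor
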