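import Cfsg.Agent.Lib.Forms.Max.SympTensor.Conj
import Cfsg.Agent.Lib.Forms.Max.SympTensor.Spread

/-!
# `W₁ ⊗ W₂`: stabilisers of `W₁ ⊗ r` for a singular `r`
-/

set_option autoImplicit false
set_option linter.unusedSectionVars false

namespace Cfsg.Agent.Forms.Max.SympTensor

open Matrix Cfsg.Agent.Forms.SympStd

variable {F : Type*} [Field F] {m k n : ℕ}

local notation "Vec" => (Fin m ⊕ Fin m → F)
local notation "GLm" => GL (Fin m ⊕ Fin m) F
local notation "Mat" => Matrix (Fin m ⊕ Fin m) (Fin m ⊕ Fin m) F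
local notation "B" => sympB m F
local notation "W₁" => (Fin k → F)
local notation "W₂" => (Fin n → F)

namespace Data

variable (D : Data F m k n)

/-- the subspace `W₁ ⊗ r` -/
noncomputable def R₂ (r : Fin n → F) : Submodule F (Fin m ⊕ Fin m → F) := LinearMap.range (D.τ.flip r)

theorem tau_mem_R₂ (x : W₁) (r : W₂) : D.τ x r ∈ D.R₂ r := ⟨x, rfl⟩

theorem κ'_R₂ {r : W₂} (hrr : D.f₂ r r = 0) {q : Vec} (hq : q ∈ D.R₂ r) : D.κ' r q = 0 := by
  obtain ⟨z, rfl⟩ := hq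
  rw [LinearMap.flip_apply, D.κ'_pure, hrr, zero_smul]

theorem mem_R₂_of_perp {r r' : W₂} (hr' : D.f₂ r r' = 1) {q : Vec}
    (h : ∀ w, D.f₂ r w = 0 → D.κ' w q = 0) : q ∈ D.R₂ r := by
  refine ⟨D.κ' r' q, D.pair_ext fun x y => ?_⟩
  rw [LinearMap.flip_apply, D.pair]
  have hw : D.f₂ r (y - D.f₂ r y • r') = 0 := by simp [hr']
  have e := congrArg (fun z => D.f₁ z x) (h _ hw)
  simp only [D.κ'_spec, map_sub, map_smul, map_zero, LinearMap.zero_apply, smul_eq_mul] at e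
  rw [D.κ'_spec]
  linear_combination -e

theorem exists_perp_pair {r r' : W₂} (hr' : D.f₂ r r' = 1) :
    ∃ t z, D.f₂ r t = 0 ∧ D.f₂ r z = 0 ∧ D.f₂ t z = 1 := by
  obtain ⟨t, ht, ht0⟩ := (Submodule.ne_bot_iff ((D.f₂ r).prod (D.f₂ r')).ker).1
    (LinearMap.ker_ne_bot_of_finrank_lt (by
      rw [Module.finrank_prod, Module.finrank_self, Module.finrank_fintype_fun_eq_card, Fintype.card_fin]
      have := D.three_le
      omega))
  rw [LinearMap.mem_ker, LinearMap.prod_apply] at ht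
  obtain ⟨h1, h2⟩ := Prod.mk_eq_zero.1 ht
  obtain ⟨z, hz⟩ := D.exists_one₂ ht0
  refine ⟨t, z - D.f₂ r z • r', h1, by simp [hr'], ?_⟩
  rw [map_sub, map_smul, D.symm t r', h2, smul_zero, sub_zero, hz]

theorem κ'_fix {g : GLm} (hg : g ∈ Cfsg.spGL m F) {r : W₂} (h : ∀ z, (g : Mat) *ᵥ D.τ z r = D.τ z r) (q : Vec) :
    D.κ' r ((g : Mat) *ᵥ q) = D.κ' r q :=
  D.κ'_eq fun x => by rw [D.κ'_spec, ← Symp.mem_spGL_iff.1 hg q, h]

variable [Fintype F]

/-- the radical of the stabiliser of `W₁ ⊗ r` -/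
def Uni (r : Fin n → F) : Subgroup (GL (Fin m ⊕ Fin m) F) where
  carrier := {g | g ∈ Cfsg.spGL m F ∧
    (∀ z, (g : Matrix (Fin m ⊕ Fin m) (Fin m ⊕ Fin m) F) *ᵥ D.τ z r = D.τ z r) ∧
    ∀ q, D.κ' r q = 0 → (g : Matrix (Fin m ⊕ Fin m) (Fin m ⊕ Fin m) F) *ᵥ q - q ∈ D.R₂ r}
  one_mem' := ⟨one_mem _, fun z => by simp, fun q _ => by simp⟩
  mul_mem' := by
    rintro g g' ⟨hg, h1, h2⟩ ⟨hg', h1', h2'⟩
    refine ⟨mul_mem hg hg', fun z => by rw [mulVec_mul_GL, h1', h1], fun v hv => ?_⟩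
    obtain ⟨y, hy⟩ := h2' v hv
    rw [mulVec_mul_GL, show (g' : Mat) *ᵥ v = v + D.τ y r by rw [← D.τ.flip_apply, hy, add_sub_cancel],
      mulVec_add, h1, add_sub_right_comm]
    exact add_mem (h2 v hv) (D.tau_mem_R₂ y r)
  inv_mem' := by
    rintro g ⟨hg, h1, h2⟩
    have h1' : ∀ y, ((g⁻¹ : GLm) : Mat) *ᵥ D.τ y r = D.τ y r := fun y => by
      conv_lhs => rw [← h1 y]
      rw [inv_mulVec_cancel]
    refine ⟨inv_mem hg, h1', fun v hv => ?_⟩
    obtain ⟨y, hy⟩ := h2 v hv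
    refine ⟨-y, ?_⟩
    have e := congrArg (fun z => ((g⁻¹ : GLm) : Mat) *ᵥ z)
      (show (g : Mat) *ᵥ v = v + D.τ y r by rw [← D.τ.flip_apply, hy, add_sub_cancel])
    simp only [inv_mulVec_cancel, mulVec_add, h1'] at e
    rw [LinearMap.flip_apply, map_neg, LinearMap.neg_apply]
    linear_combination (norm := module) e

theorem Uni_pow {r : W₂} (hrr : D.f₂ r r = 0) (p : ℕ) [Fact p.Prime] [CharP F p] (hp2 : p ≠ 2) {g : GLm}
    (hg : g ∈ D.Uni r) : g ^ p = 1 := by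
  have h3 : ∀ q, ((g : Mat) - 1) ^ 3 *ᵥ q = 0 := fun q => by
    have a1 : D.κ' r (((g : Mat) - 1) *ᵥ q) = 0 := by
      rw [Matrix.sub_mulVec, Matrix.one_mulVec, map_sub, D.κ'_fix hg.1 hg.2.1, sub_self]
    obtain ⟨z, hz⟩ := hg.2.2 _ a1
    rw [pow_succ, pow_succ, pow_one, ← Matrix.mulVec_mulVec, ← Matrix.mulVec_mulVec]
    rw [show ((g : Mat) - 1) *ᵥ (((g : Mat) - 1) *ᵥ q) = D.τ z r by
      rw [Matrix.sub_mulVec (g : Mat) 1 (((g : Mat) - 1) *ᵥ q), Matrix.one_mulVec, ← hz, LinearMap.flip_apply]]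
    rw [Matrix.sub_mulVec, Matrix.one_mulVec, hg.2.1, sub_self]
  have hn : ((g : Mat) - 1) ^ 3 = 0 := Matrix.ext_iff_mulVec.2 fun q => by rw [h3, Matrix.zero_mulVec]
  haveI : Nonempty (Fin m ⊕ Fin m) := by
    obtain ⟨u, hu⟩ := D.exists_ne₁
    obtain ⟨y, hy⟩ := D.exists_ne₂
    by_contra hc
    rw [not_nonempty_iff] at hc
    exact D.tau_ne_zero hu hy (funext fun i => hc.elim i)
  haveI : CharP Mat p := charP_of_injective_algebraMap (algebraMap F Mat).injective p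
  have h0 : ((g : Mat) - 1) ^ p = 0 := pow_eq_zero_of_le (by
    have := (Fact.out : p.Prime).two_le
    omega) hn
  rw [sub_pow_char_of_commute (p := p) (Commute.one_right _), one_pow, sub_eq_zero] at h0
  exact Units.ext (by rw [Units.val_pow_eq_pow_val, h0, Units.val_one])

theorem Uni_conj {r : W₂} {s : GLm} (hs : s ∈ Cfsg.spGL m F)
    (h1 : ∀ z, (s : Mat) *ᵥ D.τ z r ∈ D.R₂ r) {w : GLm} (hw : w ∈ D.Uni r) : s * w * s⁻¹ ∈ D.Uni r := by
  have hinv : ∀ z, ((s⁻¹ : GLm) : Mat) *ᵥ D.τ z r ∈ D.R₂ r := by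
    intro z
    have hle : img s (D.R₂ r) ≤ D.R₂ r := fun q hq => by
      obtain ⟨_, ⟨x, rfl⟩, rfl⟩ := mem_img.1 hq
      exact h1 x
    have he := Submodule.eq_of_le_of_finrank_eq hle (finrank_img s _)
    obtain ⟨q, hq, hqe⟩ := mem_img.1 (he.ge (D.tau_mem_R₂ z r))
    rw [← hqe, inv_mulVec_cancel]
    exact hq
  refine ⟨mul_mem (mul_mem hs hw.1) (inv_mem hs), fun z => ?_, fun q hq => ?_⟩
  · obtain ⟨x, hx⟩ := hinv z
    rw [mulVec_mul_GL, mulVec_mul_GL, ← hx, LinearMap.flip_apply, hw.2.1, ← D.τ.flip_apply, hx, mulVec_inv_cancel]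
  · have hq' : D.κ' r (((s⁻¹ : GLm) : Mat) *ᵥ q) = 0 := D.κ'_eq fun x => by
      obtain ⟨x', hx'⟩ := h1 x
      rw [map_zero, LinearMap.zero_apply, ← Symp.mem_spGL_iff.1 hs, mulVec_inv_cancel, ← hx', LinearMap.flip_apply,
        ← D.κ'_spec, hq, map_zero, LinearMap.zero_apply]
    obtain ⟨x, hx⟩ := hw.2.2 _ hq'
    obtain ⟨x', hx'⟩ := h1 x
    refine ⟨x', ?_⟩
    rw [hx', mulVec_mul_GL, mulVec_mul_GL, ← D.τ.flip_apply, hx, mulVec_sub, mulVec_inv_cancel]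

theorem T_stab (u : W₁) (c : F) (r : W₂) (z : W₁) : (D.T u c : Mat) *ᵥ D.τ z r ∈ D.R₂ r := by
  rw [D.T_pure]
  exact D.tau_mem_R₂ _ r

/-- `1 ⊗ (Siegel map)` -/
theorem sieg_form (h2 : (2 : F) ≠ 0) {r w : W₂} (hrr : D.f₂ r r = 0) (hrw : D.f₂ r w = 0) (q : Vec) :
    (D.krOne (D.sieg r w) (sieg_isom h2 hrr hrw) : Mat) *ᵥ q =
      q + D.τ (D.κ' r q) w - D.τ (D.κ' w q + (D.f₂ w w / 2) • D.κ' r q) r := by
  have h := LinearMap.congr_fun (D.ext_pure (L := Matrix.toLin' (D.krOne (D.sieg r w) (sieg_isom h2 hrr hrw) : Mat))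
    (L' := LinearMap.id + (D.τ.flip w).comp (D.κ' r) -
      (D.τ.flip r).comp (D.κ' w + (D.f₂ w w / 2) • D.κ' r)) fun x y => by
    simp only [Matrix.toLin'_apply, D.krOne_pure, sieg_apply, LinearMap.sub_apply, LinearMap.add_apply,
      LinearMap.id_apply, LinearMap.comp_apply, LinearMap.flip_apply, LinearMap.smul_apply, D.κ'_pure, map_add,
      map_sub, map_smul]
    module) q
  simp only [Matrix.toLin'_apply, LinearMap.sub_apply, LinearMap.add_apply, LinearMap.id_apply, LinearMap.comp_apply,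
    LinearMap.flip_apply, LinearMap.smul_apply] at h
  exact h

theorem sieg_mem_Uni (h2 : (2 : F) ≠ 0) {r w : W₂} (hrr : D.f₂ r r = 0) (hrw : D.f₂ r w = 0) :
    D.krOne (D.sieg r w) (sieg_isom h2 hrr hrw) ∈ D.Uni r := by
  refine ⟨D.H_le (D.krOne_mem _ _), fun z => ?_, fun q hq => ?_⟩
  · rw [D.krOne_pure, sieg_apply, hrr, hrw]
    simp
  · rw [D.sieg_form h2 hrr hrw, hq, map_zero, LinearMap.zero_apply, add_zero, smul_zero, add_zero,
      sub_sub_cancel_left]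
    exact neg_mem (D.tau_mem_R₂ _ r)

variable {D} {M : Subgroup (GL (Fin m ⊕ Fin m) F)}

/-- the radical meets the group inside the stabiliser -/
theorem Tight.uni_le (hM : D.Tight M) (p : ℕ) [Fact p.Prime] [CharP F p] (hp2 : p ≠ 2)
    (hex : D.Generic) {r : W₂} (hrr : D.f₂ r r = 0) : M ⊓ D.Uni r ≤ D.H := by
  have h2 : (2 : F) ≠ 0 := Ring.two_ne_zero (by rwa [ringChar.eq F p])
  obtain ⟨u, hu⟩ := D.exists_ne₁
  have hinv : ∀ c, (D.T u c)⁻¹ = D.T u (-c) := fun c =>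
    inv_eq_of_mul_eq_one_right (by rw [D.T_mul, add_neg_cancel, D.T_zero])
  have hnorm : ∀ c w, w ∈ M ⊓ D.Uni r → D.T u c * w * (D.T u c)⁻¹ ∈ M ⊓ D.Uni r := fun c w hw =>
    Subgroup.mem_inf.2 ⟨mul_mem (mul_mem (hM.le (D.T_mem u c)) (Subgroup.mem_inf.1 hw).1) (inv_mem (hM.le (D.T_mem u c))),
      D.Uni_conj (D.H_le (D.T_mem u c)) (D.T_stab u c r) (Subgroup.mem_inf.1 hw).2⟩
  let R : Subgroup GLm :=
    { carrier := {g | ∃ c, ∃ w ∈ M ⊓ D.Uni r, g = D.T u c * w}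
      one_mem' := ⟨0, 1, one_mem _, by rw [D.T_zero, mul_one]⟩
      mul_mem' := by
        rintro _ _ ⟨c, w, hw, rfl⟩ ⟨c', w', hw', rfl⟩
        refine ⟨c + c', (D.T u c')⁻¹ * w * D.T u c' * w', mul_mem ?_ hw', ?_⟩
        · have := hnorm (-c') w hw
          rwa [← hinv, inv_inv] at this
        · rw [← D.T_mul]; group
      inv_mem' := by
        rintro _ ⟨c, w, hw, rfl⟩
        refine ⟨-c, D.T u c * w⁻¹ * (D.T u c)⁻¹, hnorm c _ (inv_mem hw), ?_⟩
        rw [← hinv]; group }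
  have hR : IsPGroup p R := by
    rintro ⟨_, c, w, hw, rfl⟩
    have hit : ∀ i : ℕ, ∃ w' ∈ M ⊓ D.Uni r, (D.T u c * w) ^ i = D.T u ((i : F) * c) * w' := by
      intro i
      induction i with
      | zero => exact ⟨1, one_mem _, by rw [pow_zero, Nat.cast_zero, zero_mul, D.T_zero, mul_one]⟩
      | succ i ih =>
        obtain ⟨w', hw', e⟩ := ih
        refine ⟨(D.T u c)⁻¹ * w' * D.T u c * w, mul_mem ?_ hw, ?_⟩
        · have := hnorm (-c) w' hw'
          rwa [← hinv, inv_inv] at this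
        · rw [pow_succ, e, Nat.cast_succ, add_mul, one_mul, ← D.T_mul]; group
    obtain ⟨w', hw', e⟩ := hit p
    rw [CharP.cast_eq_zero, zero_mul, D.T_zero, one_mul] at e
    refine ⟨2, Subtype.ext ?_⟩
    show (D.T u c * w) ^ p ^ 2 = 1
    rw [pow_two p, pow_mul, e, D.Uni_pow hrr p hp2 (Subgroup.mem_inf.1 hw').2]
  have hRM : R ≤ M := by
    rintro _ ⟨c, w, hw, rfl⟩
    exact mul_mem (hM.le (D.T_mem u c)) (Subgroup.mem_inf.1 hw).1
  intro g hg
  exact hM.mem_of_pgroup p h2 hex hR hRM hu ⟨1, 1, one_mem _, (mul_one _).symm⟩ ⟨0, g, hg, by rw [D.T_zero, one_mul]⟩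

/-- elements stabilising `W₁ ⊗ r` lie in the stabiliser of the decomposition -/
theorem Tight.mem_of_line (hM : D.Tight M) (p : ℕ) [Fact p.Prime] [CharP F p] (hp2 : p ≠ 2)
    (hex : D.Generic) {r : W₂} (hr : r ≠ 0) (hrr : D.f₂ r r = 0) {g : GLm} (hg : g ∈ M)
    (hstab : ∀ z, (g : Mat) *ᵥ D.τ z r ∈ D.R₂ r) : g ∈ D.H := by
  have h2 : (2 : F) ≠ 0 := Ring.two_ne_zero (by rwa [ringChar.eq F p])
  obtain ⟨u, hu⟩ := D.exists_ne₁
  obtain ⟨r', hr'⟩ := D.exists_one₂ hr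
  set T := D.T u (1 : F) with hT
  set x := g⁻¹ * T * g with hx
  suffices hxH : x ∈ D.H by
    have : g⁻¹ ∈ D.H := hM.mem_of_conj p h2 hex (inv_mem hg) hu (by rw [inv_inv]; exact hxH)
    simpa using inv_mem this
  have hTM : T ∈ M := hM.le (D.T_mem u 1)
  have hxM : x ∈ M := mul_mem (mul_mem (inv_mem hg) hTM) hg
  have hxs := Symp.mem_spGL_iff.1 (hM.sp hxM)
  -- `x` commutes with the Siegel elements
  have hcomm : ∀ w (hw : D.f₂ r w = 0), x * D.krOne (D.sieg r w) (sieg_isom h2 hrr hw) =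
      D.krOne (D.sieg r w) (sieg_isom h2 hrr hw) * x := by
    intro w hw
    set E := D.krOne (D.sieg r w) (sieg_isom h2 hrr hw)
    have hEH : E ∈ D.H := D.krOne_mem _ _
    have hU : g * E * g⁻¹ ∈ D.Uni r := D.Uni_conj (hM.sp hg) hstab (D.sieg_mem_Uni h2 hrr hw)
    have hH : g * E * g⁻¹ ∈ D.H := hM.uni_le p hp2 hex hrr
      (Subgroup.mem_inf.2 ⟨mul_mem (mul_mem hg (hM.le hEH)) (inv_mem hg), hU⟩)
    obtain ⟨hs, a, b, hab⟩ := hH
    have hbr : ∀ z, D.τ (a z) (b r) = D.τ z r := fun z => by rw [← hab, hU.2.1]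
    set s := D.f₂ (b r) r'
    have hs1 : ∀ z, s • a z = z := fun z => by
      have e := congrArg (D.κ' r') (hbr z)
      rwa [D.κ'_pure, D.κ'_pure, hr', one_smul] at e
    have hs0 : s ≠ 0 := fun e => hu (by rw [← hs1 u, e, zero_smul])
    have ha : ∀ z, a z = s⁻¹ • z := fun z => by
      conv_rhs => rw [← hs1 z]
      rw [inv_smul_smul₀ hs0]
    have e := D.conj_T hab (μ := s⁻¹ * s⁻¹) (mul_ne_zero (inv_ne_zero hs0) (inv_ne_zero hs0))
      (fun z z' => by rw [ha, ha]; simp [mul_assoc]) u 1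
    rw [ha, D.T_smul, show 1 / (s⁻¹ * s⁻¹) * s⁻¹ * s⁻¹ = (1 : F) by field_simp, mul_inv_eq_iff_eq_mul] at e
    have e' := congrArg (fun z => g⁻¹ * z * g) e
    simp only [hx, hT] at e' ⊢
    calc g⁻¹ * D.T u 1 * g * E = g⁻¹ * (D.T u 1 * (g * E * g⁻¹)) * g := by group
      _ = g⁻¹ * ((g * E * g⁻¹) * D.T u 1) * g := e'.symm
      _ = E * (g⁻¹ * D.T u 1 * g) := by group
  -- `x` stabilises `W₁ ⊗ r`
  have hxR : ∀ z, (x : Mat) *ᵥ D.τ z r ∈ D.R₂ r := by
    intro z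
    obtain ⟨z₁, hz₁⟩ := hstab z
    obtain ⟨z₂, hz₂⟩ := D.T_stab u 1 r z₁
    have hle : img g (D.R₂ r) ≤ D.R₂ r := fun q hq => by
      obtain ⟨_, ⟨y, rfl⟩, rfl⟩ := mem_img.1 hq
      exact hstab y
    obtain ⟨q, hq, hqe⟩ := mem_img.1
      ((Submodule.eq_of_le_of_finrank_eq hle (finrank_img g _)).ge (D.tau_mem_R₂ z₂ r))
    rw [hx, mulVec_mul_GL, mulVec_mul_GL, ← hz₁, LinearMap.flip_apply, hT, ← hz₂, LinearMap.flip_apply, ← hqe,
      inv_mulVec_cancel]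
    exact hq
  set a : W₁ →ₗ[F] W₁ := (D.κ' r').comp ((Matrix.toLin' (x : Mat)).comp (D.τ.flip r)) with hadef
  have haR : ∀ z, (x : Mat) *ᵥ D.τ z r = D.τ (a z) r := fun z => by
    obtain ⟨y, hy⟩ := hxR z
    rw [← hy, LinearMap.flip_apply]
    congr 2
    show y = D.κ' r' ((x : Mat) *ᵥ D.τ z r)
    rw [← hy, LinearMap.flip_apply, D.κ'_pure, hr', one_smul]
  have hperp : ∀ z w', D.f₂ r w' = 0 → D.κ' r ((x : Mat) *ᵥ D.τ z w') = 0 := fun z w' hw' => D.κ'_eq fun y => by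
    have hai : Function.Surjective a := LinearMap.injective_iff_surjective.1 ((injective_iff_map_eq_zero a).2
      fun y hy => by
        have := haR y
        rw [hy, map_zero, LinearMap.zero_apply] at this
        exact D.tau_left hr (mulVec_inj x (this.trans (Matrix.mulVec_zero _).symm)))
    obtain ⟨y', rfl⟩ := hai y
    rw [← haR, hxs, D.pair, D.symm w', hw', mul_zero, map_zero, LinearMap.zero_apply]
  -- modulo `W₁ ⊗ r` it is `a ⊗ 1`
  have hmod : ∀ z w', D.f₂ r w' = 0 → (x : Mat) *ᵥ D.τ z w' - D.τ (a z) w' ∈ D.R₂ r := by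
    intro z w' hw'
    refine D.mem_R₂_of_perp hr' fun w hw => ?_
    have e := congrArg (fun y : GLm => (y : Mat) *ᵥ D.τ z w') (hcomm w hw)
    simp only [mulVec_mul_GL, D.sieg_form h2 hrr hw, hperp z w' hw', D.κ'_pure, D.symm w' r, hw', zero_smul,
      map_zero, LinearMap.zero_apply, smul_zero, add_zero, mulVec_sub, map_smul, LinearMap.smul_apply, mulVec_smul,
      haR] at e
    have e2 : D.κ' w ((x : Mat) *ᵥ D.τ z w') = D.f₂ w' w • a z := by
      refine sub_eq_zero.1 (D.tau_left hr ?_)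
      rw [map_sub, LinearMap.sub_apply, map_smul, LinearMap.smul_apply]
      linear_combination (norm := module) e
    rw [map_sub, e2, D.κ'_pure, sub_self]
  -- `a` is symplectic
  have hasp : ∀ z z', D.f₁ (a z) (a z') = D.f₁ z z' := by
    intro z z'
    obtain ⟨t, t', h1, h3, h4⟩ := D.exists_perp_pair hr'
    obtain ⟨l, hl⟩ := hmod z t h1
    obtain ⟨l', hl'⟩ := hmod z' t' h3
    have e := hxs (D.τ z t) (D.τ z' t')
    rw [show (x : Mat) *ᵥ D.τ z t = D.τ (a z) t + D.τ l r by rw [← D.τ.flip_apply l r, hl, add_sub_cancel],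
      show (x : Mat) *ᵥ D.τ z' t' = D.τ (a z') t' + D.τ l' r by rw [← D.τ.flip_apply l' r, hl', add_sub_cancel]] at e
    simpa [D.pair, hrr, h3, D.symm t r, h1, h4] using e
  have hkr : ∀ z y z' y', D.f₁ (a z) (a z') * D.f₂ ((LinearMap.id : W₂ →ₗ[F] W₂) y) ((LinearMap.id : W₂ →ₗ[F] W₂) y') =
      D.f₁ z z' * D.f₂ y y' := fun z y z' y' => by rw [hasp]; rfl
  set c := D.kr a LinearMap.id hkr
  have hcH : c ∈ D.H := D.kr_mem _ _ _
  have hcpure : ∀ z y, (c : Mat) *ᵥ D.τ z y = D.τ (a z) y := fun z y => D.kr_pure a LinearMap.id hkr z y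
  suffices hU : c⁻¹ * x ∈ D.Uni r by
    have := hM.uni_le p hp2 hex hrr (Subgroup.mem_inf.2 ⟨mul_mem (inv_mem (hM.le hcH)) hxM, hU⟩)
    simpa using mul_mem hcH this
  refine ⟨mul_mem (inv_mem (D.H_le hcH)) (hM.sp hxM), fun z => ?_, fun q hq => ?_⟩
  · rw [mulVec_mul_GL, haR, ← hcpure, inv_mulVec_cancel]
  let P : Vec →ₗ[F] Vec := LinearMap.id - (D.τ.flip r').comp (D.κ' r)
  have hP : P q = q := by simp [P, hq]
  have hall : (D.R₂ r).mkQ.comp ((Matrix.toLin' (x : Mat) - Matrix.toLin' (c : Mat)).comp P) = 0 :=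
    D.ext_pure fun z y => by
      show Submodule.Quotient.mk _ = 0
      rw [Submodule.Quotient.mk_eq_zero]
      have hw : D.f₂ r (y - D.f₂ y r • r') = 0 := by simp [hr', D.symm y r]
      have := hmod z _ hw
      rw [← hcpure] at this
      convert this using 1
      simp [P, D.κ'_pure, map_sub, map_smul, Matrix.toLin'_apply, mulVec_sub, mulVec_smul]
      module
  have e := LinearMap.congr_fun hall q
  rw [LinearMap.comp_apply, LinearMap.comp_apply, hP] at e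
  change Submodule.Quotient.mk _ = 0 at e
  rw [Submodule.Quotient.mk_eq_zero] at e
  obtain ⟨l, hl⟩ := e
  have hai : Function.Surjective a := LinearMap.injective_iff_surjective.1 ((injective_iff_map_eq_zero a).2
    fun y hy => by
      have := haR y
      rw [hy, map_zero, LinearMap.zero_apply] at this
      exact D.tau_left hr (mulVec_inj x (this.trans (Matrix.mulVec_zero _).symm)))
  obtain ⟨l, rfl⟩ := hai l
  refine ⟨l, mulVec_inj c ?_⟩
  rw [LinearMap.flip_apply, hcpure, ← D.τ.flip_apply, hl, mulVec_mul_GL, mulVec_sub, mulVec_inv_cancel]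
  simp [Matrix.toLin'_apply]

end Data

end Cfsg.Agent.Forms.Max.SympTensor
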